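import Cfsg.Agent.Lib.G2Natural.BitLin

/-!
Kernel-friendly forms of the operations on bit-string linear maps, and tables of such maps.
-/

set_option autoImplicit false

namespace Cfsg.Agent.Lib.SuzEightExt

open Cfsg.Agent.Lib.G2Natural

/-- `bitApply` by raw recursion. -/
noncomputable def applyR (L : List ℕ) : ℕ → ℕ :=
  List.rec (motive := fun _ => ℕ → ℕ) (fun _ => 0)
    (fun x _ f v => Nat.xor (Nat.mul x (Nat.mod v 2)) (f (Nat.div v 2))) L

theorem applyR_eq : ∀ (L : List ℕ) (v : ℕ), applyR L v = bitApply L v
  | [], _ => rfl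
  | x :: L, v => by
    show Nat.xor (x * (v % 2)) (applyR L (v / 2)) = _
    rw [applyR_eq L, bitApply]; rfl

/-- `bitComp` by raw recursion. -/
noncomputable def compR (A B : List ℕ) : List ℕ :=
  List.rec (motive := fun _ => List ℕ) [] (fun x _ r => applyR A x :: r) B

theorem compR_eq (A : List ℕ) : ∀ B : List ℕ, compR A B = bitComp A B
  | [] => rfl
  | x :: B => by
    show applyR A x :: compR A B = _
    rw [compR_eq A B, applyR_eq]; rfl

/-- Equality of lists. -/
noncomputable def eqR (A : List ℕ) : List ℕ → Bool :=
  List.rec (motive := fun _ => List ℕ → Bool)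
    (fun B => List.rec (motive := fun _ => Bool) true (fun _ _ _ => false) B)
    (fun a _ f B => List.rec (motive := fun _ => Bool) false (fun b t _ => Nat.beq a b && f t) B) A

theorem eq_of_eqR : ∀ {A B : List ℕ}, eqR A B = true → A = B
  | [], [], _ => rfl
  | [], _ :: _, h => Bool.noConfusion h
  | _ :: _, [], h => Bool.noConfusion h
  | a :: A, b :: B, h => by
    change (Nat.beq a b && eqR A B) = true at h
    rw [Bool.and_eq_true] at h
    rw [Nat.eq_of_beq_eq_true h.1, eq_of_eqR h.2]

/-- All entries are below `4096`. -/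
noncomputable def boundedR (L : List ℕ) : Bool := L.all fun x => Nat.blt x 4096

theorem bounded_of_boundedR {L : List ℕ} (h : boundedR L = true) : BitBounded L := by
  intro x hx
  simpa [Nat.blt_eq] using List.all_eq_true.1 h x hx

/-- Pointwise exclusive or. -/
def xorList : List ℕ → List ℕ → List ℕ
  | a :: A, b :: B => (a ^^^ b) :: xorList A B
  | _, _ => []

theorem bitApply_xorList : ∀ (A B : List ℕ) (v : ℕ), A.length = B.length →
    bitApply (xorList A B) v = bitApply A v ^^^ bitApply B v
  | [], [], _, _ => by simp [xorList, bitApply]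
  | [], _ :: _, _, h => by simp at h
  | _ :: _, [], _, h => by simp at h
  | a :: A, b :: B, v, h => by
    rw [xorList, bitApply, bitApply_xorList A B _ (by simpa using h), bitApply, bitApply]
    have : (a ^^^ b) * (v % 2) = a * (v % 2) ^^^ b * (v % 2) := by
      rcases Nat.mod_two_eq_zero_or_one v with hv | hv <;> simp [hv]
    rw [this, Nat.xor_assoc, Nat.xor_assoc]
    ac_rfl

theorem bitBounded_xorList : ∀ {A B : List ℕ}, BitBounded A → BitBounded B → BitBounded (xorList A B)
  | [], _, _, _ => by simp [xorList, BitBounded]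
  | _ :: _, [], _, _ => by simp [xorList, BitBounded]
  | a :: A, b :: B, hA, hB => by
    intro x hx
    rw [xorList, List.mem_cons] at hx
    rcases hx with rfl | hx
    · exact xor_lt_bound (hA a List.mem_cons_self) (hB b List.mem_cons_self)
    · exact bitBounded_xorList (fun y hy => hA y (List.mem_cons_of_mem _ hy))
        (fun y hy => hB y (List.mem_cons_of_mem _ hy)) x hx

theorem bitEnd_xorList {A B : List ℕ} (hlen : A.length = B.length) (hA : BitBounded A) (hB : BitBounded B) :
    bitEnd (xorList A B) = bitEnd A + bitEnd B := by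
  refine AddMonoidHom.ext fun a => bit12_ext ?_
  have h1 := bitEnd_code (bitBounded_xorList hA hB) a
  have h2 := bit12_add_code (bitEnd A a) (bitEnd B a)
  have h3 := bitEnd_code hA a
  have h4 := bitEnd_code hB a
  have h5 := bitApply_xorList A B a.code.val hlen
  exact h1.trans (h5.trans (by rw [← h3, ← h4]; exact h2.symm))

/-- Tables indexed by natural numbers: a node records the size of its left branch. -/
inductive Tbl (α : Type) where
  | leaf (v : α) : Tbl α
  | node (m : ℕ) (l r : Tbl α) : Tbl α

/-- Entry of a table. -/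
noncomputable def Tbl.get {α : Type} (t : Tbl α) : ℕ → α :=
  Tbl.rec (motive := fun _ => ℕ → α) (fun v _ => v)
    (fun m _ _ gl gr i => Bool.rec (motive := fun _ => α) (gr (Nat.sub i m)) (gl i) (Nat.blt i m)) t

end Cfsg.Agent.Lib.SuzEightExt
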