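import Cfsg.Agent.Lib.SuzEightExt.Code

/-! Certificate data for the group Sz(8):3 acting on bit strings of length twelve. -/

set_option autoImplicit false

namespace Cfsg.Agent.Lib.SuzEightExt

def genX : List ℕ :=
  [1038, 2071, 1573, 3830, 3007, 1005, 3567, 3917, 2641, 635, 1198, 2319]

def genY : List ℕ :=
  [1024, 3584, 2048, 2752, 1600, 896, 816, 3408, 1272, 1381, 3819, 2137]

def genXInv : List ℕ :=
  [1521, 2426, 1644, 249, 426, 460, 943, 1485, 2385, 3515, 4078, 2895]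

def genYInv : List ℕ :=
  [2508, 3174, 2869, 375, 169, 212, 22, 29, 58, 7, 1, 4]

def stabA : List ℕ :=
  [3885, 2761, 914, 4016, 3064, 872, 1728, 3456, 4032, 1024, 2048, 1536]

def stabB : List ℕ :=
  [2005, 3674, 827, 1520, 1640, 3856, 3776, 960, 2112, 1024, 1536, 3584]

def scalar : List ℕ :=
  [2, 4, 3, 16, 32, 24, 128, 256, 192, 1024, 2048, 1536]

def scalarFour : List ℕ :=
  [6, 7, 5, 48, 56, 40, 384, 448, 320, 3072, 3584, 2560]

def twistInv : List ℕ :=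
  [7, 5, 1, 56, 40, 8, 448, 320, 64, 3584, 2560, 512]

def fixFive : List ℕ :=
  [891, 3297, 1134, 212, 125, 419, 389, 131, 449, 481, 302, 346]

def fixSeven : List ℕ :=
  [2368, 2752, 1600, 679, 3564, 1309, 295, 364, 221, 433, 150, 506]

def fixThree : List ℕ :=
  [367, 220, 77, 145, 510, 290, 435, 145, 510, 0, 0, 0]

def wordStabA : List Bool :=
  [false, true, true, false, true, true, true, true, false, false, false, true, true, false, true]

def wordStabB : List Bool :=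
  [false, false, true, false, false, true, true, false, true, true, true, true, false, true]

def wordDbl : List Bool :=
  [false]

def wordThirteen : List Bool :=
  [false, false, true, false, true, true, false]

def wordFive : List Bool :=
  [true, false, false, false, true, true]

def wordSeven : List Bool :=
  [false]

def wordSix : List Bool :=
  [true]

def wordFifteen : List Bool :=
  [false, true, false]

def wordThree : List Bool :=
  [true, true]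

def stabListPart0 : Tbl (List ℕ) :=
  (.node 21 (.node 10 (.node 5 (.node 2 (.node 1 (.leaf [1, 2, 4, 8, 16, 32, 64, 128, 256, 512, 1024, 2048]) (.leaf [3885, 2761, 914, 4016, 3064, 872, 1728, 3456, 4032, 1024, 2048, 1536])) (.node 1 (.leaf [2005, 3674, 827, 1520, 1640, 3856, 3776, 960, 2112, 1024, 1536, 3584]) (.node 1 (.leaf [1447, 2525, 1905, 208, 416, 472, 1856, 3136, 3712, 2048, 1536, 3072]) (.leaf [2638, 1317, 1970, 3832, 968, 2144, 3840, 896, 2368, 1536, 3584, 512])))) (.node 2 (.node 1 (.leaf [4039, 577, 2308, 1040, 1560, 3640, 320, 128, 192, 2048, 3072, 2560]) (.leaf [1478, 3842, 2375, 2616, 1568, 552, 256, 320, 192, 1536, 512, 3072])) (.node 1 (.leaf [3934, 2679, 701, 184, 296, 200, 1280, 2240, 1920, 1536, 3072, 3584]) (.node 1 (.leaf [2084, 3126, 2605, 2920, 1168, 1752, 1152, 1728, 4032, 3584, 512, 2048]) (.leaf [555, 2071, 3097, 1632, 3888, 936, 1472, 1600, 3840, 3072, 2560,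 1024]))))) (.node 5 (.node 2 (.node 1 (.leaf [3153, 1470, 3746, 3464, 1200, 4048, 1088, 3968, 2176, 512, 3072, 1024]) (.leaf [2294, 3565, 2642, 1016, 2120, 3360, 2304, 3456, 2880, 1536, 3584, 512])) (.node 1 (.leaf [1012, 3349, 1403, 104, 408, 136, 1664, 960, 3328, 3584, 2048, 2560]) (.node 1 (.leaf [1499, 3849, 2422, 1312, 3944, 2264, 4032, 2304, 2880, 3072, 1024, 3584]) (.leaf [3617, 2586, 564, 1672, 3344, 3808, 2112, 1664, 3328, 512, 1024, 2048])))) (.node 3 (.node 1 (.leaf [3603, 2598, 543, 2720, 792, 1264, 1984, 3392, 3648, 3072, 3584, 2560]) (.node 1 (.leaf [1145, 1804, 4006, 3912, 672, 2288, 3648, 768, 2432, 512, 2048, 3072]) (.leaf [1786, 4043, 615, 2008, 3704, 776, 1408, 1856, 3712, 2560, 1024, 1536]))) (.node 1 (.leaf [555, 3097, 1038, 1632, 936, 3224, 1472, 3840, 2368, 3072, 1024, 3584]) (.node 1 (.leaf [3388, 2958, 1381, 2472, 3408, 2712, 3200, 2752, 1472, 3584, 512, 2048]) (.leaf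 [1903, 732, 3149, 976, 3384, 1376, 832, 3264, 1088, 2048, 2560, 1536])))))) (.node 10 (.node 5 (.node 2 (.node 1 (.leaf [3093, 1083, 3617, 1008, 3344, 1400, 3776, 2112, 2944, 1024, 3584, 2048]) (.leaf [1917, 3177, 3722, 1648, 3256, 3880, 2240, 1920, 3520, 1024, 2048, 1536])) (.node 1 (.leaf [3211, 2791, 1521, 1952, 3952, 680, 2496, 3136, 2816, 3072, 2560, 1024]) (.node 1 (.leaf [1817, 846, 3314, 3528, 1328, 3920, 1600, 896, 3200, 512, 3072, 1024]) (.leaf [2946, 1671, 964, 2584, 1544, 560, 384, 128, 448, 2560, 1536, 512])))) (.node 2 (.node 1 (.leaf [2819, 710, 1415, 1056, 2072, 1584, 448, 320, 64, 3072, 3584, 2560]) (.leaf [3372, 1373, 3787, 1192, 4056, 2312, 3712, 2496, 2816, 3584, 2048, 2560])) (.node 1 (.leaf [2391, 1637, 3225, 336, 96, 152, 2368, 1600, 3200, 2048, 1536, 3072]) (.node 1 (.leaf [1605, 3201, 3842, 3632, 2616, 552, 192, 384, 448, 1024, 2048, 1536]) (.leaf [1221, 1986, 3651,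 1072, 1576, 3600, 192, 448, 64, 1024, 1536, 3584]))))) (.node 5 (.node 2 (.node 1 (.leaf [1052, 2099, 1598, 3304, 3976, 3024, 2176, 1792, 3264, 3584, 2560, 512]) (.leaf [999, 2161, 3372, 1744, 4056, 632, 1856, 3712, 704, 2048, 3072, 2560])) (.node 1 (.leaf [1741, 4066, 627, 3248, 2792, 1488, 3264, 3008, 1088, 1024, 1536, 3584]) (.node 1 (.leaf [925, 3211, 1521, 3952, 2256, 2680, 704, 3136, 1408, 1024, 3584, 2048]) (.leaf [2729, 1236, 2014, 3272, 3040, 1136, 2624, 1280, 1920, 512, 2048, 3072])))) (.node 3 (.node 1 (.leaf [3538, 1343, 3940, 1240, 3656, 2480, 3456, 1152, 4032, 2560, 1536, 512]) (.node 1 (.leaf [3388, 1381, 3819, 2472, 2712, 1992, 3200, 1472, 3840, 3584, 2048, 2560]) (.leaf [1903, 3149, 3729, 976, 1376, 2136, 832, 1088, 2176, 2048, 1536, 3072]))) (.node 1 (.leaf [1394, 1707, 3799, 2200, 3320, 3016, 896, 2368, 3200, 2560, 1024, 1536]) (.node 1 (.leaf [4083, 2321, 2942, 3936, 2280,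 2648, 3008, 1792, 832, 3072, 1024, 3584]) (.leaf [4014, 2202, 3023, 2936, 1760, 616, 3328, 1344, 3776, 1536, 512, 3072])))))))

def stabListPart1 : Tbl (List ℕ) :=
  (.node 21 (.node 10 (.node 5 (.node 2 (.node 1 (.leaf [1236, 2467, 2014, 1832, 3272, 3984, 640, 1280, 2240, 3584, 2560, 512]) (.leaf [2375, 2756, 1605, 2064, 2616, 1568, 320, 192, 64, 2048, 2560, 1536])) (.node 1 (.leaf [2694, 775, 1221, 2104, 1576, 3080, 256, 192, 384, 1536, 3072, 3584]) (.node 1 (.leaf [3743, 2869, 761, 592, 1184, 2328, 3392, 3648, 2688, 2048, 1536, 3072]) (.leaf [3302, 3061, 1130, 1464, 1864, 3744, 768, 2432, 3392, 1536, 3584, 512])))) (.node 2 (.node 1 (.leaf [2516, 3166, 2877, 3368, 2960, 1368, 640, 2240, 3520, 3584, 512, 2048]) (.leaf [1983, 676, 3565, 1680, 1016, 3360, 2880, 1728, 576, 2048, 2560, 1536])) (.node 1 (.leaf [2213, 3051, 1817, 1328, 3920, 2296, 2752, 1600, 896, 1024, 3584, 2048]) (.node 1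 (.leaf [3597, 2577, 546, 2224, 1848, 3304, 3264, 3968, 3008, 1024, 2048, 1536]) (.leaf [2697, 2038, 786, 1608, 944, 3216, 576, 3456, 1152, 512, 3072, 1024]))))) (.node 5 (.node 2 (.node 1 (.leaf [4058, 2932, 635, 2456, 2032, 3448, 2944, 960, 1344, 2560, 512, 1024]) (.leaf [2084, 1563, 3126, 2920, 584, 1168, 1152, 2304, 1728, 3584, 2560, 512])) (.node 1 (.leaf [3023, 1121, 1844, 2320, 3480, 2936, 1344, 1664, 3776, 2048, 3072, 2560]) (.node 1 (.leaf [3722, 2551, 2836, 2392, 2760, 1648, 1920, 640, 3520, 2560, 1536, 512]) (.leaf [2459, 2038, 3455, 3872, 2776, 944, 4032, 2880, 576, 3072, 3584, 2560])))) (.node 3 (.node 1 (.leaf [654, 1303, 2277, 760, 1448, 2504, 3840, 2752, 896, 1536, 3072, 3584]) (.node 1 (.leaf [1116, 1854, 3981, 232, 464, 88, 2176, 3264, 3008, 3584, 512, 2048]) (.leaf [1663, 3245, 3849, 656, 1312, 2264, 2880, 576, 1152, 2048, 1536, 3072]))) (.node 1 (.leaf [2094, 3093, 2586,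 1400, 1672, 3808, 3328, 2944, 1344, 1536, 3584, 512]) (.node 1 (.leaf [4095, 585, 2340, 144, 216, 504, 2880, 1152, 1728, 2048, 3072, 2560]) (.leaf [4078, 2330, 2895, 3960, 2272, 2664, 3328, 1344, 3776, 1536, 512, 3072])))))) (.node 10 (.node 5 (.node 2 (.node 1 (.leaf [1699, 3831, 1001, 4064, 624, 2344, 3520, 2624, 1280, 3072, 2560, 1024]) (.leaf [1438, 1917, 3722, 3256, 2760, 1504, 1280, 1920, 3904, 1536, 3584, 512])) (.node 1 (.leaf [1252, 3693, 2459, 2408, 2776, 1608, 1152, 4032, 2304, 3584, 2048, 2560]) (.node 1 (.leaf [1103, 1825, 4020, 2832, 1432, 1912, 1344, 1664, 3776, 2048, 3072, 2560]) (.leaf [3614, 2058, 2615, 696, 3552, 1320, 1280, 3904, 2240, 1536, 512, 3072])))) (.node 2 (.node 1 (.leaf [3767, 2516, 2877, 2960, 1720, 992, 3904, 2240, 2624, 2048, 2560, 1536]) (.leaf [2294, 1983, 3565, 1016, 1384, 2120, 2304, 1728, 3456, 1536, 3072, 3584])) (.node 1 (.leaf [3189, 2858, 1427, 2800,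 1512, 1616, 1216, 1984, 3648, 1024, 1536, 3584]) (.node 1 (.leaf [1269, 3667, 2489, 240, 80, 440, 1216, 3648, 2432, 1024, 3584, 2048]) (.leaf [2993, 1686, 1018, 1800, 880, 3280, 3136, 1408, 3712, 512, 3072, 1024]))))) (.node 5 (.node 2 (.node 1 (.leaf [1394, 2172, 1707, 2200, 1840, 3320, 896, 1472, 2368, 2560, 512, 1024]) (.leaf [1394, 3799, 2172, 2200, 3016, 1840, 896, 3200, 1472, 2560, 1536, 512])) (.node 1 (.leaf [4083, 2942, 623, 3936, 2648, 688, 3008, 832, 1088, 3072, 3584, 2560]) (.node 1 (.leaf [4014, 3023, 853, 2936, 616, 1160, 3328, 3776, 2944, 1536, 3072, 3584]) (.leaf [1236, 2014, 3709, 1832, 3984, 856, 640, 2240, 3520, 3584, 512, 2048])))) (.node 3 (.node 1 (.leaf [857, 2236, 3278, 4040, 608, 2352, 1600, 3840, 896, 512, 2048, 3072]) (.node 1 (.leaf [1954, 687, 3548, 3672, 2440, 2736, 3968, 2176, 3008, 2560, 1536, 512]) (.leaf [2487, 2045, 3433, 1424, 2528, 1880, 3904, 2624, 640,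 2048, 1536, 3072]))) (.node 1 (.leaf [3523, 1281, 3910, 3104, 1064, 3608, 448, 256, 320, 3072, 1024, 3584]) (.node 1 (.leaf [2858, 716, 1427, 3864, 2800, 952, 2432, 1984, 3392, 2560, 512, 1024]) (.leaf [3667, 799, 2489, 160, 240, 488, 1984, 3648, 768, 3072, 2560, 1024])))))))

def stabListPart2 : Tbl (List ℕ) :=
  (.node 21 (.node 10 (.node 5 (.node 2 (.node 1 (.leaf [2422, 2770, 1663, 3576, 1312, 3944, 2304, 2880, 1728, 1536, 512, 3072]) (.leaf [564, 1083, 2094, 2152, 1672, 3344, 1664, 3328, 3776, 3584, 2560, 512])) (.node 1 (.leaf [1755, 3510, 4095, 288, 216, 432, 4032, 2880, 576, 3072, 3584, 2560]) (.node 1 (.leaf [1185, 1780, 4078, 648, 2272, 3568, 2112, 3328, 2944, 512, 2048, 3072]) (.leaf [1470, 2543, 1869, 2360, 1768, 3464, 1792, 3264, 3968, 1536, 3072, 3584])))) (.node 2 (.node 1 (.leaf [1772, 4054, 605, 3240, 2768, 1496, 3712, 704, 2496, 3584, 512, 2048]) (.leaf [3955, 687, 2257,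 3424, 2736, 1256, 3008, 1088, 1792, 3072, 2560, 1024])) (.node 1 (.leaf [1905, 726, 3194, 264, 368, 208, 3136, 1408, 3712, 512, 3072, 1024]) (.node 1 (.leaf [2794, 1491, 1631, 3352, 3000, 1352, 2432, 3392, 2688, 2560, 1024, 1536]) (.leaf [3603, 2105, 2598, 2720, 2024, 792, 1984, 768, 3392, 3072, 1024, 3584]))))) (.node 5 (.node 2 (.node 1 (.leaf [3862, 2426, 2791, 2680, 1952, 680, 2816, 1856, 704, 1536, 512, 3072]) (.leaf [4028, 3051, 846, 1960, 3528, 3920, 3200, 3840, 2752, 3584, 2560, 512])) (.node 1 (.leaf [1111, 4028, 2213, 3920, 2296, 2656, 2368, 2752, 1600, 2048, 2560, 1536]) (.node 1 (.leaf [1598, 3119, 3597, 1848, 3304, 3976, 1792, 3264, 3968, 1536, 3072, 3584]) (.leaf [2319, 1749, 3489, 784, 1248, 2456, 1344, 2112, 1664, 2048, 1536, 3072])))) (.node 3 (.node 1 (.leaf [3358, 3005, 1354, 1208, 1736, 4064, 1280, 1920, 3904, 1536, 3584, 512]) (.node 1 (.leaf [3869, 2379, 2801, 1392,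 3792, 2168, 704, 3136, 1408, 1024, 3584, 2048]) (.leaf [3045, 857, 1138, 2352, 1784, 3496, 2752, 896, 1472, 1024, 2048, 1536]))) (.node 1 (.leaf [1154, 1731, 4039, 1560, 3640, 520, 384, 320, 128, 2560, 1024, 1536]) (.node 1 (.leaf [1786, 3500, 4043, 2008, 3440, 3704, 1408, 2496, 1856, 2560, 512, 1024]) (.leaf [3910, 645, 2242, 568, 2056, 3104, 256, 384, 320, 1536, 3584, 512])))))) (.node 10 (.node 5 (.node 2 (.node 1 (.leaf [4, 5, 3, 40, 24, 8, 128, 448, 256, 3584, 2048, 2560]) (.leaf [761, 3174, 1450, 2888, 1776, 592, 3648, 2432, 2688, 512, 3072, 1024])) (.node 1 (.leaf [1130, 2188, 1811, 2840, 752, 1464, 2432, 1984, 3392, 2560, 512, 1024]) (.node 1 (.leaf [1516, 2379, 1622, 1704, 3336, 3792, 3712, 2816, 704, 3584, 2560, 512]) (.leaf [3991, 857, 2236, 2896, 1176, 1784, 2368, 3200, 2752, 2048, 3072, 2560])))) (.node 2 (.node 1 (.leaf [3947, 2638, 663, 2144, 1688, 3376, 1472, 2368, 1600, 3072,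 3584, 2560]) (.leaf [3921, 668, 2302, 1416, 1888, 3760, 1088, 1792, 3968, 512, 2048, 3072])) (.node 1 (.leaf [2330, 3515, 2895, 1944, 3960, 648, 2944, 1344, 1664, 2560, 1024, 1536]) (.node 1 (.leaf [2147, 2985, 1694, 2016, 808, 3416, 3520, 1280, 3904, 3072, 1024, 3584]) (.leaf [2966, 999, 1373, 632, 1192, 2312, 2816, 704, 1408, 1536, 3072, 3584]))))) (.node 5 (.node 2 (.node 1 (.leaf [2812, 1486, 1637, 424, 336, 152, 3200, 2752, 1472, 3584, 512, 2048]) (.leaf [899, 2375, 3201, 1568, 3632, 552, 448, 64, 256, 3072, 2560, 1024])) (.node 1 (.leaf [2433, 2694, 1986, 3080, 1072, 3600, 64, 384, 128, 512, 3072, 1024]) (.node 1 (.leaf [4054, 605, 2362, 1656, 3848, 928, 2816, 1408, 1856, 1536, 3584, 512]) (.leaf [3964, 2277, 2667, 1448, 3736, 2504, 3200, 1472, 3840, 3584, 2048, 2560])))) (.node 3 (.node 1 (.leaf [2819, 1857, 710, 1056, 3624, 2072, 448, 256, 320, 3072, 1024, 3584]) (.node 1 (.leaf [3777,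 2946, 964, 1544, 3088, 3616, 64, 128, 256, 512, 1024, 2048]) (.leaf [1804, 4006, 885, 3560, 2640, 1304, 2688, 1216, 1984, 3584, 512, 2048]))) (.node 1 (.leaf [1887, 716, 3189, 1616, 952, 3232, 3392, 1216, 3648, 2048, 2560, 1536]) (.node 1 (.leaf [1875, 3743, 761, 1184, 1776, 4072, 1984, 3648, 768, 3072, 2560, 1024]) (.leaf [889, 3302, 1130, 1864, 752, 3152, 3648, 2432, 2688, 512, 3072, 1024])))))))

def stabListPart3 : Tbl (List ℕ) :=
  (.node 21 (.node 10 (.node 5 (.node 2 (.node 1 (.leaf [954, 3239, 1516, 984, 3336, 1392, 1408, 3712, 2496, 2560, 1536, 512]) (.leaf [1835, 3278, 3991, 608, 1176, 2352, 1472, 2368, 1600, 3072, 3584, 2560])) (.node 1 (.leaf [1798, 3973, 834, 1592, 3592, 544, 256, 384, 320, 1536, 3584, 512]) (.node 1 (.leaf [1924, 645, 3523, 1064, 3608, 2056, 128, 448, 256, 3584, 2048, 2560]) (.leaf [1811, 889, 3302, 3744, 2536, 2840, 1984, 768, 3392, 3072, 1024, 3584])))) (.node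 2 (.node 1 (.leaf [761, 1450, 2508, 2888, 592, 1184, 3648, 2688, 768, 512, 1024, 2048]) (.leaf [2406, 2794, 1631, 3000, 1696, 1000, 768, 3392, 1216, 1536, 512, 3072])) (.node 1 (.leaf [3084, 3603, 2598, 2024, 3400, 3664, 2688, 768, 1216, 3584, 2560, 512]) (.node 1 (.leaf [3211, 3862, 2791, 1952, 3544, 3952, 2496, 1856, 3136, 3072, 3584, 2560]) (.leaf [1817, 4028, 846, 3528, 2656, 1328, 1600, 3840, 896, 512, 2048, 3072]))))) (.node 5 (.node 2 (.node 1 (.leaf [3311, 3025, 1116, 464, 88, 312, 832, 2176, 3264, 2048, 3072, 2560]) (.leaf [2902, 1786, 615, 3704, 2464, 2728, 2816, 1856, 704, 1536, 512, 3072])) (.node 1 (.leaf [1686, 3367, 3805, 1144, 2216, 1800, 2816, 704, 1408, 1536, 3072, 3584]) (.node 1 (.leaf [2045, 803, 3433, 3184, 1424, 3768, 2240, 2624, 1920, 1024, 3584, 2048]) (.leaf [857, 1138, 2236, 4040, 2896, 608, 1600, 3200, 3840, 512, 1024, 2048])))) (.node 3 (.node 1 (.leaf [1954,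 3955, 687, 3672, 824, 2440, 3968, 832, 2176, 2560, 1024, 1536]) (.node 1 (.leaf [857, 3278, 1138, 4040, 2352, 2896, 1600, 896, 3200, 512, 3072, 1024]) (.leaf [1954, 3548, 3955, 3672, 2736, 824, 3968, 3008, 832, 2560, 512, 1024]))) (.node 1 (.leaf [1012, 1403, 2158, 104, 136, 272, 1664, 3328, 3776, 3584, 2560, 512]) (.node 1 (.leaf [2487, 3433, 2708, 1424, 1880, 3768, 3904, 640, 2240, 2048, 3072, 2560]) (.leaf [3523, 3910, 2631, 3104, 3608, 2608, 448, 320, 64, 3072, 3584, 2560])))))) (.node 10 (.node 5 (.node 2 (.node 1 (.leaf [1, 4, 6, 8, 32, 48, 64, 256, 384, 512, 2048, 3072]) (.leaf [2858, 1427, 1887, 3864, 952, 2376, 2432, 3392, 2688, 2560, 1024, 1536])) (.node 1 (.leaf [3667, 2489, 2726, 160, 488, 280, 1984, 768, 3392, 3072, 1024, 3584]) (.node 1 (.leaf [1637, 3890, 939, 304, 424, 336, 2752, 1472, 1600, 1024, 1536, 3584]) (.leaf [1741, 627, 3473, 3248, 1488, 3896, 3264, 1088, 3968, 1024,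 3584, 2048])))) (.node 2 (.node 1 (.leaf [2017, 814, 3418, 2184, 3056, 1808, 2112, 2944, 1664, 512, 3072, 1024]) (.leaf [2250, 1940, 3555, 344, 112, 184, 1920, 3520, 3904, 2560, 512, 1024])) (.node 1 (.leaf [2726, 799, 1269, 440, 488, 328, 768, 1216, 2432, 1536, 3072, 3584]) (.node 1 (.leaf [1612, 3878, 949, 3048, 1104, 1816, 2688, 1216, 1984, 3584, 512, 2048]) (.leaf [3940, 2285, 2651, 3432, 1240, 3656, 1152, 4032, 2304, 3584, 2048, 2560]))))) (.node 5 (.node 2 (.node 1 (.leaf [1231, 2453, 2017, 1808, 3296, 3992, 1344, 2112, 1664, 2048, 1536, 3072]) (.leaf [3025, 866, 1116, 392, 464, 352, 1088, 2176, 1792, 512, 1024, 2048])) (.node 1 (.leaf [732, 2558, 3149, 3816, 976, 2136, 2176, 3264, 3008, 3584, 512, 2048]) (.node 1 (.leaf [3367, 1388, 3805, 3280, 1144, 4000, 1856, 704, 3136, 2048, 2560, 1536]) (.leaf [3787, 2161, 2966, 3488, 1192, 4056, 2496, 2816, 1856, 3072, 1024, 3584])))) (.node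 3 (.node 1 (.leaf [3225, 3890, 2812, 456, 336, 96, 1600, 3200, 3840, 512, 1024, 2048]) (.node 1 (.leaf [3842, 2756, 899, 3096, 3632, 2616, 384, 448, 320, 2560, 512, 1024]) (.leaf [3651, 775, 2433, 2592, 1072, 1576, 448, 64, 256, 3072, 2560, 1024]))) (.node 1 (.leaf [1772, 3467, 4054, 3240, 3848, 2768, 3712, 2816, 704, 3584, 2560, 512]) (.node 1 (.leaf [1303, 1945, 3964, 1872, 3736, 760, 2368, 3200, 2752, 2048, 3072, 2560]) (.leaf [2501, 3138, 2819, 1584, 3624, 528, 192, 448, 64, 1024, 1536, 3584])))))))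

def stabListPart4 : Tbl (List ℕ) :=
  (.node 21 (.node 10 (.node 5 (.node 2 (.node 1 (.leaf [3333, 1347, 3777, 560, 3088, 1080, 192, 64, 384, 1024, 3584, 2048]) (.leaf [1083, 2094, 1551, 3808, 2968, 1008, 960, 1344, 2112, 3072, 3584, 2560])) (.node 1 (.leaf [3177, 2836, 1438, 2760, 1504, 1648, 2624, 1280, 1920, 512, 2048, 3072]) (.node 1 (.leaf [2058, 3107, 2615, 3928, 696, 2248, 1920, 3904, 640, 2560, 1024, 1536]) (.leaf [1755, 585, 3510, 288, 360, 216, 4032, 2304, 2880, 3072, 1024, 3584])))) (.node 2 (.node 1 (.leaf [3700, 814, 2453, 1128, 1808, 3992, 1664, 3776, 960, 3584, 512, 2048]) (.leaf [2679, 1940, 701, 400, 184, 480, 3904, 2240, 2624, 2048, 2560, 1536])) (.node 1 (.leaf [701, 3555, 1321, 112, 400, 184, 2240, 2624, 1920, 1024, 3584, 2048]) (.node 1 (.leaf [2605, 521, 1042, 3504, 4088, 2920, 1728, 3456, 4032, 1024, 2048, 1536]) (.leaf [1052, 3597, 2099, 3304, 1112, 3976, 2176, 3008,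 1792, 3584, 2048, 2560]))))) (.node 5 (.node 2 (.node 1 (.leaf [999, 1373, 2161, 1744, 3488, 4056, 1856, 3136, 3712, 2048, 1536, 3072]) (.leaf [1891, 745, 3166, 992, 3368, 1368, 3520, 1280, 3904, 3072, 1024, 3584])) (.node 1 (.leaf [3913, 2642, 676, 2120, 1680, 3360, 576, 1152, 2304, 512, 1024, 2048]) (.node 1 (.leaf [3314, 4028, 3051, 664, 1328, 2296, 896, 1472, 2368, 2560, 512, 1024]) (.leaf [2099, 3119, 2577, 864, 2224, 3304, 3008, 1088, 1792, 3072, 2560, 1024])))) (.node 3 (.node 1 (.leaf [846, 3314, 1111, 2296, 2656, 1960, 3840, 2368, 2752, 1536, 512, 3072]) (.node 1 (.leaf [635, 1198, 2319, 1248, 2456, 2032, 960, 1344, 2112, 3072, 3584, 2560]) (.leaf [1001, 2132, 3358, 1736, 4064, 624, 2624, 1280, 1920, 512, 2048, 3072]))) (.node 1 (.leaf [6, 7, 5, 56, 40, 8, 256, 192, 384, 1536, 3072, 3584]) (.node 1 (.leaf [2308, 3462, 2885, 2600, 1040, 1560, 128, 192, 448, 3584, 512, 2048]) (.leaf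 [3283, 3039, 1145, 672, 2288, 3560, 1984, 3648, 768, 3072, 2560, 1024])))))) (.node 10 (.node 5 (.node 2 (.node 1 (.leaf [3769, 2534, 2858, 2376, 2800, 1616, 3648, 2432, 2688, 512, 3072, 1024]) (.leaf [3383, 1364, 3837, 2448, 2744, 2016, 3904, 2240, 2624, 2048, 2560, 1536])) (.node 1 (.leaf [822, 1279, 2477, 2552, 1896, 3144, 2304, 1728, 3456, 1536, 3072, 3584]) (.node 1 (.leaf [1214, 1741, 4066, 3896, 904, 2400, 1792, 3968, 832, 1536, 3584, 512]) (.leaf [3913, 676, 2294, 2120, 3360, 2992, 576, 2304, 3456, 512, 2048, 3072])))) (.node 2 (.node 1 (.leaf [2970, 1679, 1012, 408, 136, 496, 2944, 1664, 960, 2560, 1536, 512]) (.leaf [2729, 778, 1236, 3272, 3984, 3040, 2624, 640, 1280, 512, 1024, 2048])) (.node 1 (.leaf [3538, 2651, 1343, 1240, 2040, 3656, 3456, 2880, 1152, 2560, 1024, 1536]) (.node 1 (.leaf [2651, 1343, 1929, 800, 2480, 3432, 4032, 576, 2304, 3072, 2560, 1024]) (.leaf [914, 3263,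 1508, 3288, 1096, 4016, 3456, 1152, 4032, 2560, 1536, 512]))))) (.node 5 (.node 2 (.node 1 (.leaf [827, 1262, 2447, 2784, 920, 1520, 960, 1344, 2112, 3072, 3584, 2560]) (.leaf [1869, 755, 3153, 1200, 4048, 2360, 3264, 1088, 3968, 1024, 3584, 2048])) (.node 1 (.leaf [605, 1201, 2362, 2416, 1656, 3240, 704, 1408, 2496, 1024, 2048, 1536]) (.node 1 (.leaf [2257, 1954, 3548, 2440, 2000, 3424, 1088, 2176, 1792, 512, 1024, 2048]) (.leaf [3194, 2827, 1447, 472, 120, 264, 1408, 1856, 3712, 2560, 1024, 1536])))) (.node 3 (.node 1 (.leaf [970, 1364, 2147, 3416, 3696, 2744, 1920, 3520, 3904, 2560, 512, 1024]) (.node 1 (.leaf [2715, 1279, 1993, 2848, 1456, 1896, 4032, 576, 2304, 3072, 2560, 1024]) (.leaf [1486, 1637, 3890, 248, 456, 96, 3840, 896, 2368, 1536, 3584, 512]))) (.node 1 (.leaf [2908, 1741, 627, 2792, 1624, 904, 2176, 3008, 1792, 3584, 2048, 2560]) (.node 1 (.leaf [2620, 555, 1038, 936, 1480,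 2384, 3200, 3840, 2752, 3584, 2560, 512]) (.leaf [2543, 3153, 2844, 4048, 600, 2360, 832, 2176, 3264, 2048, 3072, 2560])))))))

def stabListPart5 : Tbl (List ℕ) :=
  (.node 21 (.node 10 (.node 5 (.node 2 (.node 1 (.leaf [2877, 1891, 745, 2160, 2960, 1720, 2240, 2624, 1920, 1024, 3584, 2048]) (.leaf [1857, 3716, 710, 2568, 1056, 1584, 64, 256, 384, 512, 2048, 3072])) (.node 1 (.leaf [1612, 949, 3219, 3048, 1816, 840, 2688, 1984, 768, 3584, 2048, 2560]) (.node 1 (.leaf [1631, 3253, 3897, 2128, 1696, 3352, 3392, 3648, 2688, 2048, 1536, 3072]) (.leaf [739, 1438, 2551, 1504, 2392, 1648, 3520, 3904, 2624, 3072, 3584, 2560])))) (.node 2 (.node 1 (.leaf [2697, 1252, 2038, 1608, 3872, 944, 576, 2304, 3456, 512, 2048, 3072]) (.leaf [3570, 2667, 1303, 3736, 760, 2504, 896, 2368, 3200, 2560, 1024, 1536])) (.node 1 (.leaf [2227, 3025, 1854, 352, 232, 88, 3008, 1792, 832, 3072, 1024, 3584]) (.node 1 (.leaf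 [932, 2422, 3245, 3944, 656, 2264, 1152, 1728, 4032, 3584, 512, 2048]) (.leaf [1551, 564, 3093, 3344, 1400, 3808, 1344, 3776, 2112, 2048, 2560, 1536]))))) (.node 5 (.node 2 (.node 1 (.leaf [2925, 1755, 585, 432, 144, 504, 1728, 576, 3456, 1024, 3584, 2048]) (.leaf [597, 1185, 2330, 3568, 3960, 2664, 3776, 2944, 960, 1024, 2048, 1536])) (.node 1 (.leaf [3107, 2615, 1065, 3552, 2672, 1320, 3520, 2624, 1280, 3072, 2560, 1024]) (.node 1 (.leaf [585, 3510, 1170, 72, 432, 144, 576, 3456, 1152, 512, 3072, 1024]) (.leaf [1970, 663, 3580, 1688, 968, 3376, 896, 3200, 1472, 2560, 1536, 512])))) (.node 3 (.node 1 (.leaf [1331, 2302, 1967, 1888, 3160, 3760, 3008, 832, 1088, 3072, 3584, 2560]) (.node 1 (.leaf [2084, 2605, 1563, 2920, 1752, 584, 1152, 4032, 2304, 3584, 2048, 2560]) (.leaf [3023, 853, 1121, 2320, 1760, 3480, 1344, 2112, 1664, 2048, 1536, 3072]))) (.node 1 (.leaf [3693, 2697, 786, 944, 1528,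 2408, 1728, 3456, 4032, 1024, 2048, 1536]) (.node 1 (.leaf [1749, 4058, 635, 2032, 3688, 784, 3776, 960, 2112, 1024, 1536, 3584]) (.leaf [4066, 627, 2351, 1624, 3896, 904, 3968, 832, 2176, 2560, 1024, 1536])))))) (.node 10 (.node 5 (.node 2 (.node 1 (.leaf [3211, 1521, 3862, 1952, 680, 3544, 2496, 2816, 1856, 3072, 1024, 3584]) (.leaf [1854, 866, 3311, 312, 352, 232, 1792, 832, 3264, 1536, 512, 3072])) (.node 1 (.leaf [3500, 4043, 2902, 2728, 776, 1232, 3712, 2816, 704, 3584, 2560, 512]) (.node 1 (.leaf [2844, 1470, 1869, 1768, 4048, 600, 2176, 3264, 3008, 3584, 512, 2048]) (.leaf [2919, 1772, 605, 2768, 1656, 928, 1856, 704, 3136, 2048, 2560, 1536])))) (.node 2 (.node 1 (.leaf [1293, 3955, 2257, 2736, 2000, 824, 3264, 1088, 3968, 1024, 3584, 2048]) (.leaf [2525, 1905, 3194, 368, 120, 168, 704, 1408, 2496, 1024, 2048, 1536])) (.node 1 (.leaf [2985, 1694, 970, 1224, 3696, 2448, 2624, 1920,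 640, 512, 3072, 1024]) (.node 1 (.leaf [3410, 3684, 2715, 728, 1456, 2552, 3456, 4032, 2880, 2560, 512, 1024]) (.leaf [2812, 939, 1486, 424, 456, 336, 3200, 3840, 2752, 3584, 2560, 512]))))) (.node 5 (.node 2 (.node 1 (.leaf [2351, 3473, 2908, 1488, 1624, 3896, 832, 2176, 3264, 2048, 3072, 2560]) (.leaf [1825, 878, 3290, 3720, 2544, 2832, 2112, 2944, 1664, 512, 3072, 1024])) (.node 1 (.leaf [2747, 814, 1231, 3296, 3992, 3056, 960, 1344, 2112, 3072, 3584, 2560]) (.node 1 (.leaf [3548, 1293, 3955, 1256, 3672, 2440, 2176, 3008, 1792, 3584, 2048, 2560]) (.leaf [1869, 3153, 3746, 1200, 2360, 1768, 3264, 3968, 3008, 1024, 2048, 1536])))) (.node 3 (.node 1 (.leaf [605, 2362, 3467, 2416, 3240, 2768, 704, 2496, 3136, 1024, 1536, 3584]) (.node 1 (.leaf [1331, 3921, 2302, 1888, 744, 3160, 3008, 1792, 832, 3072, 1024, 3584]) (.leaf [2801, 954, 1516, 3336, 3792, 2976, 3136, 3712, 2816, 512, 1024, 2048])))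 (.node 1 (.leaf [546, 1052, 2099, 1112, 2224, 1848, 3968, 3008, 832, 2560, 512, 1024]) (.node 1 (.leaf [3787, 999, 2161, 3488, 2928, 1192, 2496, 3136, 2816, 3072, 2560, 1024]) (.leaf [2516, 1891, 3166, 3368, 3784, 2960, 640, 1280, 2240, 3584, 2560, 512])))))))

def stabListPart6 : Tbl (List ℕ) :=
  (.node 21 (.node 10 (.node 5 (.node 2 (.node 1 (.leaf [1983, 3913, 676, 1680, 3800, 1016, 2880, 1152, 1728, 2048, 3072, 2560]) (.leaf [2213, 3314, 3051, 1328, 1960, 3920, 2752, 1472, 1600, 1024, 1536, 3584])) (.node 1 (.leaf [3597, 2099, 2577, 2224, 3024, 1848, 3264, 1088, 3968, 1024, 3584, 2048]) (.node 1 (.leaf [4078, 597, 2330, 3960, 648, 2272, 3328, 2944, 1344, 1536, 3584, 512]) (.leaf [1364, 3837, 2147, 808, 3416, 1224, 640, 3520, 1280, 3584, 2048, 2560])))) (.node 2 (.node 1 (.leaf [2467, 2729, 2014, 3040, 1832, 856, 3520, 1280, 3904, 3072, 1024, 3584]) (.leaf [1929, 3538, 3940, 3656, 2704,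 800, 576, 1152, 2304, 512, 1024, 2048])) (.node 1 (.leaf [803, 1246, 2487, 2528, 1880, 3184, 3520, 3904, 2624, 3072, 3584, 2560]) (.node 1 (.leaf [2761, 1508, 1654, 1096, 1824, 4016, 576, 2304, 3456, 512, 2048, 3072]) (.leaf [799, 3404, 1269, 80, 440, 160, 3392, 1216, 3648, 2048, 2560, 1536]))))) (.node 5 (.node 2 (.node 1 (.leaf [3878, 2783, 949, 4024, 3048, 840, 768, 1216, 2432, 1536, 3072, 3584]) (.leaf [1637, 3225, 3890, 304, 248, 424, 2752, 896, 1472, 1024, 2048, 1536])) (.node 1 (.leaf [2017, 3700, 814, 2184, 3296, 3056, 2112, 3328, 2944, 512, 2048, 3072]) (.node 1 (.leaf [2250, 2679, 1940, 344, 200, 112, 1920, 640, 3520, 2560, 1536, 512]) (.leaf [1637, 939, 3225, 304, 336, 248, 2752, 1600, 896, 1024, 3584, 2048])))) (.node 3 (.node 1 (.leaf [1741, 3473, 4066, 3248, 3896, 2792, 3264, 3968, 3008, 1024, 2048, 1536]) (.node 1 (.leaf [2017, 3418, 3700, 2184, 1808, 3296, 2112, 1664, 3328,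 512, 1024, 2048]) (.leaf [2250, 3555, 2679, 344, 184, 200, 1920, 3904, 640, 2560, 1024, 1536]))) (.node 1 (.leaf [2946, 964, 1347, 2584, 560, 1080, 384, 448, 320, 2560, 512, 1024]) (.node 1 (.leaf [2819, 1415, 1857, 1056, 1584, 3624, 448, 64, 256, 3072, 2560, 1024]) (.leaf [2726, 1269, 2026, 440, 328, 160, 768, 2432, 3392, 1536, 3584, 512])))))) (.node 10 (.node 5 (.node 2 (.node 1 (.leaf [3940, 2651, 694, 3432, 3656, 2704, 1152, 2304, 1728, 3584, 2560, 512]) (.leaf [1231, 2017, 3700, 1808, 3992, 888, 1344, 1664, 3776, 2048, 3072, 2560])) (.node 1 (.leaf [3885, 914, 2395, 4016, 872, 2192, 1728, 4032, 576, 1024, 1536, 3584]) (.node 1 (.leaf [2005, 827, 3425, 1520, 3856, 2424, 3776, 2112, 2944, 1024, 3584, 2048]) (.leaf [3025, 1116, 1854, 392, 352, 176, 1088, 1792, 3968, 512, 2048, 3072])))) (.node 2 (.node 1 (.leaf [1786, 615, 3500, 2008, 776, 3440, 1408, 3712, 2496, 2560, 1536, 512]) (.leaf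 [732, 3149, 1459, 3816, 2136, 2952, 2176, 3008, 1792, 3584, 2048, 2560])) (.node 1 (.leaf [3367, 3805, 2993, 3280, 4000, 3032, 1856, 3136, 3712, 2048, 1536, 3072]) (.node 1 (.leaf [1103, 4020, 2197, 2832, 1912, 736, 1344, 3776, 2112, 2048, 2560, 1536]) (.leaf [3614, 2615, 573, 696, 1320, 2248, 1280, 2240, 1920, 1536, 3072, 3584]))))) (.node 5 (.node 2 (.node 1 (.leaf [1221, 3651, 2433, 1072, 3600, 2104, 192, 64, 384, 1024, 3584, 2048]) (.leaf [3973, 3009, 834, 2096, 1592, 3112, 192, 384, 448, 1024, 2048, 1536])) (.node 1 (.leaf [2105, 1578, 3084, 3400, 3664, 2720, 3648, 2688, 768, 512, 1024, 2048]) (.node 1 (.leaf [2218, 3283, 3039, 1304, 1976, 3912, 2432, 3392, 2688, 2560, 1024, 1536]) (.leaf [1459, 2558, 1903, 1376, 2136, 1712, 3008, 832, 1088, 3072, 3584, 2560])))) (.node 3 (.node 1 (.leaf [2993, 1388, 1686, 1800, 4000, 880, 3136, 2816, 1408, 512, 2048, 3072]) (.node 1 (.leaf [1762, 4083,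 623, 2648, 1336, 1928, 3968, 832, 2176, 2560, 1024, 1536]) (.leaf [2571, 1585, 534, 1440, 3752, 2520, 2496, 2816, 1856, 3072, 1024, 3584]))) (.node 1 (.leaf [1018, 3367, 1388, 3032, 1800, 880, 1408, 3712, 2496, 2560, 1536, 512]) (.node 1 (.leaf [1707, 3342, 3799, 1120, 2200, 1840, 1472, 2368, 1600, 3072, 3584, 2560]) (.leaf [1092, 1798, 3973, 3112, 2576, 1048, 128, 192, 448, 3584, 512, 2048])))))))

def stabListPart7 : Tbl (List ℕ) :=
  (.node 21 (.node 10 (.node 5 (.node 2 (.node 1 (.leaf [3837, 970, 2147, 3696, 808, 2448, 2240, 3520, 2624, 1024, 1536, 3584]) (.leaf [2202, 3323, 3023, 3480, 2936, 1160, 2944, 1344, 1664, 2560, 1024, 1536])) (.node 1 (.leaf [1246, 3658, 2487, 3768, 2528, 2856, 1280, 3904, 2240, 1536, 512, 3072]) (.node 1 (.leaf [1508, 2395, 1654, 872, 1096, 2192, 1152, 2304, 1728, 3584, 2560, 512]) (.leaf [2836, 1917, 739, 3880, 2392, 2760, 640, 3520, 1280, 3584, 2048, 2560]))))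 (.node 2 (.node 1 (.leaf [3455, 3693, 2697, 3216, 3872, 2776, 2880, 576, 1152, 2048, 1536, 3072]) (.leaf [2277, 1945, 3570, 2864, 760, 1448, 2752, 896, 1472, 1024, 2048, 1536])) (.node 1 (.leaf [3981, 866, 2227, 176, 232, 464, 3264, 3008, 1088, 1024, 1536, 3584]) (.node 1 (.leaf [3849, 2770, 932, 2632, 656, 1312, 576, 1152, 2304, 512, 1024, 2048]) (.leaf [2586, 1083, 1551, 2968, 1400, 1672, 2944, 1344, 1664, 2560, 1024, 1536]))))) (.node 5 (.node 2 (.node 1 (.leaf [2340, 3510, 2925, 360, 144, 216, 1152, 1728, 4032, 3584, 512, 2048]) (.leaf [2895, 1780, 597, 1296, 3960, 2272, 1344, 3776, 2112, 2048, 2560, 1536])) (.node 1 (.leaf [2058, 1556, 3107, 3928, 2672, 696, 1920, 3520, 3904, 2560, 512, 1024]) (.node 1 (.leaf [1755, 4095, 585, 288, 432, 360, 4032, 576, 2304, 3072, 2560, 1024]) (.leaf [668, 3533, 1331, 744, 3160, 1416, 2176, 3008, 1792, 3584, 2048, 2560])))) (.node 3 (.node 1 (.leaf [3647,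 521, 2084, 1168, 1752, 4088, 2880, 1152, 1728, 2048, 3072, 2560]) (.node 1 (.leaf [3455, 1252, 3693, 3216, 1528, 3872, 2880, 1728, 576, 2048, 2560, 1536]) (.leaf [1198, 2319, 1749, 3448, 3688, 2696, 3328, 3776, 2944, 1536, 3072, 3584]))) (.node 1 (.leaf [2756, 899, 1478, 552, 1032, 2064, 128, 256, 192, 3584, 2560, 512]) (.node 1 (.leaf [775, 2433, 3396, 3600, 536, 2104, 320, 128, 192, 2048, 3072, 2560]) (.leaf [2869, 1450, 1875, 1776, 4072, 592, 1216, 1984, 3648, 1024, 1536, 3584])))))) (.node 10 (.node 5 (.node 2 (.node 1 (.leaf [3061, 1811, 889, 752, 3152, 1464, 1216, 3648, 2432, 1024, 3584, 2048]) (.leaf [889, 2188, 3302, 1864, 3744, 752, 3648, 768, 2432, 512, 2048, 3072])) (.node 1 (.leaf [1450, 3743, 2508, 2328, 2888, 1776, 2432, 2688, 1984, 2560, 1536, 512]) (.node 1 (.leaf [1772, 605, 3467, 3240, 1496, 3848, 3712, 2496, 2816, 3584, 2048, 2560]) (.leaf [1303, 2277, 1945, 1872, 3168,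 3736, 2368, 1600, 3200, 2048, 1536, 3072])))) (.node 2 (.node 1 (.leaf [1986, 3651, 775, 536, 2104, 3080, 384, 320, 128, 2560, 1024, 1536]) (.leaf [2179, 3009, 1798, 544, 3112, 1048, 448, 256, 320, 3072, 1024, 3584])) (.node 1 (.leaf [2598, 1578, 543, 2488, 2720, 2024, 768, 3392, 1216, 1536, 512, 3072]) (.node 1 (.leaf [1804, 3283, 4006, 3560, 3912, 2640, 2688, 768, 1216, 3584, 2560, 512]) (.leaf [543, 3084, 1077, 3664, 2488, 2720, 3392, 1216, 3648, 2048, 2560, 1536]))))) (.node 5 (.node 2 (.node 1 (.leaf [4006, 3039, 885, 1976, 3560, 3912, 768, 1216, 2432, 1536, 3072, 3584]) (.leaf [615, 1181, 2353, 1232, 2464, 2008, 1856, 3136, 3712, 2048, 1536, 3072])) (.node 1 (.leaf [1038, 1573, 3634, 2808, 1480, 1632, 3840, 896, 2368, 1536, 3584, 512]) (.node 1 (.leaf [4058, 2319, 2932, 2456, 2696, 2032, 2944, 1664, 960, 2560, 1536, 512]) (.leaf [1699, 3358, 3831, 4064, 2904, 624, 3520, 3904, 2624,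 3072, 3584, 2560])))) (.node 3 (.node 1 (.leaf [1438, 2551, 1917, 3256, 3880, 2760, 1280, 2240, 1920, 1536, 3072, 3584]) (.node 1 (.leaf [1252, 2038, 3693, 2408, 3216, 2776, 1152, 1728, 4032, 3584, 512, 2048]) (.leaf [908, 3253, 1491, 1000, 3352, 1352, 2688, 1984, 768, 3584, 2048, 2560]))) (.node 1 (.leaf [543, 1077, 2105, 3664, 2720, 792, 3392, 3648, 2688, 2048, 1536, 3072]) (.node 1 (.leaf [925, 1521, 2426, 3952, 2680, 680, 704, 1408, 2496, 1024, 2048, 1536]) (.leaf [1817, 3314, 4028, 3528, 3920, 2656, 1600, 3200, 3840, 512, 1024, 2048])))))))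

def stabListPart8 : Tbl (List ℕ) :=
  (.node 21 (.node 10 (.node 5 (.node 2 (.node 1 (.leaf [546, 2099, 3119, 1112, 1848, 3976, 3968, 832, 2176, 2560, 1024, 1536]) (.leaf [2932, 1198, 1749, 3688, 784, 2456, 1664, 3776, 960, 3584, 512, 2048])) (.node 1 (.leaf [3831, 2132, 3005, 3472, 1208, 4064, 3904, 2240, 2624, 2048, 2560, 1536]) (.node 1 (.leaf [3051, 1817, 846, 2656, 1960, 664, 1472, 3840, 2368, 3072, 1024, 3584]) (.leaf [2577, 546, 1052, 3976, 3024, 864, 1088, 2176, 1792, 512, 1024, 2048])))) (.node 2 (.node 1 (.leaf [4, 3, 6, 40, 8, 16, 128, 256, 192, 3584, 2560, 512]) (.leaf [885, 2218, 3283, 2288, 3560, 2640, 1216, 1984, 3648, 1024, 1536, 3584])) (.node 1 (.leaf [3189, 1427, 3769, 2800, 1616, 952, 1216, 3648, 2432, 1024, 3584, 2048]) (.node 1 (.leaf [2395, 1654, 3263, 1824, 3288, 4016, 4032, 2880, 576, 3072, 3584, 2560]) (.leaf [3425, 2740, 1262, 3208, 2784, 1520, 2112, 3328, 2944,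 512, 2048, 3072]))))) (.node 5 (.node 2 (.node 1 (.leaf [2642, 1307, 1983, 3800, 1016, 2120, 3456, 2880, 1152, 2560, 1024, 1536]) (.leaf [1403, 3809, 2158, 224, 104, 408, 960, 3328, 1344, 3072, 1024, 3584])) (.node 1 (.leaf [2908, 1214, 1741, 2792, 1488, 1624, 2176, 3264, 3008, 3584, 512, 2048]) (.node 1 (.leaf [2791, 1644, 925, 2256, 2680, 1952, 1856, 704, 3136, 2048, 2560, 1536]) (.leaf [3981, 2227, 3025, 176, 464, 312, 3264, 1088, 3968, 1024, 3584, 2048])))) (.node 3 (.node 1 (.leaf [1181, 2353, 1786, 3440, 3704, 2728, 704, 1408, 2496, 1024, 2048, 1536]) (.node 1 (.leaf [3878, 2410, 2783, 4024, 2208, 3048, 768, 3392, 1216, 1536, 512, 3072]) (.leaf [908, 1491, 2406, 1000, 1352, 2128, 2688, 768, 1216, 3584, 2560, 512]))) (.node 1 (.leaf [2571, 534, 1063, 1440, 2520, 1904, 2496, 1856, 3136, 3072, 3584, 2560]) (.node 1 (.leaf [2137, 3388, 2958, 1992, 3680, 816, 1600, 3840, 896, 512, 2048,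 3072]) (.leaf [3067, 1103, 1825, 736, 2544, 3176, 960, 2112, 3328, 3072, 2560, 1024])))))) (.node 10 (.node 5 (.node 2 (.node 1 (.leaf [1065, 3614, 2058, 2248, 2672, 1936, 2624, 1920, 640, 512, 3072, 1024]) (.leaf [925, 2426, 3211, 3952, 680, 2256, 704, 2496, 3136, 1024, 1536, 3584])) (.node 1 (.leaf [3777, 2118, 2946, 1544, 560, 3088, 64, 384, 128, 512, 3072, 1024]) (.node 1 (.leaf [3138, 3716, 2819, 2072, 1584, 3128, 384, 448, 320, 2560, 512, 1024]) (.leaf [3189, 3769, 2858, 2800, 952, 1512, 1216, 2432, 1984, 1024, 2048, 1536])))) (.node 2 (.node 1 (.leaf [1269, 2026, 3667, 240, 488, 80, 1216, 1984, 3648, 1024, 1536, 3584]) (.leaf [1388, 1686, 3805, 2216, 3280, 3032, 3712, 704, 2496, 3584, 512, 2048])) (.node 1 (.leaf [3799, 2172, 2981, 848, 3320, 1120, 2368, 2752, 1600, 2048, 2560, 1536]) (.node 1 (.leaf [1970, 3580, 3947, 1688, 3376, 3832, 896, 1472, 2368, 2560, 512, 1024]) (.leaf [2308,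 1731, 3462, 2600, 520, 1040, 128, 256, 192, 3584, 2560, 512]))))) (.node 5 (.node 2 (.node 1 (.leaf [2375, 3201, 2756, 2064, 3096, 2616, 320, 128, 192, 2048, 3072, 2560]) (.leaf [2615, 573, 1065, 1936, 3552, 3928, 3904, 2624, 640, 2048, 1536, 3072])) (.node 1 (.leaf [3510, 2925, 1170, 504, 72, 288, 2304, 3456, 2880, 1536, 3584, 512]) (.node 1 (.leaf [2453, 2017, 3418, 3056, 888, 1128, 3776, 2944, 960, 1024, 2048, 1536]) (.leaf [701, 2250, 3555, 112, 296, 400, 2240, 3520, 2624, 1024, 1536, 3584])))) (.node 3 (.node 1 (.leaf [1321, 1940, 3934, 200, 480, 112, 2624, 1280, 1920, 512, 2048, 3072]) (.node 1 (.leaf [1042, 3647, 2084, 1752, 584, 3504, 3456, 1152, 4032, 2560, 1536, 512]) (.leaf [1529, 2410, 1612, 840, 1104, 2208, 3648, 2688, 768, 512, 1024, 2048]))) (.node 1 (.leaf [3628, 534, 2077, 3752, 720, 2520, 3712, 704, 2496, 3584, 512, 2048]) (.node 1 (.leaf [983, 3388, 1381, 3408, 1272, 3680,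 2368, 2752, 1600, 2048, 2560, 1536]) (.leaf [2667, 1303, 1945, 3168, 2864, 1448, 1472, 1600, 3840, 3072, 2560, 1024])))))))

def stabListPart9 : Tbl (List ℕ) :=
  (.node 21 (.node 10 (.node 5 (.node 2 (.node 1 (.leaf [3025, 1854, 866, 392, 176, 464, 1088, 3968, 2176, 512, 3072, 1024]) (.leaf [3290, 1103, 4020, 1432, 3720, 2544, 2944, 1664, 960, 2560, 1536, 512])) (.node 1 (.leaf [3107, 3614, 2615, 3552, 3928, 2672, 3520, 3904, 2624, 3072, 3584, 2560]) (.node 1 (.leaf [1714, 3388, 3819, 2712, 816, 1272, 896, 1472, 2368, 2560, 512, 1024]) (.leaf [1459, 1903, 3729, 1376, 1712, 3816, 3008, 1088, 1792, 3072, 2560, 1024])))) (.node 2 (.node 1 (.leaf [1631, 908, 3253, 2128, 3000, 1696, 3392, 1216, 3648, 2048, 2560, 1536]) (.leaf [2598, 543, 1077, 2488, 2024, 3400, 768, 1216, 2432, 1536, 3072, 3584])) (.node 1 (.leaf [2605, 1042, 1563, 3504, 2920, 1168, 1728, 4032, 576, 1024, 1536, 3584]) (.node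 1 (.leaf [853, 3323, 1121, 4080, 2320, 2936, 3776, 2112, 2944, 1024, 3584, 2048]) (.leaf [1762, 623, 3484, 2648, 1928, 688, 3968, 2176, 3008, 2560, 1536, 512]))))) (.node 5 (.node 2 (.node 1 (.leaf [2302, 1967, 3533, 2872, 744, 1416, 1792, 3264, 3968, 1536, 3072, 3584]) (.leaf [1516, 1622, 3869, 1704, 3792, 984, 3712, 704, 2496, 3584, 512, 2048])) (.node 1 (.leaf [2508, 1875, 3174, 4072, 2888, 592, 2688, 768, 1216, 3584, 2560, 512]) (.node 1 (.leaf [3999, 889, 2188, 3152, 2840, 1464, 3392, 2688, 1216, 2048, 3072, 2560]) (.leaf [3869, 954, 2379, 1392, 1704, 3792, 704, 2496, 3136, 1024, 1536, 3584])))) (.node 3 (.node 1 (.leaf [3045, 1835, 857, 2352, 2896, 1784, 2752, 1600, 896, 1024, 3584, 2048]) (.node 1 (.leaf [2265, 3580, 2638, 968, 2144, 3376, 1600, 3840, 896, 512, 2048, 3072]) (.leaf [2658, 1967, 668, 3160, 1416, 3760, 3968, 2176, 3008, 2560, 1536, 512]))) (.node 1 (.leaf [1780, 597,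 3515, 2664, 1944, 648, 1664, 960, 3328, 3584, 2048, 2560]) (.node 1 (.leaf [3383, 3837, 2985, 2448, 2016, 3416, 3904, 2624, 640, 2048, 1536, 3072]) (.leaf [1722, 3787, 999, 4056, 632, 2312, 1408, 1856, 3712, 2560, 1024, 1536])))))) (.node 10 (.node 5 (.node 2 (.node 1 (.leaf [939, 3225, 1486, 96, 424, 152, 1472, 3840, 2368, 3072, 1024, 3584]) (.leaf [3396, 3651, 2694, 1576, 3080, 3600, 128, 256, 192, 3584, 2560, 512])) (.node 1 (.leaf [1415, 2501, 1857, 528, 1056, 2072, 320, 64, 128, 2048, 1536, 3072]) (.node 1 (.leaf [2118, 3333, 2946, 1080, 1544, 3616, 256, 384, 320, 1536, 3584, 512]) (.leaf [2188, 3302, 3061, 2536, 3152, 2840, 2688, 1216, 1984, 3584, 512, 2048])))) (.node 2 (.node 1 (.leaf [3743, 2508, 2869, 592, 3512, 1184, 3392, 1216, 3648, 2048, 2560, 1536]) (.leaf [605, 3467, 1201, 2416, 2768, 1656, 704, 3136, 1408, 1024, 3584, 2048])) (.node 1 (.leaf [3097, 1038, 3634, 1480, 3888,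 2384, 1600, 896, 3200, 512, 3072, 1024]) (.node 1 (.leaf [3746, 2844, 755, 600, 1200, 2360, 3968, 3008, 832, 2560, 512, 1024]) (.leaf [2740, 827, 1262, 1640, 3208, 3856, 1664, 3328, 3776, 3584, 2560, 512]))))) (.node 5 (.node 2 (.node 1 (.leaf [3767, 745, 2516, 2960, 1368, 1720, 3904, 640, 2240, 2048, 3072, 2560]) (.leaf [555, 1038, 2071, 1632, 3224, 3888, 1472, 2368, 1600, 3072, 3584, 2560])) (.node 1 (.leaf [3910, 2631, 645, 568, 1064, 2056, 256, 192, 384, 1536, 3072, 3584]) (.node 1 (.leaf [4, 6, 5, 40, 16, 24, 128, 192, 448, 3584, 512, 2048]) (.leaf [3239, 3869, 2801, 3792, 2976, 984, 1856, 3136, 3712, 2048, 1536, 3072])))) (.node 3 (.node 1 (.leaf [3278, 3045, 1138, 1784, 4040, 608, 3840, 896, 2368, 1536, 3584, 512]) (.node 1 (.leaf [7, 1, 4, 16, 24, 56, 320, 128, 192, 2048, 3072, 2560]) (.leaf [3462, 1154, 4039, 3640, 2080, 2600, 256, 320, 192, 1536, 512, 3072]))) (.node 1 (.leaf [1825,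 4020, 878, 3720, 736, 2544, 2112, 3328, 2944, 512, 2048, 3072]) (.node 1 (.leaf [2058, 2615, 1556, 3928, 2248, 2672, 1920, 640, 3520, 2560, 1536, 512]) (.leaf [2516, 2877, 1891, 3368, 1368, 3784, 640, 3520, 1280, 3584, 2048, 2560])))))))

def stabListPart10 : Tbl (List ℕ) :=
  (.node 21 (.node 10 (.node 5 (.node 2 (.node 1 (.leaf [1983, 3565, 3913, 1680, 3360, 3800, 2880, 576, 1152, 2048, 1536, 3072]) (.leaf [3515, 1185, 4078, 2272, 2664, 1944, 960, 3328, 1344, 3072, 1024, 3584])) (.node 1 (.leaf [2985, 970, 1364, 1224, 2448, 2016, 2624, 640, 1280, 512, 1024, 2048]) (.node 1 (.leaf [778, 1236, 2467, 856, 1136, 2232, 1920, 3520, 3904, 2560, 512, 1024]) (.leaf [739, 3177, 1438, 1504, 3880, 2392, 3520, 1280, 3904, 3072, 1024, 3584])))) (.node 2 (.node 1 (.leaf [2340, 1755, 3510, 360, 72, 144, 1152, 2304, 1728, 3584, 2560, 512]) (.leaf [1231, 3700, 2453, 1808, 888, 3296, 1344, 3776, 2112, 2048,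 2560, 1536])) (.node 1 (.leaf [2679, 701, 1321, 400, 480, 344, 3904, 2624, 640, 2048, 1536, 3072]) (.node 1 (.leaf [3126, 2605, 1042, 4088, 584, 2336, 2304, 3456, 2880, 1536, 3584, 512]) (.leaf [949, 3219, 1529, 3312, 1104, 4024, 1216, 3648, 2432, 1024, 3584, 2048]))))) (.node 5 (.node 2 (.node 1 (.leaf [3253, 3897, 2794, 3824, 3000, 1000, 1216, 2432, 1984, 1024, 2048, 1536]) (.leaf [1585, 3130, 3628, 2824, 720, 1440, 3136, 3712, 2816, 512, 1024, 2048])) (.node 1 (.leaf [1714, 3819, 983, 2712, 1272, 1992, 896, 2368, 3200, 2560, 1024, 1536]) (.node 1 (.leaf [3570, 3964, 2667, 3736, 2864, 760, 896, 1472, 2368, 2560, 512, 1024]) (.leaf [2227, 3311, 3025, 352, 176, 232, 3008, 1088, 1792, 3072, 2560, 1024])))) (.node 3 (.node 1 (.leaf [878, 2197, 3290, 1912, 3720, 736, 3328, 2944, 1344, 1536, 3584, 512]) (.node 1 (.leaf [1556, 573, 3107, 1320, 3928, 2248, 640, 3520, 1280, 3584, 2048, 2560]) (.leaf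 [3973, 2179, 3009, 2096, 2576, 1592, 192, 64, 384, 1024, 3584, 2048]))) (.node 1 (.leaf [645, 1281, 2242, 2608, 568, 1064, 192, 384, 448, 1024, 2048, 1536]) (.node 1 (.leaf [3271, 3009, 1092, 2576, 1048, 1592, 320, 128, 192, 2048, 3072, 2560]) (.leaf [3418, 1231, 3700, 3992, 2184, 3056, 2944, 1664, 960, 2560, 1536, 512])))))) (.node 10 (.node 5 (.node 2 (.node 1 (.leaf [3555, 3934, 2679, 480, 344, 112, 3520, 3904, 2624, 3072, 3584, 2560]) (.leaf [1551, 3093, 3617, 3344, 3808, 2968, 1344, 2112, 1664, 2048, 1536, 3072])) (.node 1 (.leaf [2615, 1065, 1556, 1936, 3928, 696, 3904, 640, 2240, 2048, 3072, 2560]) (.node 1 (.leaf [3510, 1170, 4095, 504, 288, 360, 2304, 2880, 1728, 1536, 512, 3072]) (.leaf [2740, 2005, 827, 1640, 920, 3208, 1664, 960, 3328, 3584, 2048, 2560])))) (.node 2 (.node 1 (.leaf [3767, 2877, 745, 2960, 992, 1368, 3904, 2624, 640, 2048, 1536, 3072]) (.leaf [3837, 2985, 970,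 3696, 2744, 808, 2240, 1920, 3520, 1024, 2048, 1536])) (.node 1 (.leaf [2477, 3410, 2715, 1456, 1896, 3728, 1728, 4032, 576, 1024, 1536, 3584]) (.node 1 (.leaf [3489, 4058, 2932, 2696, 784, 1248, 2112, 1664, 3328, 512, 1024, 2048]) (.leaf [1354, 1699, 3831, 2904, 1208, 1736, 1920, 3904, 640, 2560, 1024, 1536]))))) (.node 5 (.node 2 (.node 1 (.leaf [2836, 1438, 1917, 3880, 912, 2392, 640, 2240, 3520, 3584, 512, 2048]) (.leaf [2794, 908, 1491, 3352, 3824, 3000, 2432, 1984, 3392, 2560, 512, 1024])) (.node 1 (.leaf [3603, 543, 2105, 2720, 1264, 2024, 1984, 3648, 768, 3072, 2560, 1024]) (.node 1 (.leaf [3862, 925, 2426, 2680, 1288, 1952, 2816, 1408, 1856, 1536, 3584, 512]) (.leaf [4028, 2213, 3051, 1960, 664, 3528, 3200, 1472, 3840, 3584, 2048, 2560])))) (.node 3 (.node 1 (.leaf [1111, 1817, 4028, 3920, 664, 2296, 2368, 3200, 2752, 2048, 3072, 2560]) (.node 1 (.leaf [1598, 546, 3119, 1848, 864,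 3304, 1792, 832, 3264, 1536, 512, 3072]) (.leaf [2319, 2932, 1749, 784, 3448, 1248, 1344, 3776, 2112, 2048, 2560, 1536]))) (.node 1 (.leaf [3358, 3831, 3005, 1208, 2344, 1736, 1280, 2240, 1920, 1536, 3072, 3584]) (.node 1 (.leaf [2410, 2783, 1612, 1816, 840, 3312, 2432, 2688, 1984, 2560, 1536, 512]) (.leaf [1491, 2406, 1631, 1696, 3352, 3824, 1984, 3392, 3648, 3072, 3584, 2560])))))))

def stabListPart11 : Tbl (List ℕ) :=
  (.node 21 (.node 10 (.node 5 (.node 2 (.node 1 (.leaf [716, 3189, 1427, 1512, 3864, 2376, 2688, 1984, 768, 3584, 2048, 2560]) (.leaf [799, 1269, 2489, 80, 160, 280, 3392, 3648, 2688, 2048, 1536, 3072])) (.node 1 (.leaf [3805, 2993, 1018, 880, 1144, 2216, 704, 1408, 2496, 1024, 2048, 1536]) (.node 1 (.leaf [2981, 1394, 1707, 1840, 4008, 848, 2752, 1472, 1600, 1024, 1536, 3584]) (.leaf [3404, 3667, 2726, 488, 328, 80, 2688, 768, 1216, 3584, 2560, 512])))) (.node 2 (.node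 1 (.leaf [2783, 1529, 1612, 1104, 1816, 4024, 3392, 2688, 1216, 2048, 3072, 2560]) (.leaf [2525, 3194, 2827, 368, 168, 208, 704, 2496, 3136, 1024, 1536, 3584])) (.node 1 (.leaf [1317, 3947, 2265, 3376, 1360, 3832, 2752, 1600, 896, 1024, 3584, 2048]) (.node 1 (.leaf [2558, 2850, 1903, 3384, 1376, 3816, 1792, 832, 3264, 1536, 512, 3072]) (.leaf [1388, 2123, 1686, 2216, 1800, 3280, 3712, 2816, 704, 3584, 2560, 512]))))) (.node 5 (.node 2 (.node 1 (.leaf [1585, 3628, 534, 2824, 1440, 1904, 3136, 2816, 1408, 512, 2048, 3072]) (.leaf [1854, 3981, 866, 312, 392, 352, 1792, 3968, 832, 1536, 3584, 512])) (.node 1 (.leaf [2105, 2598, 1578, 3400, 1264, 3664, 3648, 2432, 2688, 512, 3072, 1024]) (.node 1 (.leaf [2218, 1804, 3283, 1304, 2288, 1976, 2432, 1984, 3392, 2560, 512, 1024]) (.leaf [1303, 3964, 2277, 1872, 760, 3168, 2368, 2752, 1600, 2048, 2560, 1536])))) (.node 3 (.node 1 (.leaf [1854, 3311,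 3981, 312, 232, 392, 1792, 3264, 3968, 1536, 3072, 3584]) (.node 1 (.leaf [1103, 2197, 1825, 2832, 736, 1432, 1344, 2112, 1664, 2048, 1536, 3072]) (.leaf [3614, 573, 2058, 696, 2248, 3552, 1280, 1920, 3904, 1536, 3584, 512]))) (.node 1 (.leaf [1221, 2433, 1986, 1072, 2104, 1576, 192, 384, 448, 1024, 2048, 1536]) (.node 1 (.leaf [3973, 834, 2179, 2096, 3112, 2576, 192, 448, 64, 1024, 1536, 3584]) (.leaf [2105, 3084, 2598, 3400, 2720, 1264, 3648, 768, 2432, 512, 2048, 3072])))))) (.node 10 (.node 5 (.node 2 (.node 1 (.leaf [2218, 3039, 1804, 1304, 3912, 2288, 2432, 2688, 1984, 2560, 1536, 512]) (.leaf [2697, 786, 1252, 1608, 3216, 3872, 576, 1152, 2304, 512, 1024, 2048])) (.node 1 (.leaf [4058, 635, 2319, 2456, 3448, 2696, 2944, 1344, 1664, 2560, 1024, 1536]) (.node 1 (.leaf [3023, 1844, 853, 2320, 2936, 1760, 1344, 3776, 2112, 2048, 2560, 1536]) (.leaf [1018, 1388, 2123, 3032, 880, 1144, 1408,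 2496, 1856, 2560, 512, 1024])))) (.node 2 (.node 1 (.leaf [1707, 3799, 985, 1120, 1840, 4008, 1472, 1600, 3840, 3072, 2560, 1024]) (.leaf [2694, 1221, 1986, 2104, 3080, 2592, 256, 384, 320, 1536, 3584, 512])) (.node 1 (.leaf [1092, 3973, 2179, 3112, 1048, 3592, 128, 448, 256, 3584, 2048, 2560]) (.node 1 (.leaf [1447, 1905, 3756, 208, 472, 120, 1856, 3712, 704, 2048, 3072, 2560]) (.leaf [2638, 1970, 663, 3832, 2144, 2984, 3840, 2368, 2752, 1536, 512, 3072]))))) (.node 5 (.node 2 (.node 1 (.leaf [4039, 2308, 2885, 1040, 3640, 2080, 320, 192, 64, 2048, 2560, 1536]) (.leaf [1478, 2375, 1605, 2616, 552, 1032, 256, 192, 384, 1536, 3072, 3584])) (.node 1 (.leaf [597, 2330, 3515, 3568, 2664, 1296, 3776, 960, 2112, 1024, 1536, 3584]) (.node 1 (.leaf [3837, 2147, 2985, 3696, 2448, 2744, 2240, 2624, 1920, 1024, 3584, 2048]) (.leaf [2729, 2014, 778, 3272, 1136, 3984, 2624, 1920, 640, 512, 3072, 1024]))))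 (.node 3 (.node 1 (.leaf [3538, 3940, 2651, 1240, 2480, 2040, 3456, 4032, 2880, 2560, 512, 1024]) (.node 1 (.leaf [2202, 3023, 1844, 3480, 1160, 4080, 2944, 1664, 960, 2560, 1536, 512]) (.leaf [2467, 2014, 3447, 3040, 856, 1136, 3520, 3904, 2624, 3072, 3584, 2560]))) (.node 1 (.leaf [1246, 2487, 2045, 3768, 2856, 712, 1280, 2240, 1920, 1536, 3072, 3584]) (.node 1 (.leaf [1508, 1654, 3885, 872, 2192, 3288, 1152, 1728, 4032, 3584, 512, 2048]) (.leaf [1798, 834, 3271, 1592, 544, 3112, 256, 320, 192, 1536, 512, 3072])))))))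

def stabListPart12 : Tbl (List ℕ) :=
  (.node 21 (.node 10 (.node 5 (.node 2 (.node 1 (.leaf [1924, 3523, 3910, 1064, 2056, 1552, 128, 256, 192, 3584, 2560, 512]) (.leaf [1811, 3302, 3999, 3744, 2840, 752, 1984, 3392, 3648, 3072, 3584, 2560])) (.node 1 (.leaf [761, 2508, 3174, 2888, 1184, 1776, 3648, 768, 2432, 512, 2048, 3072]) (.node 1 (.leaf [4095, 2340, 2925, 144, 504, 288, 2880, 1728, 576, 2048, 2560, 1536]) (.leaf [4078, 2895, 597, 3960, 2664, 648, 3328, 3776, 2944, 1536, 3072, 3584])))) (.node 2 (.node 1 (.leaf [1279, 2477, 1993, 3728, 2848, 728, 2880, 576, 1152, 2048, 1536, 3072]) (.leaf [1373, 1722, 3787, 2928, 1192, 1744, 704, 2496, 3136, 1024, 1536, 3584])) (.node 1 (.leaf [3473, 2908, 1214, 904, 2400, 3248, 1088, 1792, 3968, 512, 2048, 3072]) (.node 1 (.leaf [2426, 2791, 1644, 3544, 1288, 3952, 1408, 3712, 2496, 2560, 1536, 512]) (.leaf [1844, 3323, 4014, 616, 1160, 2320, 1664,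 3328, 3776, 3584, 2560, 512]))))) (.node 5 (.node 2 (.node 1 (.leaf [3447, 2729, 1236, 3984, 856, 2232, 3904, 640, 2240, 2048, 3072, 2560]) (.leaf [2045, 3658, 803, 3184, 2856, 1424, 2240, 3520, 2624, 1024, 1536, 3584])) (.node 1 (.leaf [3885, 2395, 2761, 4016, 2192, 3064, 1728, 576, 3456, 1024, 3584, 2048]) (.node 1 (.leaf [3809, 1012, 2158, 136, 224, 496, 2112, 3328, 2944, 512, 2048, 3072]) (.leaf [3658, 2487, 2708, 1880, 712, 3184, 1920, 640, 3520, 2560, 1536, 512])))) (.node 3 (.node 1 (.leaf [2132, 3005, 1699, 2344, 2904, 1736, 640, 3520, 1280, 3584, 2048, 2560]) (.node 1 (.leaf [3433, 1246, 3658, 712, 3184, 1424, 2624, 1920, 640, 512, 3072, 1024]) (.leaf [914, 1508, 2395, 3288, 4016, 3064, 3456, 4032, 2880, 2560, 512, 1024]))) (.node 1 (.leaf [2236, 1835, 3278, 3496, 4040, 2896, 3200, 3840, 2752, 3584, 2560, 512]) (.node 1 (.leaf [687, 2257, 3548, 2000, 3672, 824, 832, 2176, 3264, 2048,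 3072, 2560]) (.leaf [3410, 2715, 1279, 728, 2552, 3144, 3456, 2880, 1152, 2560, 1024, 1536])))))) (.node 10 (.node 5 (.node 2 (.node 1 (.leaf [3067, 1825, 878, 736, 3176, 1432, 960, 3328, 1344, 3072, 1024, 3584]) (.leaf [1281, 1924, 3910, 2056, 3104, 2608, 64, 256, 384, 512, 2048, 3072])) (.node 1 (.leaf [2, 7, 4, 24, 8, 48, 384, 128, 448, 2560, 1536, 512]) (.node 1 (.leaf [3194, 3756, 2827, 472, 368, 120, 1408, 2496, 1856, 2560, 512, 1024]) (.leaf [3947, 663, 2265, 2144, 3376, 2984, 1472, 1600, 3840, 3072, 2560, 1024])))) (.node 2 (.node 1 (.leaf [1622, 3239, 3869, 2168, 1704, 3336, 2816, 704, 1408, 1536, 3072, 3584]) (.leaf [2236, 3278, 3045, 3496, 2896, 1176, 3200, 2752, 1472, 3584, 512, 2048])) (.node 1 (.leaf [663, 1317, 2265, 1360, 2144, 1688, 2368, 1600, 3200, 2048, 1536, 3072]) (.node 1 (.leaf [2302, 3533, 2658, 2872, 1416, 1888, 1792, 3968, 832, 1536, 3584, 512]) (.leaf [2895, 1185,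 1780, 1296, 1944, 3960, 1344, 1664, 3776, 2048, 3072, 2560]))))) (.node 5 (.node 2 (.node 1 (.leaf [1694, 970, 3383, 2744, 2016, 808, 1280, 3904, 2240, 1536, 512, 3072]) (.leaf [1373, 2161, 1722, 2928, 632, 1192, 704, 1408, 2496, 1024, 2048, 1536])) (.node 1 (.leaf [3201, 2756, 1478, 1032, 1568, 3632, 64, 256, 384, 512, 2048, 3072]) (.node 1 (.leaf [1986, 775, 3396, 536, 3080, 1072, 384, 128, 448, 2560, 1536, 512]) (.leaf [2362, 3467, 2919, 1496, 1656, 3848, 1408, 1856, 3712, 2560, 1024, 1536])))) (.node 3 (.node 1 (.leaf [2667, 1945, 654, 3168, 1448, 3736, 1472, 3840, 2368, 3072, 1024, 3584]) (.node 1 (.leaf [710, 3138, 1415, 3128, 1056, 3624, 256, 320, 192, 1536, 512, 3072]) (.leaf [964, 1347, 2118, 2088, 1544, 3088, 128, 256, 192, 3584, 2560, 512]))) (.node 1 (.leaf [889, 1130, 2188, 1864, 3152, 3744, 3648, 2688, 768, 512, 1024, 2048]) (.node 1 (.leaf [1450, 1875, 3743, 2328, 3512, 2888,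 2432, 3392, 2688, 2560, 1024, 1536]) (.leaf [3674, 2447, 2740, 920, 3208, 1520, 2944, 1664, 960, 2560, 1536, 512])))))))

def stabListPart13 : Tbl (List ℕ) :=
  (.node 21 (.node 10 (.node 5 (.node 2 (.node 1 (.leaf [1891, 3166, 3767, 992, 1368, 2160, 3520, 3904, 2624, 3072, 3584, 2560]) (.leaf [2902, 1181, 1786, 3704, 776, 2464, 2816, 1408, 1856, 1536, 3584, 512])) (.node 1 (.leaf [2620, 1573, 555, 936, 3224, 1480, 3200, 1472, 3840, 3584, 2048, 2560]) (.node 1 (.leaf [1622, 954, 3239, 2168, 2976, 1704, 2816, 1856, 704, 1536, 512, 3072]) (.leaf [3, 6, 7, 32, 24, 48, 448, 320, 64, 3072, 3584, 2560])))) (.node 2 (.node 1 (.leaf [577, 2308, 3462, 520, 2080, 3120, 64, 256, 384, 512, 2048, 3072]) (.leaf [2770, 932, 1499, 2264, 1968, 3576, 3456, 4032, 2880, 2560, 512, 1024])) (.node 1 (.leaf [1083, 1551, 3617, 3808, 1008, 2152, 960, 2112, 3328, 3072, 2560, 1024]) (.node 1 (.leaf [4054, 2362, 2919,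 1656, 928, 3240, 2816, 1856, 704, 1536, 512, 3072]) (.leaf [687, 3548, 1293, 2000, 824, 3424, 832, 3264, 1088, 2048, 2560, 1536]))))) (.node 5 (.node 2 (.node 1 (.leaf [726, 1447, 2525, 120, 168, 264, 2816, 704, 1408, 1536, 3072, 3584]) (.leaf [1293, 1954, 3955, 2736, 1256, 2000, 3264, 3008, 1088, 1024, 1536, 3584])) (.node 1 (.leaf [2525, 2827, 1905, 368, 208, 120, 704, 3136, 1408, 1024, 3584, 2048]) (.node 1 (.leaf [2362, 1772, 3467, 1496, 2416, 1656, 1408, 2496, 1856, 2560, 512, 1024]) (.leaf [2638, 663, 1317, 3832, 2984, 968, 3840, 2752, 896, 1536, 3072, 3584])))) (.node 3 (.node 1 (.leaf [668, 2302, 3533, 744, 2512, 3160, 2176, 3264, 3008, 3584, 512, 2048]) (.node 1 (.leaf [585, 2340, 3510, 72, 288, 432, 576, 2304, 3456, 512, 2048, 3072]) (.leaf [2330, 2895, 1780, 1944, 648, 3568, 2944, 1664, 960, 2560, 1536, 512]))) (.node 1 (.leaf [3684, 2477, 2715, 1896, 728, 3144, 1152, 4032, 2304,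 3584, 2048, 2560]) (.node 1 (.leaf [2099, 2577, 1598, 864, 3304, 1112, 3008, 1792, 832, 3072, 1024, 3584]) (.leaf [2161, 1722, 3372, 2312, 1744, 3488, 3136, 3712, 2816, 512, 1024, 2048])))))) (.node 10 (.node 5 (.node 2 (.node 1 (.leaf [4066, 2908, 627, 1624, 3248, 3896, 3968, 3008, 832, 2560, 512, 1024]) (.leaf [3372, 3787, 2966, 1192, 2312, 1744, 3712, 2816, 704, 3584, 2560, 512])) (.node 1 (.leaf [627, 1214, 2351, 2400, 1624, 3248, 3008, 832, 1088, 3072, 3584, 2560]) (.node 1 (.leaf [1521, 1644, 3862, 1288, 1952, 3952, 3136, 2816, 1408, 512, 2048, 3072]) (.leaf [2014, 3447, 3709, 2232, 1832, 3272, 1280, 2240, 1920, 1536, 3072, 3584])))) (.node 2 (.node 1 (.leaf [3940, 694, 2285, 3432, 2704, 1240, 1152, 1728, 4032, 3584, 512, 2048]) (.leaf [3819, 983, 2137, 3680, 816, 2472, 1472, 1600, 3840, 3072, 2560, 1024])) (.node 1 (.leaf [3729, 2558, 2850, 2952, 1712, 976, 1088, 3968, 2176, 512, 3072,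 1024]) (.node 1 (.leaf [1, 6, 2, 8, 48, 16, 64, 384, 128, 512, 3072, 1024]) (.leaf [1154, 2308, 1731, 1560, 3120, 3640, 384, 448, 320, 2560, 512, 1024]))))) (.node 5 (.node 2 (.node 1 (.leaf [1887, 3769, 716, 1616, 3864, 952, 3392, 2688, 1216, 2048, 3072, 2560]) (.leaf [1875, 3174, 3743, 1184, 2328, 1776, 1984, 3392, 3648, 3072, 3584, 2560])) (.node 1 (.leaf [954, 2379, 3239, 984, 2168, 3336, 1408, 1856, 3712, 2560, 1024, 1536]) (.node 1 (.leaf [1835, 857, 3278, 608, 3496, 1176, 1472, 3840, 2368, 3072, 1024, 3584]) (.leaf [2379, 1622, 3239, 2976, 984, 1392, 2496, 1856, 3136, 3072, 3584, 2560])))) (.node 3 (.node 1 (.leaf [3372, 2966, 1373, 1192, 1744, 4056, 3712, 704, 2496, 3584, 512, 2048]) (.node 1 (.leaf [2213, 1817, 3314, 1328, 2296, 1960, 2752, 896, 1472, 1024, 2048, 1536]) (.leaf [3597, 546, 2099, 2224, 3304, 3024, 3264, 3008, 1088, 1024, 1536, 3584]))) (.node 1 (.leaf [3489, 2932,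 1198, 2696, 1248, 2032, 2112, 3328, 2944, 512, 2048, 3072]) (.node 1 (.leaf [1354, 3831, 2132, 2904, 1736, 624, 1920, 640, 3520, 2560, 1536, 512]) (.leaf [2, 3, 7, 24, 56, 8, 384, 320, 128, 2560, 1024, 1536])))))))

def stabListPart14 : Tbl (List ℕ) :=
  (.node 21 (.node 10 (.node 5 (.node 2 (.node 1 (.leaf [1731, 577, 3462, 2080, 2600, 1560, 448, 256, 320, 3072, 1024, 3584]) (.leaf [4006, 2218, 3039, 1976, 672, 3560, 768, 3392, 1216, 1536, 512, 3072])) (.node 1 (.leaf [716, 1427, 2534, 1512, 2376, 1616, 2688, 768, 1216, 3584, 2560, 512]) (.node 1 (.leaf [3119, 3597, 2577, 3024, 864, 1112, 832, 1088, 2176, 2048, 1536, 3072]) (.leaf [1749, 3489, 4058, 2032, 3448, 3688, 3776, 2944, 960, 1024, 2048, 1536])))) (.node 2 (.node 1 (.leaf [3005, 1354, 1699, 624, 2344, 3472, 2240, 3520, 2624, 1024, 1536, 3584]) (.leaf [827, 2447, 3425, 2784, 1520, 1640, 960, 2112, 3328, 3072, 2560, 1024])) (.node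 1 (.leaf [3311, 1116, 3981, 464, 312, 352, 832, 3264, 1088, 2048, 2560, 1536]) (.node 1 (.leaf [2902, 615, 1181, 3704, 2728, 776, 2816, 704, 1408, 1536, 3072, 3584]) (.leaf [3756, 2827, 726, 168, 264, 208, 3712, 2816, 704, 3584, 2560, 512]))))) (.node 5 (.node 2 (.node 1 (.leaf [663, 2265, 3580, 1360, 1688, 3832, 2368, 3200, 2752, 2048, 3072, 2560]) (.leaf [2885, 1154, 1731, 3120, 2600, 1040, 192, 448, 64, 1024, 1536, 3584])) (.node 1 (.leaf [1605, 899, 3201, 3632, 2064, 2616, 192, 64, 384, 1024, 3584, 2048]) (.node 1 (.leaf [3314, 1111, 4028, 664, 3528, 1328, 896, 3200, 1472, 2560, 1536, 512]) (.leaf [964, 3333, 1347, 2088, 2584, 1544, 128, 448, 256, 3584, 2048, 2560])))) (.node 3 (.node 1 (.leaf [3290, 3067, 1103, 1432, 1912, 3720, 2944, 1344, 1664, 2560, 1024, 1536]) (.node 1 (.leaf [3107, 1065, 3614, 3552, 1320, 3928, 3520, 1280, 3904, 3072, 1024, 3584]) (.leaf [3166, 1418, 3767, 1720,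 992, 3368, 1280, 3904, 2240, 1536, 512, 3072]))) (.node 1 (.leaf [676, 1307, 2294, 1384, 2120, 1680, 1152, 2304, 1728, 3584, 2560, 512]) (.node 1 (.leaf [1694, 3383, 3837, 2744, 808, 1224, 1280, 2240, 1920, 1536, 3072, 3584]) (.leaf [3447, 3709, 2729, 3984, 3040, 856, 3904, 2624, 640, 2048, 1536, 3072])))))) (.node 10 (.node 5 (.node 2 (.node 1 (.leaf [694, 2285, 3538, 2040, 3656, 800, 2304, 3456, 2880, 1536, 3584, 512]) (.leaf [2658, 668, 1331, 3160, 3760, 2872, 3968, 3008, 832, 2560, 512, 1024])) (.node 1 (.leaf [2379, 3239, 2801, 2976, 1392, 1704, 2496, 3136, 2816, 3072, 2560, 1024]) (.node 1 (.leaf [2132, 1699, 3358, 2344, 1736, 3472, 640, 1280, 2240, 3584, 2560, 512]) (.leaf [1663, 3849, 932, 656, 2264, 3576, 2880, 1152, 1728, 2048, 3072, 2560])))) (.node 2 (.node 1 (.leaf [1165, 4083, 2321, 688, 3536, 1336, 3264, 1088, 3968, 1024, 3584, 2048]) (.leaf [2631, 1924, 645, 1552, 568, 3104,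 320, 192, 64, 2048, 2560, 1536])) (.node 1 (.leaf [2869, 761, 1450, 1776, 3512, 4072, 1216, 2432, 1984, 1024, 2048, 1536]) (.node 1 (.leaf [2294, 2642, 1983, 1016, 3360, 1384, 2304, 2880, 1728, 1536, 512, 3072]) (.leaf [3693, 2459, 2697, 944, 3216, 1528, 1728, 576, 3456, 1024, 3584, 2048]))))) (.node 5 (.node 2 (.node 1 (.leaf [521, 1042, 2084, 584, 1168, 2336, 576, 1152, 2304, 512, 1024, 2048]) (.leaf [3311, 3981, 3025, 464, 352, 88, 832, 1088, 2176, 2048, 1536, 3072])) (.node 1 (.leaf [1903, 3729, 732, 976, 2136, 3384, 832, 2176, 3264, 2048, 3072, 2560]) (.node 1 (.leaf [1686, 1018, 3367, 1144, 4000, 2216, 2816, 1856, 704, 1536, 512, 3072]) (.leaf [3658, 803, 2487, 1880, 3768, 712, 1920, 3904, 640, 2560, 1024, 1536])))) (.node 3 (.node 1 (.leaf [2395, 2761, 1654, 1824, 872, 3288, 4032, 2304, 2880, 3072, 1024, 3584]) (.node 1 (.leaf [3278, 1138, 3991, 1784, 608, 3496, 3840, 2368, 2752, 1536,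 512, 3072]) (.leaf [3548, 3955, 2686, 1256, 2440, 2000, 2176, 1792, 3264, 3584, 2560, 512]))) (.node 1 (.leaf [3097, 3634, 2620, 1480, 2384, 1632, 1600, 3200, 3840, 512, 1024, 2048]) (.node 1 (.leaf [3746, 755, 2543, 600, 2360, 3464, 3968, 832, 2176, 2560, 1024, 1536]) (.leaf [2642, 676, 1307, 3800, 2992, 1016, 3456, 4032, 2880, 2560, 512, 1024])))))))

def stabListPart15 : Tbl (List ℕ) :=
  (.node 21 (.node 10 (.node 5 (.node 2 (.node 1 (.leaf [1403, 1679, 3809, 224, 496, 104, 960, 2112, 3328, 3072, 2560, 1024]) (.leaf [2422, 3245, 2770, 3576, 2632, 1312, 2304, 3456, 2880, 1536, 3584, 512])) (.node 1 (.leaf [564, 3093, 1083, 2152, 2968, 1672, 1664, 960, 3328, 3584, 2048, 2560]) (.node 1 (.leaf [3302, 3999, 3061, 1464, 2536, 1864, 768, 1216, 2432, 1536, 3072, 3584]) (.leaf [2508, 3174, 2869, 4072, 592, 2328, 2688, 1216, 1984, 3584, 512, 2048])))) (.node 2 (.node 1 (.leaf [3467, 2919, 1201,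 928, 2416, 3240, 2496, 3136, 2816, 3072, 2560, 1024]) (.leaf [1945, 654, 3570, 2504, 2864, 1872, 1600, 896, 3200, 512, 3072, 1024])) (.node 1 (.leaf [775, 1221, 2433, 3600, 2592, 536, 320, 64, 128, 2048, 1536, 3072]) (.node 1 (.leaf [543, 2105, 3084, 3664, 792, 2488, 3392, 2688, 1216, 2048, 3072, 2560]) (.leaf [1077, 1578, 3603, 1264, 2024, 3664, 1216, 1984, 3648, 1024, 1536, 3584]))))) (.node 5 (.node 2 (.node 1 (.leaf [885, 3283, 1145, 2288, 2640, 1976, 1216, 3648, 2432, 1024, 3584, 2048]) (.leaf [2353, 2902, 1786, 776, 3440, 1232, 3136, 1408, 3712, 512, 3072, 1024])) (.node 1 (.leaf [3634, 2620, 555, 3224, 3888, 2808, 896, 1472, 2368, 2560, 512, 1024]) (.node 1 (.leaf [1165, 2321, 1762, 688, 1336, 2280, 3264, 3968, 3008, 1024, 2048, 1536]) (.leaf [2077, 3130, 2571, 1904, 3752, 720, 704, 2496, 3136, 1024, 1536, 3584])))) (.node 3 (.node 1 (.leaf [3342, 1394, 3799, 3320, 1120, 4008, 3840,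 2368, 2752, 1536, 512, 3072]) (.node 1 (.leaf [3484, 4083, 2942, 2280, 1928, 3536, 2176, 1792, 3264, 3584, 2560, 512]) (.leaf [3580, 2638, 1317, 2984, 1360, 1688, 3200, 2752, 1472, 3584, 512, 2048]))) (.node 1 (.leaf [1967, 668, 3533, 2512, 2872, 1888, 832, 3264, 1088, 2048, 2560, 1536]) (.node 1 (.leaf [597, 3515, 1185, 3568, 1296, 3960, 3776, 2112, 2944, 1024, 3584, 2048]) (.leaf [3009, 1798, 834, 3592, 2096, 2576, 64, 384, 128, 512, 3072, 1024])))))) (.node 10 (.node 5 (.node 2 (.node 1 (.leaf [2242, 1924, 3523, 3608, 2608, 568, 384, 448, 320, 2560, 512, 1024]) (.leaf [2188, 1811, 3302, 2536, 1864, 3152, 2688, 768, 1216, 3584, 2560, 512])) (.node 1 (.leaf [3743, 761, 2508, 592, 2328, 3512, 3392, 2688, 1216, 2048, 3072, 2560]) (.node 1 (.leaf [985, 1394, 2172, 3016, 848, 1120, 1600, 3200, 3840, 512, 1024, 2048]) (.leaf [1844, 4014, 853, 616, 2320, 3480, 1664, 3776, 960, 3584, 512, 2048]))))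 (.node 2 (.node 1 (.leaf [3447, 1236, 3709, 3984, 2232, 3040, 3904, 2240, 2624, 2048, 2560, 1536]) (.leaf [2302, 2658, 1967, 2872, 1888, 744, 1792, 832, 3264, 1536, 512, 3072])) (.node 1 (.leaf [2099, 1598, 3119, 864, 1112, 2224, 3008, 832, 1088, 3072, 3584, 2560]) (.node 1 (.leaf [2161, 3372, 2966, 2312, 3488, 2928, 3136, 2816, 1408, 512, 2048, 3072]) (.leaf [615, 2353, 3500, 1232, 2008, 3704, 1856, 3712, 704, 2048, 3072, 2560]))))) (.node 5 (.node 2 (.node 1 (.leaf [1038, 3634, 2071, 2808, 1632, 936, 3840, 2368, 2752, 1536, 512, 3072]) (.leaf [3809, 2158, 2970, 136, 496, 272, 2112, 2944, 1664, 512, 3072, 1024])) (.node 1 (.leaf [3658, 2708, 803, 1880, 3184, 3768, 1920, 3520, 3904, 2560, 512, 1024]) (.node 1 (.leaf [745, 2516, 3166, 3784, 992, 2160, 2624, 1280, 1920, 512, 2048, 3072]) (.leaf [970, 2147, 3383, 3416, 2744, 1224, 1920, 3904, 640, 2560, 1024, 1536])))) (.node 3 (.node 1 (.leaf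 [2715, 1993, 822, 2848, 1896, 728, 4032, 2304, 2880, 3072, 1024, 3584]) (.node 1 (.leaf [2686, 1293, 1954, 824, 2440, 3424, 1792, 3968, 832, 1536, 3584, 512]) (.leaf [3756, 2525, 2827, 168, 472, 264, 3712, 2496, 2816, 3584, 2048, 2560]))) (.node 1 (.leaf [3383, 2985, 1364, 2448, 3416, 2744, 3904, 640, 2240, 2048, 3072, 2560]) (.node 1 (.leaf [822, 3410, 1279, 2552, 2848, 1896, 2304, 2880, 1728, 1536, 512, 3072]) (.leaf [2391, 2812, 1637, 336, 248, 96, 2368, 2752, 1600, 2048, 2560, 1536])))))))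

def stabListPart16 : Tbl (List ℕ) :=
  (.node 21 (.node 10 (.node 5 (.node 2 (.node 1 (.leaf [1214, 2351, 1741, 3896, 2792, 904, 1792, 3264, 3968, 1536, 3072, 3584]) (.leaf [1573, 3634, 555, 3888, 936, 2384, 2752, 1472, 1600, 1024, 1536, 3584])) (.node 1 (.leaf [3425, 1262, 3674, 3208, 1520, 3856, 2112, 2944, 1664, 512, 3072, 1024]) (.node 1 (.leaf [1418, 2516, 1891, 1368, 2160, 1720, 1920, 3520, 3904, 2560, 512, 1024]) (.leaf [3138, 1415, 3716, 2072, 2568, 1584, 384, 128, 448, 2560, 1536, 512])))) (.node 2 (.node 1 (.leaf [1347, 2118, 1671, 3616, 2584, 560, 448, 320, 64, 3072, 3584, 2560]) (.leaf [908, 2406, 3253, 1000, 2128, 3352, 2688, 1216, 1984, 3584, 512, 2048])) (.node 1 (.leaf [786, 3455, 1252, 2776, 1608, 944, 3456, 1152, 4032, 2560, 1536, 512]) (.node 1 (.leaf [1170, 2340, 1755, 216, 432, 504, 3456, 4032, 2880, 2560, 512, 1024]) (.leaf [3515, 2895, 1185, 2272, 3568, 2664, 960,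 2112, 3328, 3072, 2560, 1024]))))) (.node 5 (.node 2 (.node 1 (.leaf [3126, 3647, 2605, 4088, 2920, 584, 2304, 1728, 3456, 1536, 3072, 3584]) (.leaf [2459, 3455, 2697, 3872, 944, 2408, 4032, 576, 2304, 3072, 2560, 1024])) (.node 1 (.leaf [3489, 1198, 4058, 2696, 2032, 784, 2112, 2944, 1664, 512, 3072, 1024]) (.node 1 (.leaf [2827, 1905, 726, 416, 168, 472, 2496, 2816, 1856, 3072, 1024, 3584]) (.leaf [1470, 3746, 2543, 2360, 2912, 1768, 1792, 832, 3264, 1536, 512, 3072])))) (.node 3 (.node 1 (.leaf [2615, 1556, 573, 1936, 696, 3552, 3904, 2240, 2624, 2048, 2560, 1536]) (.node 1 (.leaf [3510, 4095, 2925, 504, 360, 72, 2304, 1728, 3456, 1536, 3072, 3584]) (.leaf [1381, 3819, 2137, 816, 3408, 1272, 2752, 1600, 896, 1024, 3584, 2048]))) (.node 1 (.leaf [3149, 3729, 2850, 1712, 3384, 3816, 3264, 3968, 3008, 1024, 2048, 1536]) (.node 1 (.leaf [3722, 739, 2551, 2392, 3256, 2760, 1920, 3904, 640,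 2560, 1024, 1536]) (.leaf [2406, 3253, 2794, 3000, 1352, 1696, 768, 2432, 3392, 1536, 3584, 512])))))) (.node 10 (.node 5 (.node 2 (.node 1 (.leaf [3084, 1077, 3603, 2024, 792, 3400, 2688, 1984, 768, 3584, 2048, 2560]) (.leaf [3388, 3819, 2958, 2472, 1992, 3408, 3200, 3840, 2752, 3584, 2560, 512])) (.node 1 (.leaf [2651, 694, 1343, 800, 1240, 2480, 4032, 2880, 576, 3072, 3584, 2560]) (.node 1 (.leaf [914, 2395, 3263, 3288, 3064, 1096, 3456, 2880, 1152, 2560, 1024, 1536]) (.leaf [827, 3425, 1262, 2784, 1640, 920, 960, 3328, 1344, 3072, 1024, 3584])))) (.node 2 (.node 1 (.leaf [3684, 822, 2477, 1896, 3728, 728, 1152, 1728, 4032, 3584, 512, 2048]) (.leaf [939, 2391, 3225, 96, 304, 424, 1472, 1600, 3840, 3072, 2560, 1024])) (.node 1 (.leaf [3473, 1214, 4066, 904, 3248, 1488, 1088, 3968, 2176, 512, 3072, 1024]) (.node 1 (.leaf [1654, 3885, 914, 3064, 1096, 1824, 2304, 3456, 2880, 1536, 3584, 512])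 (.leaf [1307, 3913, 2294, 3360, 1384, 3800, 4032, 2304, 2880, 3072, 1024, 3584]))))) (.node 5 (.node 2 (.node 1 (.leaf [3809, 2970, 1012, 136, 272, 224, 2112, 1664, 3328, 512, 1024, 2048]) (.leaf [645, 3523, 1281, 2608, 1552, 568, 192, 64, 384, 1024, 3584, 2048])) (.node 1 (.leaf [1450, 2508, 1875, 2328, 1776, 3512, 2432, 1984, 3392, 2560, 512, 1024]) (.node 1 (.leaf [2794, 1631, 908, 3352, 1352, 3824, 2432, 2688, 1984, 2560, 1536, 512]) (.leaf [3862, 2791, 925, 2680, 680, 1288, 2816, 704, 1408, 1536, 3072, 3584])))) (.node 3 (.node 1 (.leaf [4028, 846, 2213, 1960, 3920, 664, 3200, 2752, 1472, 3584, 512, 2048]) (.node 1 (.leaf [3716, 2501, 2819, 3624, 2072, 2568, 128, 448, 256, 3584, 2048, 2560]) (.leaf [1671, 3333, 3777, 3088, 3616, 2584, 320, 64, 128, 2048, 1536, 3072]))) (.node 1 (.leaf [949, 1529, 2410, 3312, 4024, 3048, 1216, 2432, 1984, 1024, 2048, 1536]) (.node 1 (.leaf [3253, 2794,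 1491, 3824, 1000, 2128, 1216, 1984, 3648, 1024, 1536, 3584]) (.leaf [3769, 2858, 716, 2376, 1616, 3232, 3648, 2688, 768, 512, 1024, 2048])))))))

def stabListPart17 : Tbl (List ℕ) :=
  (.node 21 (.node 10 (.node 5 (.node 2 (.node 1 (.leaf [2026, 3667, 799, 280, 440, 328, 2432, 3392, 2688, 2560, 1024, 1536]) (.leaf [2508, 2869, 1875, 4072, 2328, 2888, 2688, 1984, 768, 3584, 2048, 2560])) (.node 1 (.leaf [3999, 3061, 889, 3152, 3744, 2840, 3392, 3648, 2688, 2048, 1536, 3072]) (.node 1 (.leaf [2694, 1986, 775, 2104, 2592, 1576, 256, 320, 192, 1536, 512, 3072]) (.leaf [1092, 2179, 1798, 3112, 3592, 2576, 128, 256, 192, 3584, 2560, 512])))) (.node 2 (.node 1 (.leaf [4043, 615, 2353, 2464, 3440, 2728, 2496, 3136, 2816, 3072, 2560, 1024]) (.leaf [623, 3484, 1165, 3536, 1336, 3936, 832, 3264, 1088, 2048, 2560, 1536])) (.node 1 (.leaf [534, 1063, 2077, 3192, 3752, 2824, 2816, 704, 1408, 1536, 3072,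 3584]) (.node 1 (.leaf [1967, 3533, 3921, 2512, 1888, 3160, 832, 1088, 2176, 2048, 1536, 3072]) (.leaf [1622, 3869, 954, 2168, 3336, 2976, 2816, 1408, 1856, 1536, 3584, 512]))))) (.node 5 (.node 2 (.node 1 (.leaf [3005, 1001, 1354, 624, 1208, 2344, 2240, 1920, 3520, 1024, 2048, 1536]) (.leaf [3245, 2770, 1499, 1968, 3944, 656, 1728, 4032, 576, 1024, 1536, 3584])) (.node 1 (.leaf [985, 2172, 3342, 3016, 1120, 1840, 1600, 3840, 896, 512, 2048, 3072]) (.node 1 (.leaf [2265, 1970, 3580, 968, 1360, 2144, 1600, 3200, 3840, 512, 1024, 2048]) (.leaf [2658, 1331, 1967, 3160, 2872, 1416, 3968, 832, 2176, 2560, 1024, 1536])))) (.node 3 (.node 1 (.leaf [1780, 4078, 597, 2664, 1296, 1944, 1664, 3776, 960, 3584, 512, 2048]) (.node 1 (.leaf [2179, 3271, 3009, 544, 2096, 3112, 448, 64, 256, 3072, 2560, 1024]) (.leaf [1281, 3910, 2242, 2056, 2608, 1552, 64, 384, 128, 512, 3072, 1024]))) (.node 1 (.leaf [1130,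 3999, 2188, 2840, 1864, 752, 2432, 2688, 1984, 2560, 1536, 512]) (.node 1 (.leaf [1279, 3684, 2477, 3728, 2552, 2848, 2880, 1728, 576, 2048, 2560, 1536]) (.leaf [878, 1103, 2197, 1912, 3176, 3720, 3328, 3776, 2944, 1536, 3072, 3584])))))) (.node 10 (.node 5 (.node 2 (.node 1 (.leaf [1343, 2285, 1929, 2704, 800, 1240, 2880, 576, 1152, 2048, 1536, 3072]) (.leaf [814, 2453, 3418, 888, 2184, 3296, 3328, 2944, 1344, 1536, 3584, 512])) (.node 1 (.leaf [822, 2477, 3410, 2552, 3144, 2848, 2304, 3456, 2880, 1536, 3584, 512]) (.node 1 (.leaf [4020, 2197, 3067, 3176, 1432, 3720, 1664, 960, 3328, 3584, 2048, 2560]) (.leaf [834, 1092, 2179, 1048, 2096, 1592, 384, 448, 320, 2560, 512, 1024])))) (.node 2 (.node 1 (.leaf [3039, 1145, 1804, 2640, 1304, 1976, 3392, 2688, 1216, 2048, 3072, 2560]) (.leaf [3396, 2694, 1221, 1576, 3600, 536, 128, 192, 448, 3584, 512, 2048])) (.node 1 (.leaf [3467, 1201, 4054,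 928, 3240, 1496, 2496, 2816, 1856, 3072, 1024, 3584]) (.node 1 (.leaf [1945, 3570, 3964, 2504, 1872, 3168, 1600, 3200, 3840, 512, 1024, 2048]) (.leaf [1154, 4039, 2308, 1560, 520, 3120, 384, 128, 448, 2560, 1536, 512]))))) (.node 5 (.node 2 (.node 1 (.leaf [899, 1478, 2375, 1568, 3096, 3632, 448, 320, 64, 3072, 3584, 2560]) (.leaf [2406, 1631, 3253, 3000, 1000, 1352, 768, 1216, 2432, 1536, 3072, 3584])) (.node 1 (.leaf [3084, 2598, 1077, 2024, 3664, 792, 2688, 1216, 1984, 3584, 512, 2048]) (.node 1 (.leaf [2783, 949, 1529, 1104, 2208, 1816, 3392, 3648, 2688, 2048, 1536, 3072]) (.leaf [1063, 1585, 3628, 720, 2520, 3192, 1856, 3712, 704, 2048, 3072, 2560])))) (.node 3 (.node 1 (.leaf [2958, 1714, 983, 1272, 3680, 2472, 3840, 2368, 2752, 1536, 512, 3072]) (.node 1 (.leaf [5, 1, 2, 48, 56, 40, 192, 384, 448, 1024, 2048, 1536]) (.leaf [2858, 1887, 716, 3864, 2376, 2800, 2432, 2688, 1984, 2560,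 1536, 512]))) (.node 1 (.leaf [3921, 2658, 668, 1416, 2512, 1888, 1088, 2176, 1792, 512, 1024, 2048]) (.node 1 (.leaf [1052, 1598, 3597, 3304, 3024, 1112, 2176, 3264, 3008, 3584, 512, 2048]) (.leaf [999, 3372, 1373, 1744, 632, 3488, 1856, 704, 3136, 2048, 2560, 1536])))))))

def stabListPart18 : Tbl (List ℕ) :=
  (.node 21 (.node 10 (.node 5 (.node 2 (.node 1 (.leaf [1891, 3767, 745, 992, 2160, 3368, 3520, 2624, 1280, 3072, 2560, 1024]) (.leaf [3913, 2294, 2642, 2120, 2992, 1680, 576, 3456, 1152, 512, 3072, 1024])) (.node 1 (.leaf [846, 2213, 3314, 2296, 3528, 2656, 3840, 896, 2368, 1536, 3584, 512]) (.node 1 (.leaf [635, 3489, 1198, 1248, 3688, 2456, 960, 3328, 1344, 3072, 1024, 3584]) (.leaf [1001, 1354, 2132, 1736, 3472, 4064, 2624, 640, 1280, 512, 1024, 2048])))) (.node 2 (.node 1 (.leaf [6, 2, 7, 56, 32, 40, 256, 320, 192, 1536, 512, 3072]) (.leaf [3283, 4006, 3039, 672, 1304, 2288,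 1984, 3392, 3648, 3072, 3584, 2560])) (.node 1 (.leaf [3769, 716, 2534, 2376, 3232, 2800, 3648, 768, 2432, 512, 2048, 3072]) (.node 1 (.leaf [2321, 2942, 1762, 1928, 688, 3536, 1088, 3968, 2176, 512, 3072, 1024]) (.leaf [3130, 3628, 2571, 2520, 1904, 3192, 1408, 2496, 1856, 2560, 512, 1024]))))) (.node 5 (.node 2 (.node 1 (.leaf [668, 1331, 2302, 744, 1416, 2512, 2176, 1792, 3264, 3584, 2560, 512]) (.leaf [3239, 2801, 1516, 3792, 984, 2168, 1856, 3712, 704, 2048, 3072, 2560])) (.node 1 (.leaf [866, 3311, 1116, 88, 392, 176, 3968, 2176, 3008, 2560, 1536, 512]) (.node 1 (.leaf [4043, 2902, 615, 2464, 2008, 3440, 2496, 1856, 3136, 3072, 3584, 2560]) (.leaf [2558, 1903, 3149, 3384, 3816, 2952, 1792, 3264, 3968, 1536, 3072, 3584])))) (.node 3 (.node 1 (.leaf [2686, 1954, 687, 824, 3424, 1256, 1792, 832, 3264, 1536, 512, 3072]) (.node 1 (.leaf [2850, 732, 1459, 2136, 1712, 3384, 3968, 3008, 832,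 2560, 512, 1024]) (.leaf [2123, 3367, 2993, 4000, 880, 2216, 2496, 3136, 2816, 3072, 2560, 1024]))) (.node 1 (.leaf [2942, 1165, 1762, 1336, 1928, 3936, 1792, 3968, 832, 1536, 3584, 512]) (.node 1 (.leaf [3628, 2077, 2571, 3752, 2520, 2824, 3712, 2496, 2816, 3584, 2048, 2560]) (.leaf [2679, 1321, 1940, 400, 344, 184, 3904, 640, 2240, 2048, 3072, 2560])))))) (.node 10 (.node 5 (.node 2 (.node 1 (.leaf [3126, 1042, 3647, 4088, 2336, 2920, 2304, 2880, 1728, 1536, 512, 3072]) (.leaf [2071, 2620, 1573, 2384, 2808, 1632, 2368, 2752, 1600, 2048, 2560, 1536])) (.node 1 (.leaf [3323, 1121, 4014, 1760, 616, 3480, 960, 3328, 1344, 3072, 1024, 3584]) (.node 1 (.leaf [2395, 3263, 2761, 1824, 4016, 872, 4032, 576, 2304, 3072, 2560, 1024]) (.leaf [3245, 1499, 3849, 1968, 656, 3576, 1728, 576, 3456, 1024, 3584, 2048])))) (.node 2 (.node 1 (.leaf [3473, 4066, 2908, 904, 1488, 2400, 1088, 2176, 1792, 512,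 1024, 2048]) (.leaf [2426, 3211, 2791, 3544, 2680, 1288, 1408, 1856, 3712, 2560, 1024, 1536])) (.node 1 (.leaf [3515, 4078, 2895, 2272, 1944, 3568, 960, 1344, 2112, 3072, 3584, 2560]) (.node 1 (.leaf [2985, 1364, 1694, 1224, 2016, 3696, 2624, 1280, 1920, 512, 2048, 3072]) (.leaf [1798, 3271, 3973, 1592, 3112, 3592, 256, 192, 384, 1536, 3072, 3584]))))) (.node 5 (.node 2 (.node 1 (.leaf [1924, 3910, 645, 1064, 1552, 3608, 128, 192, 448, 3584, 512, 2048]) (.leaf [1811, 3999, 889, 3744, 752, 2536, 1984, 3648, 768, 3072, 2560, 1024])) (.node 1 (.leaf [4095, 2925, 585, 144, 288, 216, 2880, 576, 1152, 2048, 1536, 3072]) (.node 1 (.leaf [1279, 1993, 3684, 3728, 728, 2552, 2880, 1152, 1728, 2048, 3072, 2560]) (.leaf [878, 3290, 1103, 1912, 736, 3176, 3328, 1344, 3776, 1536, 512, 3072])))) (.node 3 (.node 1 (.leaf [1373, 3787, 2161, 2928, 1744, 632, 704, 3136, 1408, 1024, 3584, 2048]) (.node 1 (.leaf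 [2426, 1644, 3211, 3544, 3952, 2680, 1408, 2496, 1856, 2560, 512, 1024]) (.leaf [3869, 2801, 954, 1392, 2168, 1704, 704, 1408, 2496, 1024, 2048, 1536]))) (.node 1 (.leaf [3045, 1138, 1835, 2352, 3496, 2896, 2752, 1472, 1600, 1024, 1536, 3584]) (.node 1 (.leaf [3910, 2242, 2631, 568, 3104, 1064, 256, 320, 192, 1536, 512, 3072]) (.leaf [3433, 3658, 2708, 712, 1424, 2528, 2624, 640, 1280, 512, 1024, 2048])))))))

def stabListPart19 : Tbl (List ℕ) :=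
  (.node 21 (.node 10 (.node 5 (.node 2 (.node 1 (.leaf [1185, 4078, 2330, 648, 3568, 1296, 2112, 2944, 1664, 512, 3072, 1024]) (.leaf [3410, 1279, 3684, 728, 3144, 1456, 3456, 1152, 4032, 2560, 1536, 512])) (.node 1 (.leaf [3067, 878, 1103, 736, 1432, 2544, 960, 1344, 2112, 3072, 3584, 2560]) (.node 1 (.leaf [3934, 701, 2250, 184, 200, 480, 1280, 1920, 3904, 1536, 3584, 512]) (.leaf [3153, 3746, 2844, 3464, 4048, 2912, 1088, 2176, 1792, 512, 1024, 2048])))) (.node 2 (.node 1 (.leaf [1499, 2422, 1663, 1312, 2264, 1968, 4032, 2880, 576, 3072, 3584, 2560]) (.leaf [3617, 564, 2094, 1672, 3808, 1008, 2112, 3328, 2944, 512, 2048, 3072])) (.node 1 (.leaf [1415, 1857, 3716, 528, 2072, 3128, 320, 128, 192, 2048, 3072, 2560]) (.node 1 (.leaf [2118, 2946, 1671, 1080, 3616, 2088, 256, 320, 192, 1536, 512, 3072]) (.leaf [2783, 1612, 949, 1104, 4024, 2208, 3392, 1216, 3648, 2048, 2560, 1536]))))) (.node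 5 (.node 2 (.node 1 (.leaf [1269, 2489, 2026, 240, 440, 488, 1216, 2432, 1984, 1024, 2048, 1536]) (.leaf [2993, 1018, 1388, 1800, 3280, 4000, 3136, 3712, 2816, 512, 1024, 2048])) (.node 1 (.leaf [2, 4, 3, 24, 48, 56, 384, 448, 320, 2560, 512, 1024]) (.node 1 (.leaf [799, 2489, 3404, 80, 280, 440, 3392, 2688, 1216, 2048, 3072, 2560]) (.leaf [3667, 2726, 799, 160, 280, 240, 1984, 3392, 3648, 3072, 3584, 2560])))) (.node 3 (.node 1 (.leaf [1529, 1612, 3878, 840, 2208, 3312, 3648, 768, 2432, 512, 2048, 3072]) (.node 1 (.leaf [3947, 2265, 2638, 2144, 2984, 1688, 1472, 3840, 2368, 3072, 1024, 3584]) (.leaf [1825, 3290, 4020, 3720, 2832, 736, 2112, 1664, 3328, 512, 1024, 2048]))) (.node 1 (.leaf [2747, 1231, 2017, 3296, 3056, 1128, 960, 2112, 3328, 3072, 2560, 1024]) (.node 1 (.leaf [1869, 3746, 755, 1200, 1768, 4048, 3264, 3008, 1088, 1024, 1536, 3584]) (.leaf [3964, 2667, 654, 1448, 2504, 1872,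 3200, 3840, 2752, 3584, 2560, 512])))))) (.node 10 (.node 5 (.node 2 (.node 1 (.leaf [3777, 964, 2118, 1544, 3616, 560, 64, 256, 384, 512, 2048, 3072]) (.leaf [2551, 3177, 2836, 912, 2392, 3256, 3904, 640, 2240, 2048, 3072, 2560])) (.node 1 (.leaf [2038, 786, 3455, 1528, 3872, 2408, 2304, 2880, 1728, 1536, 512, 3072]) (.node 1 (.leaf [2197, 3290, 3067, 2544, 3176, 2832, 3776, 960, 2112, 1024, 1536, 3584]) (.leaf [573, 3107, 1065, 2672, 1936, 696, 2240, 2624, 1920, 1024, 3584, 2048])))) (.node 2 (.node 1 (.leaf [745, 3166, 1418, 3784, 2160, 2960, 2624, 1920, 640, 512, 3072, 1024]) (.leaf [3, 7, 1, 32, 48, 40, 448, 64, 256, 3072, 2560, 1024])) (.node 1 (.leaf [2534, 3189, 2858, 952, 2376, 3232, 768, 2432, 3392, 1536, 3584, 512]) (.node 1 (.leaf [3404, 1269, 3667, 488, 280, 328, 2688, 1984, 768, 3584, 2048, 2560]) (.leaf [1447, 3756, 2525, 208, 120, 416, 1856, 704, 3136, 2048, 2560, 1536])))))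 (.node 5 (.node 2 (.node 1 (.leaf [3333, 2946, 1347, 560, 2088, 3088, 192, 448, 64, 1024, 1536, 3584]) (.leaf [2501, 2819, 1857, 1584, 528, 3128, 192, 64, 384, 1024, 3584, 2048])) (.node 1 (.leaf [2489, 2726, 2026, 328, 240, 80, 3648, 2432, 2688, 512, 3072, 1024]) (.node 1 (.leaf [2410, 1612, 3219, 1816, 3312, 4024, 2432, 1984, 3392, 2560, 512, 1024]) (.leaf [1427, 2534, 1887, 3232, 3864, 2800, 1984, 3392, 3648, 3072, 3584, 2560])))) (.node 3 (.node 1 (.leaf [1905, 3194, 3756, 264, 208, 416, 3136, 3712, 2816, 512, 1024, 2048]) (.node 1 (.leaf [1970, 3947, 663, 1688, 3832, 968, 896, 2368, 3200, 2560, 1024, 1536]) (.leaf [3890, 2812, 939, 152, 304, 248, 896, 1472, 2368, 2560, 512, 1024]))) (.node 1 (.leaf [627, 2351, 3473, 2400, 3248, 2792, 3008, 1088, 1792, 3072, 2560, 1024]) (.node 1 (.leaf [1940, 701, 3555, 296, 344, 200, 640, 3520, 1280, 3584, 2048, 2560]) (.leaf [1714, 983, 3388, 2712,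 1992, 816, 896, 3200, 1472, 2560, 1536, 512])))))))

def stabListPart20 : Tbl (List ℕ) :=
  (.node 21 (.node 10 (.node 5 (.node 2 (.node 1 (.leaf [2631, 645, 1281, 1552, 3104, 3608, 320, 64, 128, 2048, 1536, 3072]) (.leaf [2285, 3538, 2651, 2480, 3432, 2704, 1728, 4032, 576, 1024, 1536, 3584])) (.node 1 (.leaf [2453, 2747, 2017, 3056, 1808, 888, 3776, 2112, 2944, 1024, 3584, 2048]) (.node 1 (.leaf [2761, 1654, 914, 1096, 4016, 2192, 576, 3456, 1152, 512, 3072, 1024]) (.leaf [3674, 2740, 827, 920, 1520, 2424, 2944, 960, 1344, 2560, 512, 1024])))) (.node 2 (.node 1 (.leaf [1321, 2250, 1940, 200, 400, 480, 2624, 640, 1280, 512, 1024, 2048]) (.leaf [1042, 1563, 3647, 1752, 4088, 584, 3456, 2880, 1152, 2560, 1024, 1536])) (.node 1 (.leaf [2620, 1038, 1573, 936, 2384, 3224, 3200, 2752, 1472, 3584, 512, 2048]) (.node 1 (.leaf [2543, 2844, 1869, 4048, 2360, 2912, 832, 3264, 1088, 2048, 2560, 1536])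 (.leaf [2147, 1694, 3383, 2016, 3416, 3696, 3520, 3904, 2624, 3072, 3584, 2560]))))) (.node 5 (.node 2 (.node 1 (.leaf [1993, 3684, 822, 3144, 2848, 1456, 576, 2304, 3456, 512, 2048, 3072]) (.leaf [3890, 939, 2391, 152, 248, 456, 896, 2368, 3200, 2560, 1024, 1536])) (.node 1 (.leaf [627, 3473, 1214, 2400, 2792, 1624, 3008, 1792, 832, 3072, 1024, 3584]) (.node 1 (.leaf [1038, 2071, 1573, 2808, 936, 1480, 3840, 2752, 896, 1536, 3072, 3584]) (.leaf [710, 2501, 3138, 3128, 2568, 1056, 256, 384, 320, 1536, 3584, 512])))) (.node 3 (.node 1 (.leaf [3219, 1529, 3878, 2208, 3048, 1816, 1984, 768, 3392, 3072, 1024, 3584]) (.node 1 (.leaf [3897, 2794, 908, 1352, 2128, 1696, 3648, 2688, 768, 512, 1024, 2048]) (.leaf [2551, 1917, 3177, 912, 1504, 2392, 3904, 2624, 640, 2048, 1536, 3072]))) (.node 1 (.leaf [2038, 3693, 786, 1528, 1608, 3872, 2304, 3456, 2880, 1536, 3584, 512]) (.node 1 (.leaf [2330, 1780,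 3515, 1944, 3568, 3960, 2944, 960, 1344, 2560, 512, 1024]) (.leaf [1065, 1556, 3614, 2248, 3552, 2672, 2624, 1280, 1920, 512, 2048, 3072])))))) (.node 10 (.node 5 (.node 2 (.node 1 (.leaf [1170, 4095, 2340, 216, 72, 432, 3456, 1152, 4032, 2560, 1536, 512]) (.leaf [3580, 1317, 3947, 2984, 1688, 968, 3200, 1472, 3840, 3584, 2048, 2560])) (.node 1 (.leaf [1563, 521, 3126, 2336, 2920, 1752, 4032, 2304, 2880, 3072, 1024, 3584]) (.node 1 (.leaf [1121, 2202, 1844, 1160, 2320, 1760, 2112, 1664, 3328, 512, 1024, 2048]) (.leaf [786, 1252, 2459, 2776, 944, 1528, 3456, 4032, 2880, 2560, 512, 1024])))) (.node 2 (.node 1 (.leaf [635, 2319, 3489, 1248, 2032, 3688, 960, 2112, 3328, 3072, 2560, 1024]) (.leaf [1293, 2257, 1954, 2736, 824, 1256, 3264, 3968, 3008, 1024, 2048, 1536])) (.node 1 (.leaf [3153, 2844, 1470, 3464, 2912, 1200, 1088, 1792, 3968, 512, 2048, 3072]) (.node 1 (.leaf [2362, 2919, 1772, 1496,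 3848, 2416, 1408, 3712, 2496, 2560, 1536, 512]) (.leaf [577, 3462, 1154, 520, 3120, 1040, 64, 384, 128, 512, 3072, 1024]))))) (.node 5 (.node 2 (.node 1 (.leaf [2467, 3447, 2729, 3040, 1136, 1832, 3520, 2624, 1280, 3072, 2560, 1024]) (.leaf [1929, 694, 3538, 3656, 2480, 2704, 576, 3456, 1152, 512, 3072, 1024])) (.node 1 (.leaf [1993, 3410, 3684, 3144, 3728, 2848, 576, 1152, 2304, 512, 1024, 2048]) (.node 1 (.leaf [2447, 3425, 2740, 3856, 920, 2424, 1344, 1664, 3776, 2048, 3072, 2560]) (.leaf [3565, 2642, 1307, 2992, 1384, 1680, 1728, 4032, 576, 1024, 1536, 3584])))) (.node 3 (.node 1 (.leaf [3349, 1403, 3809, 496, 272, 376, 3776, 2112, 2944, 1024, 3584, 2048]) (.node 1 (.leaf [2756, 1478, 1605, 552, 2064, 3096, 128, 192, 448, 3584, 512, 2048]) (.leaf [775, 3396, 1221, 3600, 2104, 2592, 320, 192, 64, 2048, 2560, 1536]))) (.node 1 (.leaf [585, 1170, 2340, 72, 144, 288, 576, 1152, 2304, 512,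 1024, 2048]) (.node 1 (.leaf [814, 3418, 1231, 888, 3296, 1128, 3328, 1344, 3776, 1536, 512, 3072]) (.leaf [1940, 3555, 3934, 296, 200, 400, 640, 1280, 2240, 3584, 2560, 512])))))))

def stabListPart21 : Tbl (List ℕ) :=
  (.node 21 (.node 10 (.node 5 (.node 2 (.node 1 (.leaf [521, 2084, 3126, 584, 2336, 3504, 576, 2304, 3456, 512, 2048, 3072]) (.leaf [3934, 2250, 2679, 184, 480, 296, 1280, 3904, 2240, 1536, 512, 3072])) (.node 1 (.leaf [1065, 2058, 1556, 2248, 1936, 3552, 2624, 640, 1280, 512, 1024, 2048]) (.node 1 (.leaf [1170, 1755, 4095, 216, 504, 72, 3456, 2880, 1152, 2560, 1024, 1536]) (.leaf [3674, 827, 2447, 920, 2424, 3208, 2944, 1344, 1664, 2560, 1024, 1536])))) (.node 2 (.node 1 (.leaf [2277, 2667, 1945, 2864, 1872, 760, 2752, 1600, 896, 1024, 3584, 2048]) (.leaf [1857, 710, 3138, 2568, 1584, 528, 64, 384, 128, 512, 3072, 1024])) (.node 1 (.leaf [3130, 1063, 3628, 2520, 2824, 1904,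 1408, 3712, 2496, 2560, 1536, 512]) (.node 1 (.leaf [3819, 2958, 983, 3680, 2712, 816, 1472, 2368, 1600, 3072, 3584, 2560]) (.leaf [2932, 1749, 635, 3688, 2456, 2696, 1664, 960, 3328, 3584, 2048, 2560]))))) (.node 5 (.node 2 (.node 1 (.leaf [3831, 3005, 1001, 3472, 4064, 2904, 3904, 2624, 640, 2048, 1536, 3072]) (.leaf [3693, 786, 2459, 944, 2408, 3216, 1728, 4032, 576, 1024, 1536, 3584])) (.node 1 (.leaf [3722, 2836, 739, 2392, 1648, 3256, 1920, 3520, 3904, 2560, 512, 1024]) (.node 1 (.leaf [4020, 3067, 878, 3176, 3720, 2832, 1664, 3328, 3776, 3584, 2560, 512]) (.leaf [2877, 1418, 1891, 2160, 3368, 2960, 2240, 3520, 2624, 1024, 1536, 3584])))) (.node 3 (.node 1 (.leaf [3565, 1307, 3913, 2992, 1680, 1016, 1728, 576, 3456, 1024, 3584, 2048]) (.node 1 (.leaf [2489, 3404, 2726, 328, 160, 240, 3648, 768, 2432, 512, 2048, 3072]) (.leaf [1018, 2123, 3367, 3032, 1144, 1800, 1408, 1856, 3712, 2560,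 1024, 1536]))) (.node 1 (.leaf [1707, 985, 3342, 1120, 4008, 2200, 1472, 3840, 2368, 3072, 1024, 3584]) (.node 1 (.leaf [2172, 3342, 2981, 4008, 848, 2200, 3200, 2752, 1472, 3584, 512, 2048]) (.leaf [3709, 2729, 778, 1136, 2232, 1832, 2240, 1920, 3520, 1024, 2048, 1536])))))) (.node 10 (.node 5 (.node 2 (.node 1 (.leaf [2005, 3425, 3674, 1520, 2424, 1640, 3776, 2944, 960, 1024, 2048, 1536]) (.leaf [2970, 1403, 1679, 408, 376, 136, 2944, 1344, 1664, 2560, 1024, 1536])) (.node 1 (.leaf [3500, 1181, 4043, 2728, 2008, 776, 3712, 2496, 2816, 3584, 2048, 2560]) (.node 1 (.leaf [2844, 755, 1470, 1768, 3464, 4048, 2176, 1792, 3264, 3584, 2560, 512]) (.leaf [2919, 1201, 1772, 2768, 1496, 1656, 1856, 3712, 704, 2048, 3072, 2560])))) (.node 2 (.node 1 (.leaf [2812, 1637, 939, 424, 152, 456, 3200, 1472, 3840, 3584, 2048, 2560]) (.leaf [2351, 1741, 3473, 1488, 2400, 1624, 832, 1088, 2176, 2048, 1536,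 3072])) (.node 1 (.leaf [1364, 2147, 1694, 808, 1224, 2448, 640, 1280, 2240, 3584, 2560, 512]) (.node 1 (.leaf [2459, 2697, 2038, 3872, 2408, 2776, 4032, 2304, 2880, 3072, 1024, 3584]) (.leaf [1111, 2213, 1817, 3920, 2656, 664, 2368, 1600, 3200, 2048, 1536, 3072]))))) (.node 5 (.node 2 (.node 1 (.leaf [1598, 3597, 546, 1848, 3976, 864, 1792, 3968, 832, 1536, 3584, 512]) (.leaf [2319, 3489, 2932, 784, 2456, 3448, 1344, 1664, 3776, 2048, 3072, 2560])) (.node 1 (.leaf [3358, 1354, 3831, 1208, 4064, 2344, 1280, 3904, 2240, 1536, 512, 3072]) (.node 1 (.leaf [5, 2, 3, 48, 40, 16, 192, 448, 64, 1024, 1536, 3584]) (.leaf [2885, 1731, 577, 3120, 1040, 3640, 192, 64, 384, 1024, 3584, 2048])))) (.node 3 (.node 1 (.leaf [1145, 4006, 2218, 3912, 2288, 2640, 3648, 2432, 2688, 512, 3072, 1024]) (.node 1 (.leaf [676, 3565, 1307, 1384, 3800, 2120, 1152, 4032, 2304, 3584, 2048, 2560]) (.leaf [1679, 3349, 3809,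 272, 224, 408, 1344, 2112, 1664, 2048, 1536, 3072]))) (.node 1 (.leaf [1521, 2426, 1644, 1288, 2256, 1952, 3136, 3712, 2816, 512, 1024, 2048]) (.node 1 (.leaf [866, 1116, 2227, 88, 176, 312, 3968, 3008, 832, 2560, 512, 1024]) (.leaf [2132, 3358, 3005, 2344, 3472, 2904, 640, 2240, 3520, 3584, 512, 2048])))))))

def stabListPart22 : Tbl (List ℕ) :=
  (.node 21 (.node 10 (.node 5 (.node 2 (.node 1 (.leaf [7, 5, 1, 16, 32, 24, 320, 64, 128, 2048, 1536, 3072]) (.leaf [3462, 2885, 1154, 3640, 520, 2080, 256, 384, 320, 1536, 3584, 512])) (.node 1 (.leaf [2534, 2858, 1887, 952, 3232, 1512, 768, 3392, 1216, 1536, 512, 3072]) (.node 1 (.leaf [1929, 3940, 694, 3656, 800, 2480, 576, 2304, 3456, 512, 2048, 3072]) (.leaf [1563, 3647, 521, 2336, 3504, 2920, 4032, 576, 2304, 3072, 2560, 1024])))) (.node 2 (.node 1 (.leaf [2844, 1869, 755, 1768, 600, 3464, 2176, 3008, 1792, 3584, 2048, 2560]) (.leaf [2158,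 2970, 1679, 376, 224, 104, 3328, 1344, 3776, 1536, 512, 3072])) (.node 1 (.leaf [1663, 932, 3245, 656, 3576, 1312, 2880, 1728, 576, 2048, 2560, 1536]) (.node 1 (.leaf [2094, 1551, 3093, 1400, 2152, 1672, 3328, 3776, 2944, 1536, 3072, 3584]) (.leaf [3009, 1092, 1798, 3592, 544, 2096, 64, 256, 384, 512, 2048, 3072]))))) (.node 5 (.node 2 (.node 1 (.leaf [2242, 2631, 1924, 3608, 2056, 2608, 384, 128, 448, 2560, 1536, 512]) (.leaf [2188, 3061, 1811, 2536, 2840, 1864, 2688, 1984, 768, 3584, 2048, 2560])) (.node 1 (.leaf [1491, 3897, 2406, 1696, 1000, 3352, 1984, 768, 3392, 3072, 1024, 3584]) (.node 1 (.leaf [3051, 1111, 1817, 2656, 1328, 1960, 1472, 1600, 3840, 3072, 2560, 1024]) (.leaf [3219, 3878, 2783, 2208, 1816, 3312, 1984, 3392, 3648, 3072, 3584, 2560])))) (.node 3 (.node 1 (.leaf [3897, 908, 2406, 1352, 1696, 3824, 3648, 768, 2432, 512, 2048, 3072]) (.node 1 (.leaf [2534, 1887, 3189, 952,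 1512, 2376, 768, 1216, 2432, 1536, 3072, 3584]) (.leaf [3404, 2726, 1269, 488, 80, 280, 2688, 1216, 1984, 3584, 512, 2048]))) (.node 1 (.leaf [985, 3342, 1394, 3016, 1840, 848, 1600, 896, 3200, 512, 3072, 1024]) (.node 1 (.leaf [3425, 3674, 2740, 3208, 3856, 2784, 2112, 1664, 3328, 512, 1024, 2048]) (.leaf [1418, 1891, 3767, 1368, 1720, 3784, 1920, 3904, 640, 2560, 1024, 1536])))))) (.node 10 (.node 5 (.node 2 (.node 1 (.leaf [1364, 1694, 3837, 808, 2448, 3416, 640, 2240, 3520, 3584, 512, 2048]) (.leaf [1427, 1887, 3769, 3232, 2800, 1512, 1984, 3648, 768, 3072, 2560, 1024])) (.node 1 (.leaf [2966, 1373, 1722, 632, 2312, 3488, 2816, 1408, 1856, 1536, 3584, 512]) (.node 1 (.leaf [1679, 1012, 3349, 272, 376, 224, 1344, 3776, 2112, 2048, 2560, 1536]) (.leaf [694, 3538, 1343, 2040, 800, 3432, 2304, 2880, 1728, 1536, 512, 3072])))) (.node 2 (.node 1 (.leaf [3700, 2747, 814, 1128, 2184, 1808, 1664,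 3328, 3776, 3584, 2560, 512]) (.leaf [2543, 1869, 3153, 4048, 2912, 600, 832, 1088, 2176, 2048, 1536, 3072])) (.node 1 (.leaf [3239, 1516, 3869, 3792, 2168, 2976, 1856, 704, 3136, 2048, 2560, 1536]) (.node 1 (.leaf [3278, 3991, 3045, 1784, 3496, 4040, 3840, 2752, 896, 1536, 3072, 3584]) (.leaf [4014, 853, 2202, 2936, 1160, 1760, 3328, 2944, 1344, 1536, 3584, 512]))))) (.node 5 (.node 2 (.node 1 (.leaf [1236, 3709, 2467, 1832, 856, 3272, 640, 3520, 1280, 3584, 2048, 2560]) (.leaf [803, 3433, 1246, 2528, 2856, 1880, 3520, 1280, 3904, 3072, 1024, 3584])) (.node 1 (.leaf [2761, 914, 1508, 1096, 2192, 1824, 576, 1152, 2304, 512, 1024, 2048]) (.node 1 (.leaf [3418, 3700, 2747, 3992, 3056, 888, 2944, 960, 1344, 2560, 512, 1024]) (.leaf [3555, 2679, 1321, 480, 112, 296, 3520, 2624, 1280, 3072, 2560, 1024])))) (.node 3 (.node 1 (.leaf [1381, 2137, 1714, 816, 1272, 2472, 2752, 896, 1472, 1024, 2048,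 1536]) (.node 1 (.leaf [3149, 2850, 1459, 1712, 3816, 976, 3264, 3008, 1088, 1024, 1536, 3584]) (.leaf [3314, 3051, 1111, 664, 2296, 3528, 896, 2368, 3200, 2560, 1024, 1536]))) (.node 1 (.leaf [964, 2118, 3333, 2088, 3088, 2584, 128, 192, 448, 3584, 512, 2048]) (.node 1 (.leaf [1415, 3716, 2501, 528, 3128, 1056, 320, 192, 64, 2048, 2560, 1536]) (.leaf [3225, 1486, 3890, 456, 304, 336, 1600, 896, 3200, 512, 3072, 1024])))))))

def stabListPart23 : Tbl (List ℕ) :=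
  (.node 21 (.node 10 (.node 5 (.node 2 (.node 1 (.leaf [3842, 2375, 2756, 3096, 1032, 3632, 384, 128, 448, 2560, 1536, 512]) (.leaf [3651, 2694, 775, 2592, 536, 1072, 448, 320, 64, 3072, 3584, 2560])) (.node 1 (.leaf [3955, 2686, 687, 3424, 3672, 2736, 3008, 832, 1088, 3072, 3584, 2560]) (.node 1 (.leaf [1905, 3756, 726, 264, 416, 368, 3136, 2816, 1408, 512, 2048, 3072]) (.leaf [1556, 3614, 573, 1320, 1936, 3928, 640, 2240, 3520, 3584, 512, 2048])))) (.node 2 (.node 1 (.leaf [3533, 3921, 2658, 3760, 2872, 744, 3264, 3968, 3008, 1024, 2048, 1536]) (.leaf [3119, 2577, 1052, 3024, 1112, 1848, 832, 2176, 3264, 2048, 3072, 2560])) (.node 1 (.leaf [2966, 1722, 999, 632, 3488, 1192, 2816, 1856, 704, 1536, 512, 3072]) (.node 1 (.leaf [2351, 2908, 1741, 1488, 3896, 2400, 832, 3264, 1088, 2048, 2560, 1536]) (.leaf [3709, 2467, 2729, 1136, 3984, 2232, 2240, 2624, 1920, 1024, 3584, 2048]))))) (.node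 5 (.node 2 (.node 1 (.leaf [2285, 1929, 3538, 2480, 2040, 3432, 1728, 3456, 4032, 1024, 2048, 1536]) (.leaf [2137, 1714, 3388, 1992, 3408, 3680, 1600, 3200, 3840, 512, 1024, 2048])) (.node 1 (.leaf [2850, 1459, 1903, 2136, 3384, 2952, 3968, 832, 2176, 2560, 1024, 1536]) (.node 1 (.leaf [1246, 2045, 3658, 3768, 712, 2528, 1280, 1920, 3904, 1536, 3584, 512]) (.leaf [3831, 1001, 2132, 3472, 2904, 1208, 3904, 640, 2240, 2048, 3072, 2560])))) (.node 3 (.node 1 (.leaf [2970, 1012, 1403, 408, 496, 376, 2944, 960, 1344, 2560, 512, 1024]) (.node 1 (.leaf [803, 2487, 3433, 2528, 3184, 2856, 3520, 2624, 1280, 3072, 2560, 1024]) (.leaf [3634, 555, 2071, 3224, 2808, 1480, 896, 2368, 3200, 2560, 1024, 1536]))) (.node 1 (.leaf [755, 3153, 1470, 2912, 1768, 600, 3008, 1792, 832, 3072, 1024, 3584]) (.node 1 (.leaf [1262, 3674, 2447, 2424, 2784, 1640, 3328, 1344, 3776, 1536, 512, 3072]) (.leaf [2118, 1671,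 3333, 1080, 2088, 1544, 256, 192, 384, 1536, 3072, 3584])))))) (.node 10 (.node 5 (.node 2 (.node 1 (.leaf [2477, 2715, 1993, 1456, 3728, 2552, 1728, 576, 3456, 1024, 3584, 2048]) (.leaf [2197, 1825, 3290, 2544, 1912, 3176, 3776, 2944, 960, 1024, 2048, 1536])) (.node 1 (.leaf [3418, 2747, 1231, 3992, 888, 2184, 2944, 1344, 1664, 2560, 1024, 1536]) (.node 1 (.leaf [2827, 1447, 1905, 416, 368, 168, 2496, 3136, 2816, 3072, 2560, 1024]) (.leaf [1470, 1869, 3746, 2360, 3464, 2912, 1792, 3968, 832, 1536, 3584, 512])))) (.node 2 (.node 1 (.leaf [2242, 3523, 2631, 3608, 568, 2056, 384, 320, 128, 2560, 1024, 1536]) (.leaf [3, 1, 6, 32, 40, 24, 448, 256, 320, 3072, 1024, 3584])) (.node 1 (.leaf [745, 1418, 2516, 3784, 2960, 992, 2624, 640, 1280, 512, 1024, 2048]) (.node 1 (.leaf [2932, 635, 1198, 3688, 2696, 784, 1664, 3328, 3776, 3584, 2560, 512]) (.leaf [1917, 3722, 739, 1648, 3880, 912, 2240, 3520,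 2624, 1024, 1536, 3584]))))) (.node 5 (.node 2 (.node 1 (.leaf [2014, 3709, 778, 2232, 3272, 3040, 1280, 1920, 3904, 1536, 3584, 512]) (.leaf [3819, 2137, 2958, 3680, 2472, 2712, 1472, 3840, 2368, 3072, 1024, 3584])) (.node 1 (.leaf [3729, 2850, 732, 2952, 976, 1376, 1088, 2176, 1792, 512, 1024, 2048]) (.node 1 (.leaf [2501, 1857, 3138, 1584, 3128, 3624, 192, 384, 448, 1024, 2048, 1536]) (.leaf [2489, 2026, 3404, 328, 80, 160, 3648, 2688, 768, 512, 1024, 2048])))) (.node 3 (.node 1 (.leaf [2410, 3219, 2783, 1816, 4024, 840, 2432, 3392, 2688, 2560, 1024, 1536]) (.node 1 (.leaf [1077, 3603, 2105, 1264, 3664, 2488, 1216, 3648, 2432, 1024, 3584, 2048]) (.leaf [983, 1381, 2137, 3408, 3680, 2712, 2368, 1600, 3200, 2048, 1536, 3072]))) (.node 1 (.leaf [1321, 3934, 2250, 200, 112, 400, 2624, 1920, 640, 512, 3072, 1024]) (.node 1 (.leaf [1563, 3126, 3647, 2336, 1752, 3504, 4032, 2880, 576, 3072, 3584,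 2560]) (.leaf [3878, 949, 2410, 4024, 840, 2208, 768, 2432, 3392, 1536, 3584, 512])))))))

def stabListPart24 : Tbl (List ℕ) :=
  (.node 21 (.node 10 (.node 5 (.node 2 (.node 1 (.leaf [654, 3570, 1303, 760, 3168, 1448, 3840, 2368, 2752, 1536, 512, 3072]) (.leaf [1116, 2227, 1854, 232, 392, 464, 2176, 1792, 3264, 3584, 2560, 512])) (.node 1 (.leaf [983, 2137, 3388, 3408, 2712, 1272, 2368, 3200, 2752, 2048, 3072, 2560]) (.node 1 (.leaf [1578, 3603, 543, 792, 2488, 3400, 2432, 3392, 2688, 2560, 1024, 1536]) (.leaf [521, 3126, 1042, 584, 3504, 1168, 576, 3456, 1152, 512, 3072, 1024])))) (.node 2 (.node 1 (.leaf [2202, 1844, 3323, 3480, 4080, 2936, 2944, 960, 1344, 2560, 512, 1024]) (.leaf [1252, 2459, 2038, 2408, 1608, 3216, 1152, 2304, 1728, 3584, 2560, 512])) (.node 1 (.leaf [2379, 2801, 1622, 2976, 1704, 984, 2496, 2816, 1856, 3072, 1024, 3584]) (.node 1 (.leaf [2801, 1622, 954, 3336, 1392,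 3792, 3136, 1408, 3712, 512, 3072, 1024]) (.leaf [1138, 2236, 1835, 1176, 2352, 1784, 896, 1472, 2368, 2560, 512, 1024]))))) (.node 5 (.node 2 (.node 1 (.leaf [1201, 2362, 1772, 3848, 2768, 928, 3136, 3712, 2816, 512, 1024, 2048]) (.leaf [3716, 710, 2501, 3624, 528, 2072, 128, 192, 448, 3584, 512, 2048])) (.node 1 (.leaf [1671, 964, 3333, 3088, 1080, 3616, 320, 192, 64, 2048, 2560, 1536]) (.node 1 (.leaf [3097, 2620, 1038, 1480, 1632, 3888, 1600, 3840, 896, 512, 2048, 3072]) (.leaf [3991, 2236, 3045, 2896, 1784, 608, 2368, 2752, 1600, 2048, 2560, 1536])))) (.node 3 (.node 1 (.leaf [5, 3, 1, 48, 16, 56, 192, 64, 384, 1024, 3584, 2048]) (.node 1 (.leaf [2885, 577, 1154, 3120, 3640, 2600, 192, 384, 448, 1024, 2048, 1536]) (.leaf [3647, 2605, 521, 1168, 2336, 1752, 2880, 576, 1152, 2048, 1536, 3072]))) (.node 1 (.leaf [1083, 3617, 2094, 3808, 2152, 2968, 960, 3328, 1344, 3072, 1024, 3584]) (.node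 1 (.leaf [3177, 3722, 2836, 2760, 912, 1504, 2624, 640, 1280, 512, 1024, 2048]) (.leaf [3302, 1130, 3999, 1464, 3744, 2536, 768, 3392, 1216, 1536, 512, 3072])))))) (.node 10 (.node 5 (.node 2 (.node 1 (.leaf [3467, 4054, 2919, 928, 1496, 2416, 2496, 1856, 3136, 3072, 3584, 2560]) (.leaf [1945, 3964, 654, 2504, 3168, 2864, 1600, 3840, 896, 512, 2048, 3072])) (.node 1 (.leaf [2942, 623, 1165, 1336, 2280, 1928, 1792, 3264, 3968, 1536, 3072, 3584]) (.node 1 (.leaf [1331, 1967, 3921, 1888, 3760, 744, 3008, 1088, 1792, 3072, 2560, 1024]) (.leaf [546, 3119, 1052, 1112, 3976, 2224, 3968, 2176, 3008, 2560, 1536, 512])))) (.node 2 (.node 1 (.leaf [3787, 2966, 999, 3488, 4056, 2928, 2496, 1856, 3136, 3072, 3584, 2560]) (.leaf [4083, 623, 2321, 3936, 688, 2280, 3008, 1088, 1792, 3072, 2560, 1024])) (.node 1 (.leaf [3799, 985, 2172, 848, 2200, 3320, 2368, 3200, 2752, 2048, 3072, 2560]) (.node 1 (.leaf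 [2308, 2885, 1731, 2600, 1560, 520, 128, 448, 256, 3584, 2048, 2560]) (.leaf [2375, 1605, 3201, 2064, 1568, 3096, 320, 64, 128, 2048, 1536, 3072]))))) (.node 5 (.node 2 (.node 1 (.leaf [3130, 2571, 1063, 2520, 3192, 2824, 1408, 1856, 3712, 2560, 1024, 1536]) (.leaf [3964, 654, 2277, 1448, 1872, 3736, 3200, 2752, 1472, 3584, 512, 2048])) (.node 1 (.leaf [2197, 3067, 1825, 2544, 2832, 1912, 3776, 2112, 2944, 1024, 3584, 2048]) (.node 1 (.leaf [573, 1065, 2058, 2672, 696, 1320, 2240, 1920, 3520, 1024, 2048, 1536]) (.leaf [2265, 2638, 1970, 968, 3376, 1360, 1600, 896, 3200, 512, 3072, 1024])))) (.node 3 (.node 1 (.leaf [1644, 925, 3211, 680, 3544, 1288, 3712, 2496, 2816, 3584, 2048, 2560]) (.node 1 (.leaf [3333, 3777, 2946, 560, 1080, 2088, 192, 384, 448, 1024, 2048, 1536]) (.leaf [1343, 3940, 2285, 2704, 2040, 800, 2880, 1728, 576, 2048, 2560, 1536]))) (.node 1 (.leaf [814, 1231, 2453, 888,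 1128, 2184, 3328, 3776, 2944, 1536, 3072, 3584]) (.node 1 (.leaf [3921, 2302, 2658, 1416, 3760, 2512, 1088, 3968, 2176, 512, 3072, 1024]) (.leaf [954, 1516, 2379, 984, 1392, 2168, 1408, 2496, 1856, 2560, 512, 1024])))))))

def stabListPart25 : Tbl (List ℕ) :=
  (.node 21 (.node 10 (.node 5 (.node 2 (.node 1 (.leaf [3323, 4014, 3023, 1760, 3480, 4080, 960, 1344, 2112, 3072, 3584, 2560]) (.leaf [2038, 3455, 3693, 1528, 2408, 1608, 2304, 1728, 3456, 1536, 3072, 3584])) (.node 1 (.leaf [623, 1165, 2321, 3536, 3936, 2648, 832, 1088, 2176, 2048, 1536, 3072]) (.node 1 (.leaf [534, 2077, 3130, 3192, 2824, 1440, 2816, 1408, 1856, 1536, 3584, 512]) (.leaf [1967, 3921, 668, 2512, 3160, 2872, 832, 2176, 3264, 2048, 3072, 2560])))) (.node 2 (.node 1 (.leaf [3981, 3025, 866, 176, 312, 232, 3264, 3968, 3008, 1024, 2048, 1536]) (.leaf [1181, 1786, 4043, 3440, 2728, 1232, 704, 2496, 3136, 1024, 1536, 3584]))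 (.node 1 (.leaf [3729, 732, 2558, 2952, 1376, 1712, 1088, 1792, 3968, 512, 2048, 3072]) (.node 1 (.leaf [3746, 2543, 2844, 600, 3464, 1200, 3968, 2176, 3008, 2560, 1536, 512]) (.leaf [2686, 687, 1293, 824, 1256, 2440, 1792, 3264, 3968, 1536, 3072, 3584]))))) (.node 5 (.node 2 (.node 1 (.leaf [3756, 726, 2525, 168, 208, 472, 3712, 704, 2496, 3584, 512, 2048]) (.leaf [1185, 2330, 1780, 648, 1296, 2272, 2112, 1664, 3328, 512, 1024, 2048])) (.node 1 (.leaf [2708, 803, 1246, 2856, 712, 1424, 640, 1280, 2240, 3584, 2560, 512]) (.node 1 (.leaf [3849, 932, 2422, 2632, 1312, 1968, 576, 2304, 3456, 512, 2048, 3072]) (.leaf [1262, 2447, 2005, 2424, 1640, 3208, 3328, 3776, 2944, 1536, 3072, 3584])))) (.node 3 (.node 1 (.leaf [2147, 3383, 2985, 2016, 3696, 808, 3520, 2624, 1280, 3072, 2560, 1024]) (.node 1 (.leaf [1993, 822, 3410, 3144, 1456, 3728, 576, 3456, 1152, 512, 3072, 1024]) (.leaf [3039, 885,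 1145, 2640, 672, 1304, 3392, 3648, 2688, 2048, 1536, 3072]))) (.node 1 (.leaf [1486, 3890, 2391, 248, 96, 424, 3840, 2368, 2752, 1536, 512, 3072]) (.node 1 (.leaf [1573, 3097, 3634, 3888, 2808, 936, 2752, 896, 1472, 1024, 2048, 1536]) (.leaf [1418, 3767, 2516, 1368, 3784, 2160, 1920, 640, 3520, 2560, 1536, 512])))))) (.node 10 (.node 5 (.node 2 (.node 1 (.leaf [3138, 2819, 1415, 2072, 3128, 2568, 384, 320, 128, 2560, 1024, 1536]) (.leaf [1347, 3777, 2118, 3616, 2088, 2584, 448, 256, 320, 3072, 1024, 3584])) (.node 1 (.leaf [2285, 2651, 1929, 2480, 2704, 2040, 1728, 576, 3456, 1024, 3584, 2048]) (.node 1 (.leaf [2257, 2686, 1954, 2440, 2736, 2000, 1088, 3968, 2176, 512, 3072, 1024]) (.leaf [534, 3130, 1063, 3192, 1440, 3752, 2816, 1856, 704, 1536, 512, 3072])))) (.node 2 (.node 1 (.leaf [2179, 1798, 3271, 544, 1048, 2096, 448, 320, 64, 3072, 3584, 2560]) (.leaf [2571, 1063, 1585, 1440, 1904,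 3752, 2496, 3136, 2816, 3072, 2560, 1024])) (.node 1 (.leaf [2137, 2958, 1714, 1992, 816, 3408, 1600, 896, 3200, 512, 3072, 1024]) (.node 1 (.leaf [834, 3271, 1092, 1048, 3592, 2096, 384, 128, 448, 2560, 1536, 512]) (.leaf [1317, 2265, 1970, 3376, 3832, 2984, 2752, 896, 1472, 1024, 2048, 1536]))))) (.node 5 (.node 2 (.node 1 (.leaf [3533, 2658, 1331, 3760, 744, 2512, 3264, 3008, 1088, 1024, 1536, 3584]) (.leaf [932, 1499, 2422, 3944, 2632, 656, 1152, 2304, 1728, 3584, 2560, 512])) (.node 1 (.leaf [1551, 3617, 564, 3344, 2968, 1400, 1344, 1664, 3776, 2048, 3072, 2560]) (.node 1 (.leaf [2801, 1516, 1622, 3336, 2976, 1392, 3136, 2816, 1408, 512, 2048, 3072]) (.leaf [932, 3245, 1499, 3944, 2264, 2632, 1152, 4032, 2304, 3584, 2048, 2560])))) (.node 3 (.node 1 (.leaf [2321, 1762, 3484, 1928, 3536, 3936, 1088, 2176, 1792, 512, 1024, 2048]) (.node 1 (.leaf [3263, 3885, 2761, 2192, 1824, 3288, 2880,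 576, 1152, 2048, 1536, 3072]) (.leaf [1262, 2005, 3674, 2424, 3208, 2784, 3328, 2944, 1344, 1536, 3584, 512]))) (.node 1 (.leaf [1699, 1001, 3358, 4064, 2344, 2904, 3520, 1280, 3904, 3072, 1024, 3584]) (.node 1 (.leaf [1438, 3722, 2551, 3256, 1504, 3880, 1280, 3904, 2240, 1536, 512, 3072]) (.leaf [2577, 1598, 546, 3976, 2224, 3024, 1088, 3968, 2176, 512, 3072, 1024])))))))

def stabListPart26 : Tbl (List ℕ) :=
  (.node 21 (.node 10 (.node 5 (.node 2 (.node 1 (.leaf [4039, 2885, 577, 1040, 2080, 1560, 320, 64, 128, 2048, 1536, 3072]) (.leaf [885, 1145, 2218, 2288, 1976, 3560, 1216, 2432, 1984, 1024, 2048, 1536])) (.node 1 (.leaf [2908, 627, 1214, 2792, 904, 1488, 2176, 1792, 3264, 3584, 2560, 512]) (.node 1 (.leaf [2791, 1521, 1644, 2256, 3544, 2680, 1856, 3712, 704, 2048, 3072, 2560]) (.leaf [1181, 4043, 2353, 3440, 1232, 3704, 704, 3136, 1408, 1024, 3584, 2048])))) (.node 2 (.node 1 (.leaf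 [2045, 3433, 3658, 3184, 3768, 2856, 2240, 1920, 3520, 1024, 2048, 1536]) (.leaf [2770, 1499, 1663, 2264, 3576, 2632, 3456, 2880, 1152, 2560, 1024, 1536])) (.node 1 (.leaf [1694, 3837, 970, 2744, 1224, 2016, 1280, 1920, 3904, 1536, 3584, 512]) (.node 1 (.leaf [1343, 1929, 3940, 2704, 1240, 2040, 2880, 1152, 1728, 2048, 3072, 2560]) (.leaf [2747, 2017, 814, 3296, 1128, 3992, 960, 3328, 1344, 3072, 1024, 3584]))))) (.node 5 (.node 2 (.node 1 (.leaf [778, 2467, 3447, 856, 2232, 3272, 1920, 3904, 640, 2560, 1024, 1536]) (.leaf [2708, 1246, 2045, 2856, 1424, 1880, 640, 2240, 3520, 3584, 512, 2048])) (.node 1 (.leaf [3263, 1508, 3885, 2192, 3064, 1824, 2880, 1728, 576, 2048, 2560, 1536]) (.node 1 (.leaf [2598, 1077, 1578, 2488, 3400, 2720, 768, 2432, 3392, 1536, 3584, 512]) (.leaf [1804, 885, 3283, 3560, 1304, 3912, 2688, 1984, 768, 3584, 2048, 2560])))) (.node 3 (.node 1 (.leaf [4043, 2353, 2902,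 2464, 2728, 2008, 2496, 2816, 1856, 3072, 1024, 3584]) (.node 1 (.leaf [732, 1459, 2558, 3816, 2952, 976, 2176, 1792, 3264, 3584, 2560, 512]) (.leaf [663, 3580, 1317, 1360, 3832, 2144, 2368, 2752, 1600, 2048, 2560, 1536]))) (.node 1 (.leaf [1486, 2391, 1637, 248, 424, 456, 3840, 2752, 896, 1536, 3072, 3584]) (.node 1 (.leaf [573, 2058, 3107, 2672, 1320, 1936, 2240, 3520, 2624, 1024, 1536, 3584]) (.leaf [2642, 1983, 676, 3800, 2120, 2992, 3456, 1152, 4032, 2560, 1536, 512])))))) (.node 10 (.node 5 (.node 2 (.node 1 (.leaf [3716, 2819, 710, 3624, 2568, 528, 128, 256, 192, 3584, 2560, 512]) (.leaf [1671, 3777, 964, 3088, 2584, 1080, 320, 128, 192, 2048, 3072, 2560])) (.node 1 (.leaf [949, 2410, 3219, 3312, 3048, 1104, 1216, 1984, 3648, 1024, 1536, 3584]) (.node 1 (.leaf [3253, 1491, 3897, 3824, 2128, 3000, 1216, 3648, 2432, 1024, 3584, 2048]) (.leaf [2715, 822, 1279, 2848, 728, 1456, 4032, 2880,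 576, 3072, 3584, 2560])))) (.node 2 (.node 1 (.leaf [3548, 2686, 1293, 1256, 2000, 3672, 2176, 3264, 3008, 3584, 512, 2048]) (.leaf [4054, 2919, 605, 1656, 3240, 3848, 2816, 704, 1408, 1536, 3072, 3584])) (.node 1 (.leaf [1281, 2242, 1924, 2056, 1552, 3104, 64, 128, 256, 512, 1024, 2048]) (.node 1 (.leaf [2551, 2836, 1917, 912, 3256, 1504, 3904, 2240, 2624, 2048, 2560, 1536]) (.leaf [2391, 3225, 2812, 336, 152, 248, 2368, 3200, 2752, 2048, 3072, 2560]))))) (.node 5 (.node 2 (.node 1 (.leaf [1214, 4066, 2351, 3896, 2400, 2792, 1792, 832, 3264, 1536, 512, 3072]) (.leaf [2651, 1929, 694, 800, 3432, 1240, 4032, 2304, 2880, 3072, 1024, 3584])) (.node 1 (.leaf [1585, 534, 3130, 2824, 1904, 720, 3136, 1408, 3712, 512, 3072, 1024]) (.node 1 (.leaf [2631, 1281, 1924, 1552, 3608, 568, 320, 128, 192, 2048, 3072, 2560]) (.leaf [3093, 3617, 2586, 1008, 1400, 2152, 3776, 2944, 960, 1024, 2048, 1536]))))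 (.node 3 (.node 1 (.leaf [1605, 3842, 899, 3632, 552, 2064, 192, 448, 64, 1024, 1536, 3584]) (.node 1 (.leaf [1844, 853, 3323, 616, 3480, 1160, 1664, 960, 3328, 3584, 2048, 2560]) (.leaf [2942, 1762, 623, 1336, 3936, 2280, 1792, 832, 3264, 1536, 512, 3072]))) (.node 1 (.leaf [3628, 2571, 534, 3752, 2824, 720, 3712, 2816, 704, 3584, 2560, 512]) (.node 1 (.leaf [1686, 3805, 1018, 1144, 1800, 4000, 2816, 1408, 1856, 1536, 3584, 512]) (.leaf [2558, 3149, 2850, 3384, 2952, 1376, 1792, 3968, 832, 1536, 3584, 512])))))))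

def stabListPart27 : Tbl (List ℕ) :=
  (.node 21 (.node 10 (.node 5 (.node 2 (.node 1 (.leaf [1388, 3805, 2123, 2216, 3032, 1800, 3712, 2496, 2816, 3584, 2048, 2560]) (.leaf [3367, 2993, 1388, 3280, 3032, 1144, 1856, 3712, 704, 2048, 3072, 2560])) (.node 1 (.leaf [1165, 1762, 4083, 688, 2280, 3536, 3264, 3008, 1088, 1024, 1536, 3584]) (.node 1 (.leaf [2077, 2571, 1585, 1904, 720, 3192, 704, 3136, 1408, 1024, 3584, 2048]) (.leaf [645, 2242, 3523, 2608, 1064, 1552, 192, 448, 64, 1024, 1536, 3584])))) (.node 2 (.node 1 (.leaf [3271, 1092, 3973, 2576, 1592, 544, 320, 192, 64, 2048, 2560, 1536]) (.leaf [1749, 635, 3489, 2032, 784, 3448, 3776, 2112, 2944, 1024, 3584, 2048])) (.node 1 (.leaf [3174, 2869, 1450, 3512, 2888, 1184, 768, 2432, 3392, 1536, 3584, 512]) (.node 1 (.leaf [3999, 2188, 3061, 3152, 1464, 3744, 3392, 1216, 3648, 2048, 2560, 1536]) (.leaf [3174, 3743, 2869, 3512, 4072, 2888,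 768, 1216, 2432, 1536, 3072, 3584]))))) (.node 5 (.node 2 (.node 1 (.leaf [1077, 2105, 1578, 1264, 2488, 2024, 1216, 2432, 1984, 1024, 2048, 1536]) (.leaf [2447, 2740, 2005, 3856, 2424, 2784, 1344, 3776, 2112, 2048, 2560, 1536])) (.node 1 (.leaf [2850, 1903, 732, 2136, 2952, 1712, 3968, 2176, 3008, 2560, 1536, 512]) (.node 1 (.leaf [2123, 1686, 3367, 4000, 3032, 880, 2496, 1856, 3136, 3072, 3584, 2560]) (.leaf [3455, 2697, 1252, 3216, 2776, 1528, 2880, 1152, 1728, 2048, 3072, 2560])))) (.node 3 (.node 1 (.leaf [1198, 4058, 2319, 3448, 1248, 3688, 3328, 1344, 3776, 1536, 512, 3072]) (.node 1 (.leaf [3647, 2084, 2605, 1168, 4088, 2336, 2880, 1728, 576, 2048, 2560, 1536]) (.leaf [3149, 1459, 3729, 1712, 976, 3384, 3264, 1088, 3968, 1024, 3584, 2048]))) (.node 1 (.leaf [701, 1321, 2250, 112, 184, 296, 2240, 1920, 3520, 1024, 2048, 1536]) (.node 1 (.leaf [866, 2227, 3311, 88, 312, 392, 3968, 832,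 2176, 2560, 1024, 1536]) (.leaf [4020, 878, 2197, 3176, 2832, 1432, 1664, 3776, 960, 3584, 512, 2048])))))) (.node 10 (.node 5 (.node 2 (.node 1 (.leaf [1578, 543, 3084, 792, 3400, 1264, 2432, 2688, 1984, 2560, 1536, 512]) (.leaf [1762, 3484, 4083, 2648, 688, 1336, 3968, 3008, 832, 2560, 512, 1024])) (.node 1 (.leaf [694, 1343, 2285, 2040, 3432, 3656, 2304, 1728, 3456, 1536, 3072, 3584]) (.node 1 (.leaf [577, 1154, 2308, 520, 1040, 2080, 64, 128, 256, 512, 1024, 2048]) (.leaf [3842, 899, 2375, 3096, 2616, 1032, 384, 320, 128, 2560, 1024, 1536])))) (.node 2 (.node 1 (.leaf [2353, 3500, 2902, 776, 2464, 3440, 3136, 2816, 1408, 512, 2048, 3072]) (.leaf [3634, 2071, 2620, 3224, 1480, 3888, 896, 3200, 1472, 2560, 1536, 512])) (.node 1 (.leaf [1459, 3729, 2558, 1376, 3816, 2136, 3008, 1792, 832, 3072, 1024, 3584]) (.node 1 (.leaf [2094, 2586, 1551, 1400, 3808, 2152, 3328, 1344, 3776, 1536, 512,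 3072]) (.leaf [2836, 739, 1438, 3880, 2760, 912, 640, 1280, 2240, 3584, 2560, 512]))))) (.node 5 (.node 2 (.node 1 (.leaf [1612, 3219, 3878, 3048, 840, 1104, 2688, 768, 1216, 3584, 2560, 512]) (.leaf [1631, 3897, 908, 2128, 3352, 3000, 3392, 2688, 1216, 2048, 3072, 2560])) (.node 1 (.leaf [1121, 4014, 2202, 1160, 4080, 2320, 2112, 2944, 1664, 512, 3072, 1024]) (.node 1 (.leaf [3484, 1165, 4083, 2280, 2648, 1928, 2176, 3008, 1792, 3584, 2048, 2560]) (.leaf [1063, 2077, 1585, 720, 1440, 2520, 1856, 3136, 3712, 2048, 1536, 3072])))) (.node 3 (.node 1 (.leaf [1857, 3138, 3716, 2568, 528, 1056, 64, 128, 256, 512, 1024, 2048]) (.node 1 (.leaf [2946, 1347, 1671, 2584, 1080, 1544, 384, 320, 128, 2560, 1024, 1536]) (.leaf [3061, 1130, 1811, 752, 2536, 3152, 1216, 1984, 3648, 1024, 1536, 3584]))) (.node 1 (.leaf [2869, 1875, 761, 1776, 592, 3512, 1216, 3648, 2432, 1024, 3584, 2048]) (.node 1 (.leaf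 [1201, 4054, 2362, 3848, 2416, 2768, 3136, 1408, 3712, 512, 3072, 1024]) (.leaf [755, 1470, 2543, 2912, 600, 1200, 3008, 832, 1088, 3072, 3584, 2560])))))))

def stabListPart28 : Tbl (List ℕ) :=
  (.node 21 (.node 10 (.node 5 (.node 2 (.node 1 (.leaf [2071, 1573, 3097, 2384, 1632, 3224, 2368, 1600, 3200, 2048, 1536, 3072]) (.leaf [1138, 1835, 3991, 1176, 1784, 4040, 896, 2368, 3200, 2560, 1024, 1536])) (.node 1 (.leaf [3093, 2586, 1083, 1008, 2152, 3344, 3776, 960, 2112, 1024, 1536, 3584]) (.node 1 (.leaf [1917, 739, 3177, 1648, 912, 3256, 2240, 2624, 1920, 1024, 3584, 2048]) (.leaf [3349, 3809, 2970, 496, 376, 104, 3776, 2944, 960, 1024, 2048, 1536])))) (.node 2 (.node 1 (.leaf [716, 2534, 3189, 1512, 1616, 3864, 2688, 1216, 1984, 3584, 512, 2048]) (.leaf [3805, 2123, 2993, 880, 3280, 1144, 704, 3136, 1408, 1024, 3584, 2048])) (.node 1 (.leaf [2981, 985, 1394, 1840, 3320, 4008, 2752, 896,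 1472, 1024, 2048, 1536]) (.node 1 (.leaf [2077, 1585, 3130, 1904, 3192, 3752, 704, 1408, 2496, 1024, 2048, 1536]) (.leaf [1381, 1714, 3819, 816, 2472, 3408, 2752, 1472, 1600, 1024, 1536, 3584]))))) (.node 5 (.node 2 (.node 1 (.leaf [2756, 1605, 899, 552, 3096, 1032, 128, 448, 256, 3584, 2048, 2560]) (.leaf [710, 1415, 2501, 3128, 3624, 2568, 256, 192, 384, 1536, 3072, 3584])) (.node 1 (.leaf [1780, 3515, 4078, 2664, 648, 1296, 1664, 3328, 3776, 3584, 2560, 512]) (.node 1 (.leaf [2277, 3570, 2667, 2864, 1448, 1872, 2752, 1472, 1600, 1024, 1536, 3584]) (.leaf [3651, 2433, 2694, 2592, 1576, 536, 448, 256, 320, 3072, 1024, 3584])))) (.node 3 (.node 1 (.leaf [3009, 834, 1092, 3592, 2576, 544, 64, 128, 256, 512, 1024, 2048]) (.node 1 (.leaf [1578, 3084, 3603, 792, 1264, 2488, 2432, 1984, 3392, 2560, 512, 1024]) (.leaf [1573, 555, 3097, 3888, 2384, 2808, 2752, 1600, 896, 1024, 3584, 2048]))) (.node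 1 (.leaf [1145, 2218, 1804, 3912, 2640, 672, 3648, 2688, 768, 512, 1024, 2048]) (.node 1 (.leaf [3061, 889, 1130, 752, 1464, 2536, 1216, 2432, 1984, 1024, 2048, 1536]) (.leaf [1201, 1772, 4054, 3848, 928, 2416, 3136, 2816, 1408, 512, 2048, 3072])))))) (.node 10 (.node 5 (.node 2 (.node 1 (.leaf [3570, 1303, 3964, 3736, 2504, 2864, 896, 3200, 1472, 2560, 1536, 512]) (.leaf [2605, 1563, 521, 3504, 1168, 4088, 1728, 576, 3456, 1024, 3584, 2048])) (.node 1 (.leaf [853, 1121, 2202, 4080, 2936, 616, 3776, 2944, 960, 1024, 2048, 1536]) (.node 1 (.leaf [1001, 3358, 1354, 1736, 624, 3472, 2624, 1920, 640, 512, 3072, 1024]) (.leaf [2172, 1707, 3342, 4008, 3016, 848, 3200, 3840, 2752, 3584, 2560, 512])))) (.node 2 (.node 1 (.leaf [623, 2321, 3484, 3536, 2648, 1336, 832, 2176, 3264, 2048, 3072, 2560]) (.leaf [1731, 3462, 4039, 2080, 1560, 3120, 448, 320, 64, 3072, 3584, 2560])) (.node 1 (.leaf [1130,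 1811, 3999, 2840, 1464, 1864, 2432, 3392, 2688, 2560, 1024, 1536]) (.node 1 (.leaf [3523, 2631, 1281, 3104, 2608, 1064, 448, 64, 256, 3072, 2560, 1024]) (.leaf [846, 1111, 2213, 2296, 1960, 3528, 3840, 2752, 896, 1536, 3072, 3584]))))) (.node 5 (.node 2 (.node 1 (.leaf [3433, 2708, 1246, 712, 2528, 3184, 2624, 1280, 1920, 512, 2048, 3072]) (.leaf [2236, 3045, 1835, 3496, 1176, 4040, 3200, 1472, 3840, 3584, 2048, 2560])) (.node 1 (.leaf [687, 1293, 2257, 2000, 3424, 3672, 832, 1088, 2176, 2048, 1536, 3072]) (.node 1 (.leaf [3955, 2257, 2686, 3424, 1256, 3672, 3008, 1792, 832, 3072, 1024, 3584]) (.leaf [1887, 3189, 3769, 1616, 3232, 3864, 3392, 3648, 2688, 2048, 1536, 3072])))) (.node 3 (.node 1 (.leaf [1478, 1605, 3842, 2616, 1032, 1568, 256, 384, 320, 1536, 3584, 512]) (.node 1 (.leaf [778, 3447, 1236, 856, 3272, 1136, 1920, 640, 3520, 2560, 1536, 512]) (.leaf [2586, 564, 1083, 2968, 1008,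 1400, 2944, 960, 1344, 2560, 512, 1024]))) (.node 1 (.leaf [739, 2551, 3177, 1504, 1648, 3880, 3520, 2624, 1280, 3072, 2560, 1024]) (.node 1 (.leaf [2340, 2925, 1755, 360, 216, 72, 1152, 4032, 2304, 3584, 2048, 2560]) (.leaf [2227, 1854, 3311, 352, 88, 176, 3008, 832, 1088, 3072, 3584, 2560])))))))

def stabListPart29 : Tbl (List ℕ) :=
  (.node 21 (.node 10 (.node 5 (.node 2 (.node 1 (.leaf [1491, 1631, 3897, 1696, 3824, 1000, 1984, 3648, 768, 3072, 2560, 1024]) (.leaf [1516, 3869, 2379, 1704, 984, 3336, 3712, 2496, 2816, 3584, 2048, 2560])) (.node 1 (.leaf [3991, 3045, 857, 2896, 608, 1176, 2368, 1600, 3200, 2048, 1536, 3072]) (.node 1 (.leaf [6, 5, 2, 56, 8, 32, 256, 384, 320, 1536, 3584, 512]) (.leaf [3283, 1145, 4006, 672, 3560, 1304, 1984, 768, 3392, 3072, 1024, 3584])))) (.node 2 (.node 1 (.leaf [3263, 2761, 1508, 2192, 3288, 3064, 2880, 1152, 1728, 2048, 3072, 2560]) (.leaf [2158,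 1679, 3349, 376, 104, 136, 3328, 3776, 2944, 1536, 3072, 3584])) (.node 1 (.leaf [3051, 846, 1111, 2656, 664, 1328, 1472, 2368, 1600, 3072, 3584, 2560]) (.node 1 (.leaf [2877, 745, 1418, 2160, 1720, 3368, 2240, 1920, 3520, 1024, 2048, 1536]) (.leaf [1427, 3769, 2534, 3232, 1512, 3864, 1984, 768, 3392, 3072, 1024, 3584]))))) (.node 5 (.node 2 (.node 1 (.leaf [1654, 3263, 3885, 3064, 872, 1096, 2304, 1728, 3456, 1536, 3072, 3584]) (.leaf [2740, 1262, 2005, 1640, 3856, 920, 1664, 3776, 960, 3584, 512, 2048])) (.node 1 (.leaf [1307, 1983, 3913, 3360, 2992, 1384, 4032, 576, 2304, 3072, 2560, 1024]) (.node 1 (.leaf [2353, 1786, 3500, 776, 1232, 2464, 3136, 3712, 2816, 512, 1024, 2048]) (.leaf [3805, 1018, 2123, 880, 2216, 3280, 704, 2496, 3136, 1024, 1536, 3584])))) (.node 3 (.node 1 (.leaf [2981, 1707, 985, 1840, 848, 3320, 2752, 1600, 896, 1024, 3584, 2048]) (.node 1 (.leaf [3500, 2902, 1181,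 2728, 1232, 2008, 3712, 704, 2496, 3584, 512, 2048]) (.leaf [2586, 1551, 564, 2968, 1672, 1008, 2944, 1664, 960, 2560, 1536, 512]))) (.node 1 (.leaf [2433, 3396, 2694, 3080, 2592, 1072, 64, 256, 384, 512, 2048, 3072]) (.node 1 (.leaf [2827, 726, 1447, 416, 472, 368, 2496, 1856, 3136, 3072, 3584, 2560]) (.leaf [3119, 1052, 3597, 3024, 1848, 864, 832, 3264, 1088, 2048, 2560, 1536])))))) (.node 10 (.node 5 (.node 2 (.node 1 (.leaf [2123, 2993, 1686, 4000, 2216, 3032, 2496, 2816, 1856, 3072, 1024, 3584]) (.leaf [615, 3500, 1181, 1232, 3704, 2464, 1856, 704, 3136, 2048, 2560, 1536])) (.node 1 (.leaf [1986, 3396, 3651, 536, 1072, 2104, 384, 448, 320, 2560, 512, 1024]) (.node 1 (.leaf [3684, 2715, 822, 1896, 3144, 3728, 1152, 2304, 1728, 3584, 2560, 512]) (.leaf [939, 1486, 2391, 96, 152, 304, 1472, 2368, 1600, 3072, 3584, 2560])))) (.node 2 (.node 1 (.leaf [1317, 1970, 3947, 3376, 2984, 1360, 2752,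 1472, 1600, 1024, 1536, 3584]) (.leaf [2433, 1986, 3396, 3080, 3600, 2592, 64, 128, 256, 512, 1024, 2048])) (.node 1 (.leaf [834, 2179, 3271, 1048, 1592, 3592, 384, 320, 128, 2560, 1024, 1536]) (.node 1 (.leaf [3039, 1804, 885, 2640, 1976, 672, 3392, 1216, 3648, 2048, 2560, 1536]) (.leaf [3799, 2981, 985, 848, 1120, 2200, 2368, 1600, 3200, 2048, 1536, 3072]))))) (.node 5 (.node 2 (.node 1 (.leaf [2014, 778, 3447, 2232, 3040, 1832, 1280, 3904, 2240, 1536, 512, 3072]) (.leaf [786, 2459, 3455, 2776, 1528, 1608, 3456, 2880, 1152, 2560, 1024, 1536])) (.node 1 (.leaf [3849, 2422, 2770, 2632, 1968, 656, 576, 3456, 1152, 512, 3072, 1024]) (.node 1 (.leaf [1875, 761, 3174, 1184, 4072, 2328, 1984, 768, 3392, 3072, 1024, 3584]) (.leaf [2447, 2005, 3425, 3856, 2784, 920, 1344, 2112, 1664, 2048, 1536, 3072])))) (.node 3 (.node 1 (.leaf [3166, 2877, 1418, 1720, 3784, 992, 1280, 1920, 3904, 1536, 3584,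 512]) (.node 1 (.leaf [1198, 1749, 4058, 3448, 2696, 1248, 3328, 2944, 1344, 1536, 3584, 512]) (.leaf [1556, 3107, 3614, 1320, 2248, 1936, 640, 1280, 2240, 3584, 2560, 512]))) (.node 1 (.leaf [3342, 2981, 1394, 3320, 3016, 1120, 3840, 896, 2368, 1536, 3584, 512]) (.node 1 (.leaf [1121, 1844, 4014, 1160, 1760, 4080, 2112, 3328, 2944, 512, 2048, 3072]) (.leaf [1529, 3878, 2410, 840, 3312, 1104, 3648, 2432, 2688, 512, 3072, 1024])))))))

def stabListPart30 : Tbl (List ℕ) :=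
  (.node 21 (.node 10 (.node 5 (.node 2 (.node 1 (.leaf [4006, 885, 2218, 1976, 3912, 672, 768, 2432, 3392, 1536, 3584, 512]) (.leaf [3201, 3842, 2756, 1032, 2064, 1568, 64, 128, 256, 512, 1024, 2048])) (.node 1 (.leaf [1063, 3628, 2077, 720, 3192, 1440, 1856, 704, 3136, 2048, 2560, 1536]) (.node 1 (.leaf [2958, 983, 1381, 1272, 2472, 1992, 3840, 2752, 896, 1536, 3072, 3584]) (.leaf [3271, 3973, 3009, 2576, 544, 1048, 320, 64, 128, 2048, 1536, 3072])))) (.node 2 (.node 1 (.leaf [1940, 3934, 701, 296, 400, 344, 640, 2240, 3520, 3584, 512, 2048]) (.leaf [3177, 1438, 3722, 2760, 1648, 912, 2624, 1920, 640, 512, 3072, 1024])) (.node 1 (.leaf [1508, 3885, 2395, 872, 3288, 1096, 1152, 4032, 2304, 3584, 2048, 2560]) (.node 1 (.leaf [1731, 4039, 577, 2080, 3120, 2600, 448, 64, 256, 3072, 2560, 1024]) (.leaf [2172, 2981, 1707, 4008, 2200, 3016, 3200, 1472, 3840, 3584, 2048, 2560]))))) (.node 5 (.node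 2 (.node 1 (.leaf [3709, 778, 2467, 1136, 1832, 3984, 2240, 3520, 2624, 1024, 1536, 3584]) (.leaf [2321, 3484, 2942, 1928, 3936, 688, 1088, 1792, 3968, 512, 2048, 3072])) (.node 1 (.leaf [3342, 3799, 2981, 3320, 4008, 3016, 3840, 2752, 896, 1536, 3072, 3584]) (.node 1 (.leaf [3484, 2942, 1165, 2280, 3536, 2648, 2176, 3264, 3008, 3584, 512, 2048]) (.leaf [2071, 3097, 2620, 2384, 3224, 2808, 2368, 3200, 2752, 2048, 3072, 2560])))) (.node 3 (.node 1 (.leaf [2577, 1052, 1598, 3976, 864, 2224, 1088, 1792, 3968, 512, 2048, 3072]) (.node 1 (.leaf [1722, 999, 3372, 4056, 2312, 2928, 1408, 3712, 2496, 2560, 1536, 512]) (.leaf [1835, 3991, 857, 608, 2352, 3496, 1472, 1600, 3840, 3072, 2560, 1024]))) (.node 1 (.leaf [2477, 1993, 3410, 1456, 2552, 1896, 1728, 3456, 4032, 1024, 2048, 1536]) (.node 1 (.leaf [2925, 1170, 1755, 432, 360, 144, 1728, 4032, 576, 1024, 1536, 3584]) (.leaf [2158, 3349, 2970,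 376, 136, 224, 3328, 2944, 1344, 1536, 3584, 512])))))) (.node 10 (.node 5 (.node 2 (.node 1 (.leaf [3533, 1331, 3921, 3760, 2512, 2872, 3264, 1088, 3968, 1024, 3584, 2048]) (.leaf [1403, 2158, 1679, 224, 408, 496, 960, 1344, 2112, 3072, 3584, 2560])) (.node 1 (.leaf [1354, 2132, 1699, 2904, 624, 1208, 1920, 3520, 3904, 2560, 512, 1024]) (.node 1 (.leaf [1012, 2158, 3349, 104, 272, 408, 1664, 3776, 960, 3584, 512, 2048]) (.leaf [2487, 2708, 2045, 1424, 3768, 2528, 3904, 2240, 2624, 2048, 2560, 1536])))) (.node 2 (.node 1 (.leaf [2422, 1663, 3245, 3576, 3944, 2632, 2304, 1728, 3456, 1536, 3072, 3584]) (.leaf [564, 2094, 3093, 2152, 3344, 2968, 1664, 3776, 960, 3584, 512, 2048])) (.node 1 (.leaf [2770, 1663, 932, 2264, 2632, 1968, 3456, 1152, 4032, 2560, 1536, 512]) (.node 1 (.leaf [1307, 2294, 1983, 3360, 3800, 2992, 4032, 2880, 576, 3072, 3584, 2560]) (.leaf [2895, 597, 1185, 1296, 2272,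 1944, 1344, 2112, 1664, 2048, 1536, 3072]))))) (.node 5 (.node 2 (.node 1 (.leaf [853, 2202, 3323, 4080, 616, 2320, 3776, 960, 2112, 1024, 1536, 3584]) (.leaf [3617, 2094, 2586, 1672, 1008, 3344, 2112, 2944, 1664, 512, 3072, 1024])) (.node 1 (.leaf [2026, 3404, 3667, 280, 240, 440, 2432, 1984, 3392, 2560, 512, 1024]) (.node 1 (.leaf [3219, 2783, 1529, 2208, 3312, 3048, 1984, 3648, 768, 3072, 2560, 1024]) (.leaf [1644, 3862, 925, 680, 2256, 3544, 3712, 704, 2496, 3584, 512, 2048])))) (.node 3 (.node 1 (.leaf [3897, 2406, 2794, 1352, 3824, 2128, 3648, 2432, 2688, 512, 3072, 1024]) (.node 1 (.leaf [3290, 4020, 3067, 1432, 2544, 1912, 2944, 960, 1344, 2560, 512, 1024]) (.leaf [1722, 3372, 3787, 4056, 2928, 632, 1408, 2496, 1856, 2560, 512, 1024]))) (.node 1 (.leaf [3396, 1221, 3651, 1576, 536, 3080, 128, 448, 256, 3584, 2048, 2560]) (.node 1 (.leaf [3201, 1478, 3842, 1032, 3632, 2064, 64, 384,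 128, 512, 3072, 1024]) (.leaf [3890, 2391, 2812, 152, 456, 304, 896, 3200, 1472, 2560, 1536, 512])))))))

def stabListPart31 : Tbl (List ℕ) :=
  (.node 21 (.node 10 (.node 5 (.node 2 (.node 1 (.leaf [2026, 799, 3404, 280, 328, 240, 2432, 2688, 1984, 2560, 1536, 512]) (.leaf [726, 3194, 1447, 120, 416, 168, 2816, 1856, 704, 1536, 512, 3072])) (.node 1 (.leaf [3580, 3947, 2638, 2984, 968, 1360, 3200, 3840, 2752, 3584, 2560, 512]) (.node 1 (.leaf [2161, 2966, 1722, 2312, 2928, 1744, 3136, 1408, 3712, 512, 3072, 1024]) (.leaf [4066, 2351, 2908, 1624, 904, 3248, 3968, 2176, 3008, 2560, 1536, 512])))) (.node 2 (.node 1 (.leaf [2667, 654, 1303, 3168, 3736, 2864, 1472, 2368, 1600, 3072, 3584, 2560]) (.leaf [3174, 1450, 3743, 3512, 1184, 4072, 768, 3392, 1216, 1536, 512, 3072])) (.node 1 (.leaf [1521, 3862, 2426, 1288, 3952, 2256, 3136, 1408, 3712, 512, 3072, 1024]) (.node 1 (.leaf [1042, 2084, 1563,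 1752, 3504, 4088, 3456, 4032, 2880, 2560, 512, 1024]) (.leaf [3323, 3023, 1121, 1760, 4080, 616, 960, 2112, 3328, 3072, 2560, 1024]))))) (.node 5 (.node 2 (.node 1 (.leaf [3555, 1321, 3934, 480, 296, 344, 3520, 1280, 3904, 3072, 1024, 3584]) (.leaf [2453, 3418, 2747, 3056, 1128, 1808, 3776, 960, 2112, 1024, 1536, 3584])) (.node 1 (.leaf [654, 2277, 3570, 760, 2504, 3168, 3840, 896, 2368, 1536, 3584, 512]) (.node 1 (.leaf [1116, 3981, 2227, 232, 88, 392, 2176, 3008, 1792, 3584, 2048, 2560]) (.leaf [3005, 1699, 1001, 624, 3472, 1208, 2240, 2624, 1920, 1024, 3584, 2048])))) (.node 3 (.node 1 (.leaf [3245, 3849, 2770, 1968, 3576, 3944, 1728, 3456, 4032, 1024, 2048, 1536]) (.node 1 (.leaf [3700, 2453, 2747, 1128, 3992, 2184, 1664, 960, 3328, 3584, 2048, 2560]) (.leaf [1499, 1663, 3849, 1312, 1968, 3944, 4032, 576, 2304, 3072, 2560, 1024]))) (.node 1 (.leaf [1679, 3809, 1012, 272, 408, 376, 1344,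 1664, 3776, 2048, 3072, 2560]) (.node 1 (.leaf [7, 4, 5, 16, 56, 32, 320, 192, 64, 2048, 2560, 1536]) (.leaf [3462, 4039, 2885, 3640, 2600, 520, 256, 192, 384, 1536, 3072, 3584])))))) (.node 10 (.node 5 (.node 2 (.node 1 (.leaf [755, 2543, 3153, 2912, 1200, 1768, 3008, 1088, 1792, 3072, 2560, 1024]) (.leaf [970, 3383, 1364, 3416, 1224, 3696, 1920, 640, 3520, 2560, 1536, 512])) (.node 1 (.leaf [3565, 3913, 2642, 2992, 1016, 1384, 1728, 3456, 4032, 1024, 2048, 1536]) (.node 1 (.leaf [3349, 2970, 1403, 496, 104, 272, 3776, 960, 2112, 1024, 1536, 3584]) (.leaf [899, 3201, 1478, 1568, 552, 3096, 448, 256, 320, 3072, 1024, 3584])))) (.node 2 (.node 1 (.leaf [2925, 585, 1170, 432, 504, 360, 1728, 3456, 4032, 1024, 2048, 1536]) (.leaf [3225, 2812, 1486, 456, 96, 304, 1600, 3840, 896, 512, 2048, 3072])) (.node 1 (.leaf [1347, 1671, 3777, 3616, 560, 2088, 448, 64, 256, 3072, 2560, 1024]) (.node 1 (.leaf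 [726, 2525, 3194, 120, 264, 416, 2816, 1408, 1856, 1536, 3584, 512]) (.leaf [2708, 2045, 803, 2856, 1880, 712, 640, 3520, 1280, 3584, 2048, 2560]))))) (.node 5 (.node 2 (.node 1 (.leaf [2257, 3548, 2686, 2440, 3424, 2736, 1088, 1792, 3968, 512, 2048, 3072]) (.leaf [3194, 1447, 3756, 472, 264, 368, 1408, 3712, 2496, 2560, 1536, 512])) (.node 1 (.leaf [2791, 925, 1521, 2256, 1952, 3544, 1856, 3136, 3712, 2048, 1536, 3072]) (.node 1 (.leaf [1654, 914, 3263, 3064, 1824, 872, 2304, 2880, 1728, 1536, 512, 3072]) (.leaf [1644, 3211, 3862, 680, 1288, 2256, 3712, 2816, 704, 3584, 2560, 512])))) (.node 3 (.node 1 (.leaf [1138, 3991, 2236, 1176, 4040, 2352, 896, 3200, 1472, 2560, 1536, 512]) (.node 1 (.leaf [2919, 605, 1201, 2768, 928, 1496, 1856, 3136, 3712, 2048, 1536, 3072]) (.leaf [676, 2294, 3565, 1384, 1680, 3800, 1152, 1728, 4032, 3584, 512, 2048]))) (.node 1 (.leaf [2726, 2026, 799, 440, 160,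 488, 768, 3392, 1216, 1536, 512, 3072]) (.node 1 (.leaf [2958, 1381, 1714, 1272, 1992, 3680, 3840, 896, 2368, 1536, 3584, 512]) (.leaf [3166, 3767, 2877, 1720, 3368, 3784, 1280, 2240, 1920, 1536, 3072, 3584])))))))

def stabList : Tbl (List ℕ) :=
  (.node 672 (.node 336 (.node 168 (.node 84 (.node 42 stabListPart0 stabListPart1) (.node 42 stabListPart2 stabListPart3)) (.node 84 (.node 42 stabListPart4 stabListPart5) (.node 42 stabListPart6 stabListPart7))) (.node 168 (.node 84 (.node 42 stabListPart8 stabListPart9) (.node 42 stabListPart10 stabListPart11)) (.node 84 (.node 42 stabListPart12 stabListPart13) (.node 42 stabListPart14 stabListPart15)))) (.node 336 (.node 168 (.node 84 (.node 42 stabListPart16 stabListPart17) (.node 42 stabListPart18 stabListPart19)) (.node 84 (.node 42 stabListPart20 stabListPart21) (.node 42 stabListPart22 stabListPart23))) (.node 168 (.node 84 (.node 42 stabListPart24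 stabListPart25) (.node 42 stabListPart26 stabListPart27)) (.node 84 (.node 42 stabListPart28 stabListPart29) (.node 42 stabListPart30 stabListPart31)))))

def stabTreePart0 : Tbl ℕ :=
  (.node 21 (.node 10 (.node 5 (.node 2 (.node 1 (.leaf 0) (.leaf 0)) (.node 1 (.leaf 2048) (.node 1 (.leaf 1) (.leaf 2049)))) (.node 2 (.node 1 (.leaf 2) (.leaf 2050)) (.node 1 (.leaf 3) (.node 1 (.leaf 2051) (.leaf 4))))) (.node 5 (.node 2 (.node 1 (.leaf 2052) (.leaf 5)) (.node 1 (.leaf 2053) (.node 1 (.leaf 6) (.leaf 2054)))) (.node 3 (.node 1 (.leaf 7) (.node 1 (.leaf 2055) (.leaf 8))) (.node 1 (.leaf 2056) (.node 1 (.leaf 9) (.leaf 2057)))))) (.node 10 (.node 5 (.node 2 (.node 1 (.leaf 10) (.leaf 2058)) (.node 1 (.leaf 11) (.node 1 (.leaf 2059) (.leaf 12)))) (.node 2 (.node 1 (.leaf 2060) (.leaf 13)) (.node 1 (.leaf 2061) (.node 1 (.leaf 14) (.leaf 2062))))) (.node 5 (.node 2 (.node 1 (.leaf 15) (.leaf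 2063)) (.node 1 (.leaf 16) (.node 1 (.leaf 2064) (.leaf 17)))) (.node 3 (.node 1 (.leaf 2065) (.node 1 (.leaf 18) (.leaf 2066))) (.node 1 (.leaf 19) (.node 1 (.leaf 2067) (.leaf 20)))))))

def stabTreePart1 : Tbl ℕ :=
  (.node 21 (.node 10 (.node 5 (.node 2 (.node 1 (.leaf 2068) (.leaf 21)) (.node 1 (.leaf 2069) (.node 1 (.leaf 22) (.leaf 2070)))) (.node 2 (.node 1 (.leaf 23) (.leaf 2071)) (.node 1 (.leaf 24) (.node 1 (.leaf 2072) (.leaf 25))))) (.node 5 (.node 2 (.node 1 (.leaf 2073) (.leaf 26)) (.node 1 (.leaf 2074) (.node 1 (.leaf 27) (.leaf 2075)))) (.node 3 (.node 1 (.leaf 28) (.node 1 (.leaf 2076) (.leaf 29))) (.node 1 (.leaf 2077) (.node 1 (.leaf 30) (.leaf 2078)))))) (.node 10 (.node 5 (.node 2 (.node 1 (.leaf 2079) (.leaf 32)) (.node 1 (.leaf 2080) (.node 1 (.leaf 33) (.leaf 2081)))) (.node 2 (.node 1 (.leaf 34) (.leaf 2082)) (.node 1 (.leaf 35) (.node 1 (.leaf 2083) (.leaf 36)))))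 (.node 5 (.node 2 (.node 1 (.leaf 2084) (.leaf 37)) (.node 1 (.leaf 2085) (.node 1 (.leaf 38) (.leaf 2086)))) (.node 3 (.node 1 (.leaf 39) (.node 1 (.leaf 2087) (.leaf 2088))) (.node 1 (.leaf 41) (.node 1 (.leaf 42) (.leaf 2090)))))))

def stabTreePart2 : Tbl ℕ :=
  (.node 21 (.node 10 (.node 5 (.node 2 (.node 1 (.leaf 43) (.leaf 2091)) (.node 1 (.leaf 44) (.node 1 (.leaf 2092) (.leaf 45)))) (.node 2 (.node 1 (.leaf 2093) (.leaf 46)) (.node 1 (.leaf 2094) (.node 1 (.leaf 47) (.leaf 2095))))) (.node 5 (.node 2 (.node 1 (.leaf 48) (.leaf 2096)) (.node 1 (.leaf 49) (.node 1 (.leaf 2097) (.leaf 50)))) (.node 3 (.node 1 (.leaf 2098) (.node 1 (.leaf 51) (.leaf 2099))) (.node 1 (.leaf 2100) (.node 1 (.leaf 53) (.leaf 54)))))) (.node 10 (.node 5 (.node 2 (.node 1 (.leaf 2102) (.leaf 55)) (.node 1 (.leaf 2103) (.node 1 (.leaf 56) (.leaf 2104)))) (.node 2 (.node 1 (.leaf 57) (.leaf 2105)) (.node 1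 (.leaf 58) (.node 1 (.leaf 2106) (.leaf 59))))) (.node 5 (.node 2 (.node 1 (.leaf 2107) (.leaf 60)) (.node 1 (.leaf 2108) (.node 1 (.leaf 61) (.leaf 2109)))) (.node 3 (.node 1 (.leaf 62) (.node 1 (.leaf 2110) (.leaf 63))) (.node 1 (.leaf 2111) (.node 1 (.leaf 64) (.leaf 2112)))))))

def stabTreePart3 : Tbl ℕ :=
  (.node 21 (.node 10 (.node 5 (.node 2 (.node 1 (.leaf 65) (.leaf 2113)) (.node 1 (.leaf 66) (.node 1 (.leaf 2114) (.leaf 67)))) (.node 2 (.node 1 (.leaf 2115) (.leaf 68)) (.node 1 (.leaf 2116) (.node 1 (.leaf 69) (.leaf 2117))))) (.node 5 (.node 2 (.node 1 (.leaf 70) (.leaf 2118)) (.node 1 (.leaf 2119) (.node 1 (.leaf 72) (.leaf 73)))) (.node 3 (.node 1 (.leaf 2121) (.node 1 (.leaf 74) (.leaf 2122))) (.node 1 (.leaf 75) (.node 1 (.leaf 2123) (.leaf 76)))))) (.node 10 (.node 5 (.node 2 (.node 1 (.leaf 2124) (.leaf 77)) (.node 1 (.leaf 2125) (.node 1 (.leaf 78) (.leaf 2126)))) (.node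 2 (.node 1 (.leaf 79) (.leaf 2127)) (.node 1 (.leaf 80) (.node 1 (.leaf 2128) (.leaf 81))))) (.node 5 (.node 2 (.node 1 (.leaf 2129) (.leaf 82)) (.node 1 (.leaf 83) (.node 1 (.leaf 2131) (.leaf 84)))) (.node 3 (.node 1 (.leaf 2132) (.node 1 (.leaf 85) (.leaf 2133))) (.node 1 (.leaf 86) (.node 1 (.leaf 2134) (.leaf 87)))))))

def stabTreePart4 : Tbl ℕ :=
  (.node 21 (.node 10 (.node 5 (.node 2 (.node 1 (.leaf 2135) (.leaf 88)) (.node 1 (.leaf 2136) (.node 1 (.leaf 89) (.leaf 2137)))) (.node 2 (.node 1 (.leaf 90) (.leaf 2138)) (.node 1 (.leaf 91) (.node 1 (.leaf 2139) (.leaf 93))))) (.node 5 (.node 2 (.node 1 (.leaf 2141) (.leaf 94)) (.node 1 (.leaf 2142) (.node 1 (.leaf 95) (.leaf 2143)))) (.node 3 (.node 1 (.leaf 96) (.node 1 (.leaf 97) (.leaf 2145))) (.node 1 (.leaf 98) (.node 1 (.leaf 2146) (.leaf 99)))))) (.node 10 (.node 5 (.node 2 (.node 1 (.leaf 2147) (.leaf 100)) (.node 1 (.leaf 2148)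 (.node 1 (.leaf 2149) (.leaf 102)))) (.node 2 (.node 1 (.leaf 2150) (.leaf 103)) (.node 1 (.leaf 2151) (.node 1 (.leaf 104) (.leaf 105))))) (.node 5 (.node 2 (.node 1 (.leaf 2153) (.leaf 106)) (.node 1 (.leaf 2154) (.node 1 (.leaf 107) (.leaf 2155)))) (.node 3 (.node 1 (.leaf 108) (.node 1 (.leaf 2156) (.leaf 109))) (.node 1 (.leaf 2157) (.node 1 (.leaf 110) (.leaf 2158)))))))

def stabTreePart5 : Tbl ℕ :=
  (.node 21 (.node 10 (.node 5 (.node 2 (.node 1 (.leaf 2159) (.leaf 112)) (.node 1 (.leaf 113) (.node 1 (.leaf 2161) (.leaf 114)))) (.node 2 (.node 1 (.leaf 2162) (.leaf 115)) (.node 1 (.leaf 2163) (.node 1 (.leaf 116) (.leaf 2164))))) (.node 5 (.node 2 (.node 1 (.leaf 117) (.leaf 2165)) (.node 1 (.leaf 118) (.node 1 (.leaf 2166) (.leaf 119)))) (.node 3 (.node 1 (.leaf 2167) (.node 1 (.leaf 120) (.leaf 2168))) (.node 1 (.leaf 121) (.node 1 (.leaf 2169) (.leaf 122)))))) (.node 10 (.node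 5 (.node 2 (.node 1 (.leaf 2170) (.leaf 123)) (.node 1 (.leaf 2171) (.node 1 (.leaf 124) (.leaf 2172)))) (.node 2 (.node 1 (.leaf 125) (.leaf 2173)) (.node 1 (.leaf 126) (.node 1 (.leaf 2174) (.leaf 127))))) (.node 5 (.node 2 (.node 1 (.leaf 2175) (.leaf 2176)) (.node 1 (.leaf 2177) (.node 1 (.leaf 130) (.leaf 131)))) (.node 3 (.node 1 (.leaf 2179) (.node 1 (.leaf 132) (.leaf 2180))) (.node 1 (.leaf 133) (.node 1 (.leaf 2181) (.leaf 134)))))))

def stabTreePart6 : Tbl ℕ :=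
  (.node 21 (.node 10 (.node 5 (.node 2 (.node 1 (.leaf 2182) (.leaf 135)) (.node 1 (.leaf 2183) (.node 1 (.leaf 136) (.leaf 2184)))) (.node 2 (.node 1 (.leaf 137) (.leaf 2185)) (.node 1 (.leaf 138) (.node 1 (.leaf 2186) (.leaf 139))))) (.node 5 (.node 2 (.node 1 (.leaf 2187) (.leaf 140)) (.node 1 (.leaf 141) (.node 1 (.leaf 2189) (.leaf 142)))) (.node 3 (.node 1 (.leaf 2190) (.node 1 (.leaf 143) (.leaf 2191))) (.node 1 (.leaf 144) (.node 1 (.leaf 2192) (.leaf 145)))))) (.node 10 (.node 5 (.node 2 (.node 1 (.leaf 146) (.leaf 2194)) (.node 1 (.leaf 147) (.node 1 (.leaf 2195) (.leaf 148)))) (.node 2 (.node 1 (.leaf 2196) (.leaf 149)) (.node 1 (.leaf 2197) (.node 1 (.leaf 151) (.leaf 2199))))) (.node 5 (.node 2 (.node 1 (.leaf 152) (.leaf 2200)) (.node 1 (.leaf 153) (.node 1 (.leaf 2201) (.leaf 154)))) (.node 3 (.node 1 (.leaf 2202) (.node 1 (.leaf 155) (.leaf 2203))) (.node 1 (.leaf 156) (.node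 1 (.leaf 2204) (.leaf 2205)))))))

def stabTreePart7 : Tbl ℕ :=
  (.node 21 (.node 10 (.node 5 (.node 2 (.node 1 (.leaf 2206) (.leaf 159)) (.node 1 (.leaf 160) (.node 1 (.leaf 2208) (.leaf 161)))) (.node 2 (.node 1 (.leaf 2209) (.leaf 162)) (.node 1 (.leaf 2210) (.node 1 (.leaf 163) (.leaf 2211))))) (.node 5 (.node 2 (.node 1 (.leaf 164) (.leaf 2212)) (.node 1 (.leaf 165) (.node 1 (.leaf 2213) (.leaf 2214)))) (.node 3 (.node 1 (.leaf 167) (.node 1 (.leaf 168) (.leaf 2216))) (.node 1 (.leaf 169) (.node 1 (.leaf 2217) (.leaf 170)))))) (.node 10 (.node 5 (.node 2 (.node 1 (.leaf 2218) (.leaf 171)) (.node 1 (.leaf 2219) (.node 1 (.leaf 172) (.leaf 2220)))) (.node 2 (.node 1 (.leaf 173) (.leaf 2221)) (.node 1 (.leaf 174) (.node 1 (.leaf 2222) (.leaf 175))))) (.node 5 (.node 2 (.node 1 (.leaf 2223) (.leaf 176)) (.node 1 (.leaf 2224) (.node 1 (.leaf 177) (.leaf 2225)))) (.node 3 (.node 1 (.leaf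 178) (.node 1 (.leaf 2226) (.leaf 179))) (.node 1 (.leaf 2227) (.node 1 (.leaf 180) (.leaf 181)))))))

def stabTreePart8 : Tbl ℕ :=
  (.node 21 (.node 10 (.node 5 (.node 2 (.node 1 (.leaf 2229) (.leaf 182)) (.node 1 (.leaf 2230) (.node 1 (.leaf 183) (.leaf 2231)))) (.node 2 (.node 1 (.leaf 184) (.leaf 185)) (.node 1 (.leaf 2233) (.node 1 (.leaf 186) (.leaf 2234))))) (.node 5 (.node 2 (.node 1 (.leaf 187) (.leaf 2235)) (.node 1 (.leaf 188) (.node 1 (.leaf 2236) (.leaf 189)))) (.node 3 (.node 1 (.leaf 2237) (.node 1 (.leaf 190) (.leaf 2238))) (.node 1 (.leaf 191) (.node 1 (.leaf 2239) (.leaf 192)))))) (.node 10 (.node 5 (.node 2 (.node 1 (.leaf 2240) (.leaf 193)) (.node 1 (.leaf 194) (.node 1 (.leaf 2242) (.leaf 195)))) (.node 2 (.node 1 (.leaf 2243) (.leaf 197)) (.node 1 (.leaf 2245) (.node 1 (.leaf 2246) (.leaf 199))))) (.node 5 (.node 2 (.node 1 (.leaf 2247) (.leaf 201)) (.node 1 (.leaf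 2249) (.node 1 (.leaf 202) (.leaf 2250)))) (.node 3 (.node 1 (.leaf 203) (.node 1 (.leaf 2251) (.leaf 204))) (.node 1 (.leaf 205) (.node 1 (.leaf 2253) (.leaf 206)))))))

def stabTreePart9 : Tbl ℕ :=
  (.node 21 (.node 10 (.node 5 (.node 2 (.node 1 (.leaf 2254) (.leaf 207)) (.node 1 (.leaf 2255) (.node 1 (.leaf 208) (.leaf 2256)))) (.node 2 (.node 1 (.leaf 210) (.leaf 2258)) (.node 1 (.leaf 211) (.node 1 (.leaf 2259) (.leaf 212))))) (.node 5 (.node 2 (.node 1 (.leaf 213) (.leaf 2261)) (.node 1 (.leaf 214) (.node 1 (.leaf 2262) (.leaf 215)))) (.node 3 (.node 1 (.leaf 2263) (.node 1 (.leaf 216) (.leaf 2264))) (.node 1 (.leaf 217) (.node 1 (.leaf 2265) (.leaf 218)))))) (.node 10 (.node 5 (.node 2 (.node 1 (.leaf 2266) (.leaf 2267)) (.node 1 (.leaf 221) (.node 1 (.leaf 2269) (.leaf 222)))) (.node 2 (.node 1 (.leaf 2270) (.leaf 223)) (.node 1 (.leaf 224) (.node 1 (.leaf 2272) (.leaf 225))))) (.node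 5 (.node 2 (.node 1 (.leaf 2273) (.leaf 2274)) (.node 1 (.leaf 227) (.node 1 (.leaf 2275) (.leaf 228)))) (.node 3 (.node 1 (.leaf 2276) (.node 1 (.leaf 229) (.leaf 2277))) (.node 1 (.leaf 230) (.node 1 (.leaf 2278) (.leaf 231)))))))

def stabTreePart10 : Tbl ℕ :=
  (.node 21 (.node 10 (.node 5 (.node 2 (.node 1 (.leaf 2279) (.leaf 232)) (.node 1 (.leaf 2280) (.node 1 (.leaf 233) (.leaf 2282)))) (.node 2 (.node 1 (.leaf 2283) (.leaf 236)) (.node 1 (.leaf 237) (.node 1 (.leaf 2285) (.leaf 238))))) (.node 5 (.node 2 (.node 1 (.leaf 2286) (.leaf 239)) (.node 1 (.leaf 2287) (.node 1 (.leaf 240) (.leaf 2288)))) (.node 3 (.node 1 (.leaf 241) (.node 1 (.leaf 2289) (.leaf 242))) (.node 1 (.leaf 2290) (.node 1 (.leaf 2291) (.leaf 244)))))) (.node 10 (.node 5 (.node 2 (.node 1 (.leaf 2292) (.leaf 245)) (.node 1 (.leaf 246) (.node 1 (.leaf 2294) (.leaf 247)))) (.node 2 (.node 1 (.leaf 2295) (.leaf 248))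 (.node 1 (.leaf 2296) (.node 1 (.leaf 249) (.leaf 2297))))) (.node 5 (.node 2 (.node 1 (.leaf 250) (.leaf 251)) (.node 1 (.leaf 2299) (.node 1 (.leaf 252) (.leaf 2300)))) (.node 3 (.node 1 (.leaf 253) (.node 1 (.leaf 2301) (.leaf 254))) (.node 1 (.leaf 2302) (.node 1 (.leaf 256) (.leaf 2304)))))))

def stabTreePart11 : Tbl ℕ :=
  (.node 21 (.node 10 (.node 5 (.node 2 (.node 1 (.leaf 257) (.leaf 2305)) (.node 1 (.leaf 258) (.node 1 (.leaf 2306) (.leaf 259)))) (.node 2 (.node 1 (.leaf 2307) (.leaf 260)) (.node 1 (.leaf 2308) (.node 1 (.leaf 261) (.leaf 2309))))) (.node 5 (.node 2 (.node 1 (.leaf 2310) (.leaf 2311)) (.node 1 (.leaf 265) (.node 1 (.leaf 2313) (.leaf 266)))) (.node 3 (.node 1 (.leaf 2314) (.node 1 (.leaf 267) (.leaf 2315))) (.node 1 (.leaf 268) (.node 1 (.leaf 2316) (.leaf 269)))))) (.node 10 (.node 5 (.node 2 (.node 1 (.leaf 2317) (.leaf 270)) (.node 1 (.leaf 2318) (.node 1 (.leaf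 2319) (.leaf 273)))) (.node 2 (.node 1 (.leaf 2321) (.leaf 274)) (.node 1 (.leaf 2322) (.node 1 (.leaf 275) (.leaf 2323))))) (.node 5 (.node 2 (.node 1 (.leaf 276) (.leaf 2324)) (.node 1 (.leaf 277) (.node 1 (.leaf 2325) (.leaf 278)))) (.node 3 (.node 1 (.leaf 2326) (.node 1 (.leaf 279) (.leaf 2327))) (.node 1 (.leaf 280) (.node 1 (.leaf 2328) (.leaf 281)))))))

def stabTreePart12 : Tbl ℕ :=
  (.node 21 (.node 10 (.node 5 (.node 2 (.node 1 (.leaf 2329) (.leaf 282)) (.node 1 (.leaf 2330) (.node 1 (.leaf 283) (.leaf 2331)))) (.node 2 (.node 1 (.leaf 284) (.leaf 2333)) (.node 1 (.leaf 286) (.node 1 (.leaf 2334) (.leaf 287))))) (.node 5 (.node 2 (.node 1 (.leaf 2335) (.leaf 288)) (.node 1 (.leaf 2336) (.node 1 (.leaf 289) (.leaf 2337)))) (.node 3 (.node 1 (.leaf 290) (.node 1 (.leaf 291) (.leaf 2339))) (.node 1 (.leaf 292) (.node 1 (.leaf 2340) (.leaf 293)))))) (.node 10 (.node 5 (.node 2 (.node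 1 (.leaf 2341) (.leaf 295)) (.node 1 (.leaf 2343) (.node 1 (.leaf 297) (.leaf 2345)))) (.node 2 (.node 1 (.leaf 299) (.leaf 2347)) (.node 1 (.leaf 300) (.node 1 (.leaf 2348) (.leaf 301))))) (.node 5 (.node 2 (.node 1 (.leaf 2349) (.leaf 302)) (.node 1 (.leaf 303) (.node 1 (.leaf 2351) (.leaf 304)))) (.node 3 (.node 1 (.leaf 2352) (.node 1 (.leaf 305) (.leaf 2353))) (.node 1 (.leaf 306) (.node 1 (.leaf 2354) (.leaf 308)))))))

def stabTreePart13 : Tbl ℕ :=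
  (.node 21 (.node 10 (.node 5 (.node 2 (.node 1 (.leaf 2356) (.leaf 309)) (.node 1 (.leaf 2357) (.node 1 (.leaf 310) (.leaf 311)))) (.node 2 (.node 1 (.leaf 2359) (.leaf 312)) (.node 1 (.leaf 2360) (.node 1 (.leaf 2362) (.leaf 315))))) (.node 5 (.node 2 (.node 1 (.leaf 2363) (.leaf 316)) (.node 1 (.leaf 2364) (.node 1 (.leaf 2365) (.leaf 319)))) (.node 3 (.node 1 (.leaf 2367) (.node 1 (.leaf 320) (.leaf 2368))) (.node 1 (.leaf 321) (.node 1 (.leaf 322) (.leaf 2370)))))) (.node 10 (.node 5 (.node 2 (.node 1 (.leaf 323) (.leaf 2372)) (.node 1 (.leaf 325) (.node 1 (.leaf 2373) (.leaf 326)))) (.node 2 (.node 1 (.leaf 2374) (.leaf 327)) (.node 1 (.leaf 2375) (.node 1 (.leaf 328) (.leaf 2376))))) (.node 5 (.node 2 (.node 1 (.leaf 2377) (.leaf 330)) (.node 1 (.leaf 331) (.node 1 (.leaf 2379) (.leaf 2380)))) (.node 3 (.node 1 (.leaf 2381) (.node 1 (.leaf 335) (.leaf 2383))) (.node 1 (.leaf 336)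 (.node 1 (.leaf 2384) (.leaf 337)))))))

def stabTreePart14 : Tbl ℕ :=
  (.node 21 (.node 10 (.node 5 (.node 2 (.node 1 (.leaf 2385) (.leaf 338)) (.node 1 (.leaf 2386) (.node 1 (.leaf 2387) (.leaf 340)))) (.node 2 (.node 1 (.leaf 2388) (.leaf 2389)) (.node 1 (.leaf 343) (.node 1 (.leaf 2391) (.leaf 344))))) (.node 5 (.node 2 (.node 1 (.leaf 2392) (.leaf 345)) (.node 1 (.leaf 2393) (.node 1 (.leaf 2394) (.leaf 347)))) (.node 3 (.node 1 (.leaf 348) (.node 1 (.leaf 2396) (.leaf 349))) (.node 1 (.leaf 2397) (.node 1 (.leaf 2398) (.leaf 351)))))) (.node 10 (.node 5 (.node 2 (.node 1 (.leaf 2399) (.leaf 353)) (.node 1 (.leaf 2401) (.node 1 (.leaf 354) (.leaf 2402)))) (.node 2 (.node 1 (.leaf 2403) (.leaf 2404)) (.node 1 (.leaf 2405) (.node 1 (.leaf 2406) (.leaf 359))))) (.node 5 (.node 2 (.node 1 (.leaf 360) (.leaf 361)) (.node 1 (.leaf 362) (.node 1 (.leaf 2410) (.leaf 363)))) (.node 3 (.node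 1 (.leaf 2411) (.node 1 (.leaf 364) (.leaf 2412))) (.node 1 (.leaf 365) (.node 1 (.leaf 2413) (.leaf 366)))))))

def stabTreePart15 : Tbl ℕ :=
  (.node 21 (.node 10 (.node 5 (.node 2 (.node 1 (.leaf 2414) (.leaf 367)) (.node 1 (.leaf 2415) (.node 1 (.leaf 368) (.leaf 2416)))) (.node 2 (.node 1 (.leaf 369) (.leaf 2417)) (.node 1 (.leaf 370) (.node 1 (.leaf 371) (.leaf 372))))) (.node 5 (.node 2 (.node 1 (.leaf 2420) (.leaf 373)) (.node 1 (.leaf 2421) (.node 1 (.leaf 374) (.leaf 2422)))) (.node 3 (.node 1 (.leaf 376) (.node 1 (.leaf 2424) (.leaf 377))) (.node 1 (.leaf 2425) (.node 1 (.leaf 378) (.leaf 379)))))) (.node 10 (.node 5 (.node 2 (.node 1 (.leaf 2427) (.leaf 380)) (.node 1 (.leaf 2428) (.node 1 (.leaf 381) (.leaf 382)))) (.node 2 (.node 1 (.leaf 2430) (.leaf 383)) (.node 1 (.leaf 384) (.node 1 (.leaf 2432) (.leaf 385))))) (.node 5 (.node 2 (.node 1 (.leaf 2433) (.leaf 387)) (.node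 1 (.leaf 2435) (.node 1 (.leaf 2436) (.leaf 389)))) (.node 3 (.node 1 (.leaf 2437) (.node 1 (.leaf 391) (.leaf 2439))) (.node 1 (.leaf 392) (.node 1 (.leaf 2440) (.leaf 393)))))))

def stabTreePart16 : Tbl ℕ :=
  (.node 21 (.node 10 (.node 5 (.node 2 (.node 1 (.leaf 2441) (.leaf 394)) (.node 1 (.leaf 395) (.node 1 (.leaf 2443) (.leaf 396)))) (.node 2 (.node 1 (.leaf 2444) (.leaf 2445)) (.node 1 (.leaf 2446) (.node 1 (.leaf 400) (.leaf 2448))))) (.node 5 (.node 2 (.node 1 (.leaf 401) (.leaf 402)) (.node 1 (.leaf 2450) (.node 1 (.leaf 2451) (.leaf 404)))) (.node 3 (.node 1 (.leaf 405) (.node 1 (.leaf 2453) (.leaf 406))) (.node 1 (.leaf 2454) (.node 1 (.leaf 2455) (.leaf 409)))))) (.node 10 (.node 5 (.node 2 (.node 1 (.leaf 2457) (.leaf 410)) (.node 1 (.leaf 411) (.node 1 (.leaf 412) (.leaf 2460)))) (.node 2 (.node 1 (.leaf 2461) (.leaf 414)) (.node 1 (.leaf 2462) (.node 1 (.leaf 415) (.leaf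 416))))) (.node 5 (.node 2 (.node 1 (.leaf 2464) (.leaf 2465)) (.node 1 (.leaf 2466) (.node 1 (.leaf 419) (.leaf 420)))) (.node 3 (.node 1 (.leaf 2468) (.node 1 (.leaf 421) (.leaf 2469))) (.node 1 (.leaf 422) (.node 1 (.leaf 2470) (.leaf 423)))))))

def stabTreePart17 : Tbl ℕ :=
  (.node 21 (.node 10 (.node 5 (.node 2 (.node 1 (.leaf 2471) (.leaf 424)) (.node 1 (.leaf 2472) (.node 1 (.leaf 426) (.leaf 2474)))) (.node 2 (.node 1 (.leaf 428) (.leaf 429)) (.node 1 (.leaf 2477) (.node 1 (.leaf 430) (.leaf 2478))))) (.node 5 (.node 2 (.node 1 (.leaf 431) (.leaf 2479)) (.node 1 (.leaf 432) (.node 1 (.leaf 433) (.leaf 2481)))) (.node 3 (.node 1 (.leaf 434) (.node 1 (.leaf 435) (.leaf 2483))) (.node 1 (.leaf 436) (.node 1 (.leaf 437) (.leaf 2485)))))) (.node 10 (.node 5 (.node 2 (.node 1 (.leaf 438) (.leaf 2486)) (.node 1 (.leaf 439) (.node 1 (.leaf 2487) (.leaf 2488)))) (.node 2 (.node 1 (.leaf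 2489) (.leaf 2490)) (.node 1 (.leaf 444) (.node 1 (.leaf 2492) (.leaf 445))))) (.node 5 (.node 2 (.node 1 (.leaf 2493) (.leaf 446)) (.node 1 (.leaf 2494) (.node 1 (.leaf 447) (.leaf 448)))) (.node 3 (.node 1 (.leaf 2496) (.node 1 (.leaf 449) (.leaf 2498))) (.node 1 (.leaf 452) (.node 1 (.leaf 453) (.leaf 2501)))))))

def stabTreePart18 : Tbl ℕ :=
  (.node 21 (.node 10 (.node 5 (.node 2 (.node 1 (.leaf 454) (.leaf 2502)) (.node 1 (.leaf 456) (.node 1 (.leaf 457) (.leaf 2505)))) (.node 2 (.node 1 (.leaf 458) (.leaf 459)) (.node 1 (.leaf 2507) (.node 1 (.leaf 460) (.leaf 2508))))) (.node 5 (.node 2 (.node 1 (.leaf 461) (.leaf 2509)) (.node 1 (.leaf 462) (.node 1 (.leaf 2510) (.leaf 463)))) (.node 3 (.node 1 (.leaf 2513) (.node 1 (.leaf 466) (.leaf 2514))) (.node 1 (.leaf 467) (.node 1 (.leaf 2515) (.leaf 468)))))) (.node 10 (.node 5 (.node 2 (.node 1 (.leaf 2516) (.leaf 469)) (.node 1 (.leaf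 470) (.node 1 (.leaf 2519) (.leaf 2520)))) (.node 2 (.node 1 (.leaf 475) (.leaf 2523)) (.node 1 (.leaf 477) (.node 1 (.leaf 2525) (.leaf 478))))) (.node 5 (.node 2 (.node 1 (.leaf 2526) (.leaf 479)) (.node 1 (.leaf 480) (.node 1 (.leaf 481) (.leaf 2529)))) (.node 3 (.node 1 (.leaf 2530) (.node 1 (.leaf 2531) (.leaf 484))) (.node 1 (.leaf 2532) (.node 1 (.leaf 486) (.leaf 487)))))))

def stabTreePart19 : Tbl ℕ :=
  (.node 21 (.node 10 (.node 5 (.node 2 (.node 1 (.leaf 2537) (.leaf 490)) (.node 1 (.leaf 2538) (.node 1 (.leaf 491) (.leaf 2540)))) (.node 2 (.node 1 (.leaf 494) (.leaf 2542)) (.node 1 (.leaf 495) (.node 1 (.leaf 2543) (.leaf 496))))) (.node 5 (.node 2 (.node 1 (.leaf 2545) (.leaf 498)) (.node 1 (.leaf 2547) (.node 1 (.leaf 2548) (.leaf 501)))) (.node 3 (.node 1 (.leaf 2549) (.node 1 (.leaf 2550) (.leaf 2551))) (.node 1 (.leaf 2552) (.node 1 (.leaf 506) (.leaf 2555)))))) (.node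 10 (.node 5 (.node 2 (.node 1 (.leaf 2556) (.leaf 510)) (.node 1 (.leaf 2558) (.node 1 (.leaf 511) (.leaf 2559)))) (.node 2 (.node 1 (.leaf 512) (.leaf 2561)) (.node 1 (.leaf 514) (.node 1 (.leaf 2562) (.leaf 516))))) (.node 5 (.node 2 (.node 1 (.leaf 517) (.leaf 2565)) (.node 1 (.leaf 518) (.node 1 (.leaf 2566) (.leaf 2567)))) (.node 3 (.node 1 (.leaf 521) (.node 1 (.leaf 2569) (.leaf 522))) (.node 1 (.leaf 2570) (.node 1 (.leaf 2571) (.leaf 2572)))))))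

def stabTreePart20 : Tbl ℕ :=
  (.node 21 (.node 10 (.node 5 (.node 2 (.node 1 (.leaf 2573) (.leaf 526)) (.node 1 (.leaf 2574) (.node 1 (.leaf 527) (.leaf 2575)))) (.node 2 (.node 1 (.leaf 528) (.leaf 2576)) (.node 1 (.leaf 529) (.node 1 (.leaf 2577) (.leaf 530))))) (.node 5 (.node 2 (.node 1 (.leaf 2578) (.leaf 531)) (.node 1 (.leaf 2579) (.node 1 (.leaf 532) (.leaf 534)))) (.node 3 (.node 1 (.leaf 535) (.node 1 (.leaf 2583) (.leaf 536))) (.node 1 (.leaf 2584) (.node 1 (.leaf 2586) (.leaf 539)))))) (.node 10 (.node 5 (.node 2 (.node 1 (.leaf 2587) (.leaf 540)) (.node 1 (.leaf 541) (.node 1 (.leaf 2589) (.leaf 542)))) (.node 2 (.node 1 (.leaf 2590) (.leaf 543)) (.node 1 (.leaf 544) (.node 1 (.leaf 2592) (.leaf 545))))) (.node 5 (.node 2 (.node 1 (.leaf 547) (.leaf 2595)) (.node 1 (.leaf 2597) (.node 1 (.leaf 2598) (.leaf 551)))) (.node 3 (.node 1 (.leaf 2599) (.node 1 (.leaf 553) (.leaf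 2601))) (.node 1 (.leaf 2602) (.node 1 (.leaf 555) (.leaf 2603)))))))

def stabTreePart21 : Tbl ℕ :=
  (.node 21 (.node 10 (.node 5 (.node 2 (.node 1 (.leaf 2604) (.leaf 2605)) (.node 1 (.leaf 559) (.node 1 (.leaf 2607) (.leaf 561)))) (.node 2 (.node 1 (.leaf 2610) (.leaf 563)) (.node 1 (.leaf 564) (.node 1 (.leaf 2612) (.leaf 565))))) (.node 5 (.node 2 (.node 1 (.leaf 2613) (.leaf 2614)) (.node 1 (.leaf 568) (.node 1 (.leaf 569) (.leaf 570)))) (.node 3 (.node 1 (.leaf 2618) (.node 1 (.leaf 2619) (.leaf 572))) (.node 1 (.leaf 2620) (.node 1 (.leaf 573) (.leaf 2622)))))) (.node 10 (.node 5 (.node 2 (.node 1 (.leaf 2623) (.leaf 2624)) (.node 1 (.leaf 2625) (.node 1 (.leaf 578) (.leaf 2626)))) (.node 2 (.node 1 (.leaf 580) (.leaf 2628)) (.node 1 (.leaf 581) (.node 1 (.leaf 2630) (.leaf 583))))) (.node 5 (.node 2 (.node 1 (.leaf 2631) (.leaf 584)) (.node 1 (.leaf 2632) (.node 1 (.leaf 585) (.leaf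 2633)))) (.node 3 (.node 1 (.leaf 586) (.node 1 (.leaf 588) (.leaf 2636))) (.node 1 (.leaf 2637) (.node 1 (.leaf 590) (.leaf 2639)))))))

def stabTreePart22 : Tbl ℕ :=
  (.node 21 (.node 10 (.node 5 (.node 2 (.node 1 (.leaf 592) (.leaf 2640)) (.node 1 (.leaf 2641) (.node 1 (.leaf 2644) (.leaf 2645)))) (.node 2 (.node 1 (.leaf 2646) (.leaf 2647)) (.node 1 (.leaf 600) (.node 1 (.leaf 2648) (.leaf 603))))) (.node 5 (.node 2 (.node 1 (.leaf 2651) (.leaf 604)) (.node 1 (.leaf 605) (.node 1 (.leaf 2654) (.leaf 607)))) (.node 3 (.node 1 (.leaf 2655) (.node 1 (.leaf 608) (.leaf 2656))) (.node 1 (.leaf 2657) (.node 1 (.leaf 610) (.leaf 2658)))))) (.node 10 (.node 5 (.node 2 (.node 1 (.leaf 611) (.leaf 2660)) (.node 1 (.leaf 613) (.node 1 (.leaf 614) (.leaf 615)))) (.node 2 (.node 1 (.leaf 2663) (.leaf 616)) (.node 1 (.leaf 618) (.node 1 (.leaf 2666) (.leaf 621))))) (.node 5 (.node 2 (.node 1 (.leaf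 2669) (.leaf 622)) (.node 1 (.leaf 2670) (.node 1 (.leaf 626) (.leaf 2674)))) (.node 3 (.node 1 (.leaf 627) (.node 1 (.leaf 2675) (.leaf 2677))) (.node 1 (.leaf 630) (.node 1 (.leaf 2678) (.leaf 2679)))))))

def stabTreePart23 : Tbl ℕ :=
  (.node 21 (.node 10 (.node 5 (.node 2 (.node 1 (.leaf 632) (.leaf 2680)) (.node 1 (.leaf 633) (.node 1 (.leaf 2681) (.leaf 635)))) (.node 2 (.node 1 (.leaf 2684) (.leaf 639)) (.node 1 (.leaf 2687) (.node 1 (.leaf 640) (.leaf 641))))) (.node 5 (.node 2 (.node 1 (.leaf 2689) (.leaf 642)) (.node 1 (.leaf 2690) (.node 1 (.leaf 2691) (.leaf 644)))) (.node 3 (.node 1 (.leaf 646) (.node 1 (.leaf 2694) (.leaf 647))) (.node 1 (.leaf 2695) (.node 1 (.leaf 648) (.leaf 2697)))))) (.node 10 (.node 5 (.node 2 (.node 1 (.leaf 650) (.leaf 2698)) (.node 1 (.leaf 2699) (.node 1 (.leaf 2700) (.leaf 653)))) (.node 2 (.node 1 (.leaf 655) (.leaf 2703)) (.node 1 (.leaf 2705)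 (.node 1 (.leaf 658) (.leaf 659))))) (.node 5 (.node 2 (.node 1 (.leaf 660) (.leaf 661)) (.node 1 (.leaf 2709) (.node 1 (.leaf 2710) (.leaf 663)))) (.node 3 (.node 1 (.leaf 2711) (.node 1 (.leaf 2712) (.leaf 2714))) (.node 1 (.leaf 2715) (.node 1 (.leaf 2716) (.leaf 669)))))))

def stabTreePart24 : Tbl ℕ :=
  (.node 21 (.node 10 (.node 5 (.node 2 (.node 1 (.leaf 671) (.leaf 2719)) (.node 1 (.leaf 673) (.node 1 (.leaf 2723) (.leaf 676)))) (.node 2 (.node 1 (.leaf 2724) (.leaf 677)) (.node 1 (.leaf 2726) (.node 1 (.leaf 679) (.leaf 2727))))) (.node 5 (.node 2 (.node 1 (.leaf 680) (.leaf 681)) (.node 1 (.leaf 2729) (.node 1 (.leaf 2730) (.leaf 2731)))) (.node 3 (.node 1 (.leaf 684) (.node 1 (.leaf 2732) (.leaf 2733))) (.node 1 (.leaf 686) (.node 1 (.leaf 2734) (.leaf 687)))))) (.node 10 (.node 5 (.node 2 (.node 1 (.leaf 688) (.leaf 2736)) (.node 1 (.leaf 2737) (.node 1 (.leaf 692) (.leaf 693))))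 (.node 2 (.node 1 (.leaf 2741) (.leaf 2742)) (.node 1 (.leaf 2743) (.node 1 (.leaf 697) (.leaf 2745))))) (.node 5 (.node 2 (.node 1 (.leaf 698) (.leaf 699)) (.node 1 (.leaf 700) (.node 1 (.leaf 2748) (.leaf 2749)))) (.node 3 (.node 1 (.leaf 702) (.node 1 (.leaf 703) (.leaf 704))) (.node 1 (.leaf 2752) (.node 1 (.leaf 706) (.leaf 2754)))))))

def stabTreePart25 : Tbl ℕ :=
  (.node 21 (.node 10 (.node 5 (.node 2 (.node 1 (.leaf 2757) (.leaf 710)) (.node 1 (.leaf 711) (.node 1 (.leaf 2759) (.leaf 712)))) (.node 2 (.node 1 (.leaf 713) (.leaf 2761)) (.node 1 (.leaf 714) (.node 1 (.leaf 715) (.leaf 716))))) (.node 5 (.node 2 (.node 1 (.leaf 2764) (.leaf 2765)) (.node 1 (.leaf 2768) (.node 1 (.leaf 2769) (.leaf 722)))) (.node 3 (.node 1 (.leaf 723) (.node 1 (.leaf 2771) (.leaf 724))) (.node 1 (.leaf 2773) (.node 1 (.leaf 727) (.leaf 2776)))))) (.node 10 (.node 5 (.node 2 (.node 1 (.leaf 729) (.leaf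 2777)) (.node 1 (.leaf 731) (.node 1 (.leaf 732) (.leaf 733)))) (.node 2 (.node 1 (.leaf 734) (.leaf 737)) (.node 1 (.leaf 2785) (.node 1 (.leaf 738) (.leaf 743))))) (.node 5 (.node 2 (.node 1 (.leaf 2791) (.leaf 745)) (.node 1 (.leaf 2793) (.node 1 (.leaf 2794) (.leaf 2797)))) (.node 3 (.node 1 (.leaf 2798) (.node 1 (.leaf 751) (.leaf 2799))) (.node 1 (.leaf 2802) (.node 1 (.leaf 755) (.leaf 2806)))))))

def stabTreePart26 : Tbl ℕ :=
  (.node 21 (.node 10 (.node 5 (.node 2 (.node 1 (.leaf 2807) (.leaf 760)) (.node 1 (.leaf 762) (.node 1 (.leaf 2810) (.leaf 2811)))) (.node 2 (.node 1 (.leaf 2812) (.leaf 2813)) (.node 1 (.leaf 767) (.node 1 (.leaf 2817) (.leaf 771))))) (.node 5 (.node 2 (.node 1 (.leaf 2820) (.leaf 773)) (.node 1 (.leaf 2821) (.node 1 (.leaf 776) (.leaf 2824)))) (.node 3 (.node 1 (.leaf 777) (.node 1 (.leaf 2826) (.leaf 2828))) (.node 1 (.leaf 2829) (.node 1 (.leaf 2830) (.leaf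 2831)))))) (.node 10 (.node 5 (.node 2 (.node 1 (.leaf 784) (.leaf 2832)) (.node 1 (.leaf 785) (.node 1 (.leaf 2833) (.leaf 786)))) (.node 2 (.node 1 (.leaf 788) (.leaf 789)) (.node 1 (.leaf 2839) (.node 1 (.leaf 792) (.leaf 795))))) (.node 5 (.node 2 (.node 1 (.leaf 2843) (.leaf 796)) (.node 1 (.leaf 799) (.node 1 (.leaf 2848) (.leaf 802)))) (.node 3 (.node 1 (.leaf 804) (.node 1 (.leaf 2853) (.leaf 807))) (.node 1 (.leaf 2855) (.node 1 (.leaf 2856) (.leaf 811)))))))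

def stabTreePart27 : Tbl ℕ :=
  (.node 21 (.node 10 (.node 5 (.node 2 (.node 1 (.leaf 2859) (.leaf 2860)) (.node 1 (.leaf 813) (.node 1 (.leaf 2861) (.leaf 2863)))) (.node 2 (.node 1 (.leaf 2864) (.leaf 2867)) (.node 1 (.leaf 820) (.node 1 (.leaf 823) (.leaf 2871))))) (.node 5 (.node 2 (.node 1 (.leaf 2872) (.leaf 2873)) (.node 1 (.leaf 827) (.node 1 (.leaf 2875) (.leaf 829)))) (.node 3 (.node 1 (.leaf 2877) (.node 1 (.leaf 830) (.leaf 831))) (.node 1 (.leaf 834) (.node 1 (.leaf 2884) (.leaf 837)))))) (.node 10 (.node 5 (.node 2 (.node 1 (.leaf 838) (.leaf 2887)) (.node 1 (.leaf 840) (.node 1 (.leaf 844) (.leaf 2892)))) (.node 2 (.node 1 (.leaf 846) (.leaf 2894)) (.node 1 (.leaf 2895) (.node 1 (.leaf 848) (.leaf 2896))))) (.node 5 (.node 2 (.node 1 (.leaf 849) (.leaf 2897)) (.node 1 (.leaf 2902) (.node 1 (.leaf 855) (.leaf 2903)))) (.node 3 (.node 1 (.leaf 859) (.node 1 (.leaf 2907) (.leaf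 860))) (.node 1 (.leaf 2908) (.node 1 (.leaf 861) (.leaf 2910)))))))

def stabTreePart28 : Tbl ℕ :=
  (.node 21 (.node 10 (.node 5 (.node 2 (.node 1 (.leaf 2911) (.leaf 2913)) (.node 1 (.leaf 868) (.node 1 (.leaf 2916) (.leaf 2918)))) (.node 2 (.node 1 (.leaf 871) (.leaf 872)) (.node 1 (.leaf 2920) (.node 1 (.leaf 873) (.leaf 2921))))) (.node 5 (.node 2 (.node 1 (.leaf 2922) (.leaf 2924)) (.node 1 (.leaf 2926) (.node 1 (.leaf 2927) (.leaf 880)))) (.node 3 (.node 1 (.leaf 2928) (.node 1 (.leaf 881) (.leaf 2930))) (.node 1 (.leaf 2931) (.node 1 (.leaf 884) (.leaf 885)))))) (.node 10 (.node 5 (.node 2 (.node 1 (.leaf 2933) (.leaf 888)) (.node 1 (.leaf 2936) (.node 1 (.leaf 889) (.leaf 890)))) (.node 2 (.node 1 (.leaf 2938) (.leaf 2939)) (.node 1 (.leaf 2942) (.node 1 (.leaf 2943) (.leaf 2945))))) (.node 5 (.node 2 (.node 1 (.leaf 899) (.leaf 900)) (.node 1 (.leaf 2948) (.node 1 (.leaf 2949)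 (.leaf 902)))) (.node 3 (.node 1 (.leaf 2951) (.node 1 (.leaf 905) (.leaf 906))) (.node 1 (.leaf 2954) (.node 1 (.leaf 2955) (.leaf 2956)))))))

def stabTreePart29 : Tbl ℕ :=
  (.node 21 (.node 10 (.node 5 (.node 2 (.node 1 (.leaf 2958) (.leaf 911)) (.node 1 (.leaf 2959) (.node 1 (.leaf 914) (.leaf 915)))) (.node 2 (.node 1 (.leaf 916) (.leaf 2965)) (.node 1 (.leaf 2967) (.node 1 (.leaf 921) (.leaf 2971))))) (.node 5 (.node 2 (.node 1 (.leaf 924) (.leaf 2972)) (.node 1 (.leaf 925) (.node 1 (.leaf 2974) (.leaf 927)))) (.node 3 (.node 1 (.leaf 2975) (.node 1 (.leaf 928) (.leaf 929))) (.node 1 (.leaf 2980) (.node 1 (.leaf 2983) (.leaf 2985)))))) (.node 10 (.node 5 (.node 2 (.node 1 (.leaf 2989) (.leaf 2994)) (.node 1 (.leaf 950) (.node 1 (.leaf 3000) (.leaf 953)))) (.node 2 (.node 1 (.leaf 3005) (.leaf 958)) (.node 1 (.leaf 3006) (.node 1 (.leaf 3007) (.leaf 960))))) (.node 5 (.node 2 (.node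 1 (.leaf 3009) (.leaf 963)) (.node 1 (.leaf 966) (.node 1 (.leaf 3018) (.leaf 971)))) (.node 3 (.node 1 (.leaf 3019) (.node 1 (.leaf 972) (.leaf 3022))) (.node 1 (.leaf 3024) (.node 1 (.leaf 978) (.leaf 3027)))))))

def stabTreePart30 : Tbl ℕ :=
  (.node 21 (.node 10 (.node 5 (.node 2 (.node 1 (.leaf 980) (.leaf 3033)) (.node 1 (.leaf 987) (.node 1 (.leaf 3035) (.leaf 988)))) (.node 2 (.node 1 (.leaf 990) (.leaf 3039)) (.node 1 (.leaf 993) (.node 1 (.leaf 3043) (.leaf 998))))) (.node 5 (.node 2 (.node 1 (.leaf 3047) (.leaf 1002)) (.node 1 (.leaf 1004) (.node 1 (.leaf 3052) (.leaf 3054)))) (.node 3 (.node 1 (.leaf 1011) (.node 1 (.leaf 3059) (.leaf 3062))) (.node 1 (.leaf 3064) (.node 1 (.leaf 3066) (.leaf 3072)))))) (.node 10 (.node 5 (.node 2 (.node 1 (.leaf 3078) (.leaf 1031)) (.node 1 (.leaf 3081) (.node 1 (.leaf 1035) (.leaf 3083)))) (.node 2 (.node 1 (.leaf 1038) (.leaf 3086)) (.node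 1 (.leaf 3087) (.node 1 (.leaf 3092) (.leaf 1055))))) (.node 5 (.node 2 (.node 1 (.leaf 1057) (.leaf 1058)) (.node 1 (.leaf 1062) (.node 1 (.leaf 3110) (.leaf 3115)))) (.node 3 (.node 1 (.leaf 1070) (.node 1 (.leaf 3127) (.leaf 1082))) (.node 1 (.leaf 3131) (.node 1 (.leaf 3136) (.leaf 3146)))))))

def stabTreePart31 : Tbl ℕ :=
  (.node 21 (.node 10 (.node 5 (.node 2 (.node 1 (.leaf 3150) (.leaf 1104)) (.node 1 (.leaf 3152) (.node 1 (.leaf 3153) (.leaf 1106)))) (.node 2 (.node 1 (.leaf 1110) (.leaf 3159)) (.node 1 (.leaf 1112) (.node 1 (.leaf 1113) (.leaf 3161))))) (.node 5 (.node 2 (.node 1 (.leaf 3166) (.leaf 3168)) (.node 1 (.leaf 1122) (.node 1 (.leaf 3170) (.leaf 1125)))) (.node 3 (.node 1 (.leaf 3173) (.node 1 (.leaf 3174) (.leaf 3179))) (.node 1 (.leaf 1136) (.node 1 (.leaf 1140) (.leaf 3188)))))) (.node 10 (.node 5 (.node 2 (.node 1 (.leaf 1141) (.leaf 3201)) (.node 1 (.leaf 1158)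 (.node 1 (.leaf 3206) (.leaf 1163)))) (.node 2 (.node 1 (.leaf 3222) (.leaf 1177)) (.node 1 (.leaf 3236) (.node 1 (.leaf 3243) (.leaf 3250))))) (.node 5 (.node 2 (.node 1 (.leaf 1204) (.leaf 3252)) (.node 1 (.leaf 3270) (.node 1 (.leaf 3280) (.leaf 3295)))) (.node 3 (.node 1 (.leaf 3298) (.node 1 (.leaf 3300) (.leaf 1268))) (.node 1 (.leaf 3318) (.node 1 (.leaf 1274) (.leaf 3329)))))))

def stabTree : Tbl ℕ :=
  (.node 672 (.node 336 (.node 168 (.node 84 (.node 42 stabTreePart0 stabTreePart1) (.node 42 stabTreePart2 stabTreePart3)) (.node 84 (.node 42 stabTreePart4 stabTreePart5) (.node 42 stabTreePart6 stabTreePart7))) (.node 168 (.node 84 (.node 42 stabTreePart8 stabTreePart9) (.node 42 stabTreePart10 stabTreePart11)) (.node 84 (.node 42 stabTreePart12 stabTreePart13) (.node 42 stabTreePart14 stabTreePart15)))) (.node 336 (.node 168 (.node 84 (.node 42 stabTreePart16 stabTreePart17) (.node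 42 stabTreePart18 stabTreePart19)) (.node 84 (.node 42 stabTreePart20 stabTreePart21) (.node 42 stabTreePart22 stabTreePart23))) (.node 168 (.node 84 (.node 42 stabTreePart24 stabTreePart25) (.node 42 stabTreePart26 stabTreePart27)) (.node 84 (.node 42 stabTreePart28 stabTreePart29) (.node 42 stabTreePart30 stabTreePart31)))))

def stabStepPart0 : Tbl ℕ :=
  (.node 21 (.node 10 (.node 5 (.node 2 (.node 1 (.leaf 2050) (.leaf 6148)) (.node 1 (.leaf 10246) (.node 1 (.leaf 14344) (.leaf 18442)))) (.node 2 (.node 1 (.leaf 22540) (.leaf 26638)) (.node 1 (.leaf 30736) (.node 1 (.leaf 34834) (.leaf 38932))))) (.node 5 (.node 2 (.node 1 (.leaf 43030) (.leaf 47128)) (.node 1 (.leaf 51226) (.node 1 (.leaf 55324) (.leaf 59422)))) (.node 3 (.node 1 (.leaf 63520) (.node 1 (.leaf 67618) (.leaf 71716))) (.node 1 (.leaf 75814) (.node 1 (.leaf 79912) (.leaf 84010)))))) (.node 10 (.node 5 (.node 2 (.node 1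 (.leaf 88108) (.leaf 92206)) (.node 1 (.leaf 96304) (.node 1 (.leaf 100402) (.leaf 104500)))) (.node 2 (.node 1 (.leaf 108598) (.leaf 112696)) (.node 1 (.leaf 116794) (.node 1 (.leaf 120892) (.leaf 124990))))) (.node 5 (.node 2 (.node 1 (.leaf 106559) (.leaf 131137)) (.node 1 (.leaf 135235) (.node 1 (.leaf 139333) (.leaf 143431)))) (.node 3 (.node 1 (.leaf 147529) (.node 1 (.leaf 151627) (.leaf 155725))) (.node 1 (.leaf 159823) (.node 1 (.leaf 24656) (.leaf 165888)))))))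

def stabStepPart1 : Tbl ℕ :=
  (.node 21 (.node 10 (.node 5 (.node 2 (.node 1 (.leaf 168019) (.leaf 172117)) (.node 1 (.leaf 176215) (.node 1 (.leaf 180313) (.leaf 184411)))) (.node 2 (.node 1 (.leaf 188509) (.leaf 192607)) (.node 1 (.leaf 196705) (.node 1 (.leaf 200803) (.leaf 204901))))) (.node 5 (.node 2 (.node 1 (.leaf 102) (.leaf 210953)) (.node 1 (.leaf 213097) (.node 1 (.leaf 217195) (.leaf 221293)))) (.node 3 (.node 1 (.leaf 225391) (.node 1 (.leaf 229489) (.leaf 233587))) (.node 1 (.leaf 237685) (.node 1 (.leaf 241783) (.leaf 245881)))))) (.node 10 (.node 5 (.node 2 (.node 1 (.leaf 249979) (.leaf 254077)) (.node 1 (.leaf 258175) (.node 1 (.leaf 262273) (.leaf 266371)))) (.node 2 (.node 1 (.leaf 270469) (.leaf 274567)) (.node 1 (.leaf 278665) (.node 1 (.leaf 41098) (.leaf 284673))))) (.node 5 (.node 2 (.node 1 (.leaf 286861) (.leaf 290959)) (.node 1 (.leaf 295057) (.node 1 (.leaf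 299155) (.leaf 303253)))) (.node 3 (.node 1 (.leaf 307351) (.node 1 (.leaf 311449) (.leaf 315547))) (.node 1 (.leaf 319645) (.node 1 (.leaf 323601) (.leaf 325792)))))))

def stabStepPart2 : Tbl ℕ :=
  (.node 21 (.node 10 (.node 5 (.node 2 (.node 1 (.leaf 329890) (.leaf 333988)) (.node 1 (.leaf 338086) (.node 1 (.leaf 342184) (.leaf 346282)))) (.node 2 (.node 1 (.leaf 350380) (.leaf 354478)) (.node 1 (.leaf 358576) (.node 1 (.leaf 227454) (.leaf 362674))))) (.node 5 (.node 2 (.node 1 (.leaf 366772) (.leaf 370870)) (.node 1 (.leaf 374815) (.node 1 (.leaf 377017) (.leaf 381115)))) (.node 3 (.node 1 (.leaf 385213) (.node 1 (.leaf 389311) (.leaf 57536))) (.node 1 (.leaf 395458) (.node 1 (.leaf 399556) (.leaf 403608)))))) (.node 10 (.node 5 (.node 2 (.node 1 (.leaf 405703) (.leaf 409801)) (.node 1 (.leaf 413899) (.node 1 (.leaf 417997) (.leaf 422095)))) (.node 2 (.node 1 (.leaf 426193) (.leaf 4306))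 (.node 1 (.leaf 432153) (.node 1 (.leaf 434389) (.leaf 438487))))) (.node 5 (.node 2 (.node 1 (.leaf 442585) (.leaf 446683)) (.node 1 (.leaf 450781) (.node 1 (.leaf 454879) (.leaf 458977)))) (.node 3 (.node 1 (.leaf 463075) (.node 1 (.leaf 467173) (.leaf 471271))) (.node 1 (.leaf 475369) (.node 1 (.leaf 479467) (.leaf 483565)))))))

def stabStepPart3 : Tbl ℕ :=
  (.node 21 (.node 10 (.node 5 (.node 2 (.node 1 (.leaf 487663) (.leaf 491761)) (.node 1 (.leaf 420082) (.node 1 (.leaf 73971) (.leaf 499715)))) (.node 2 (.node 1 (.leaf 502006) (.leaf 506104)) (.node 1 (.leaf 510202) (.node 1 (.leaf 514300) (.leaf 518398))))) (.node 5 (.node 2 (.node 1 (.leaf 522496) (.leaf 526594)) (.node 1 (.leaf 530692) (.node 1 (.leaf 534790) (.leaf 538657)))) (.node 3 (.node 1 (.leaf 540937) (.node 1 (.leaf 545035) (.leaf 549133))) (.node 1 (.leaf 553231) (.node 1 (.leaf 557268) (.leaf 559378)))))) (.node 10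 (.node 5 (.node 2 (.node 1 (.leaf 563476) (.leaf 567574)) (.node 1 (.leaf 571672) (.node 1 (.leaf 340200) (.leaf 575770)))) (.node 2 (.node 1 (.leaf 579868) (.leaf 583966)) (.node 1 (.leaf 588064) (.node 1 (.leaf 592162) (.leaf 596260))))) (.node 5 (.node 2 (.node 1 (.leaf 90405) (.leaf 452902)) (.node 1 (.leaf 604417) (.node 1 (.leaf 606505) (.leaf 610603)))) (.node 3 (.node 1 (.leaf 614701) (.node 1 (.leaf 618799) (.leaf 622897))) (.node 1 (.leaf 626995) (.node 1 (.leaf 8500) (.leaf 632873)))))))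

def stabStepPart4 : Tbl ℕ :=
  (.node 21 (.node 10 (.node 5 (.node 2 (.node 1 (.leaf 635191) (.leaf 639289)) (.node 1 (.leaf 643387) (.node 1 (.leaf 647485) (.leaf 651583)))) (.node 2 (.node 1 (.leaf 655681) (.leaf 659779)) (.node 1 (.leaf 663877) (.node 1 (.leaf 667975) (.leaf 672073))))) (.node 5 (.node 2 (.node 1 (.leaf 676171) (.leaf 680269)) (.node 1 (.leaf 684285) (.node 1 (.leaf 686416) (.leaf 690514)))) (.node 3 (.node 1 (.leaf 694612) (.node 1 (.leaf 698373) (.leaf 700759))) (.node 1 (.leaf 704857) (.node 1 (.leaf 708955) (.leaf 713053)))))) (.node 10 (.node 5 (.node 2 (.node 1 (.leaf 717151) (.leaf 721249)) (.node 1 (.leaf 725347) (.node 1 (.leaf 729445) (.leaf 733233)))) (.node 2 (.node 1 (.leaf 735592) (.leaf 739690)) (.node 1 (.leaf 589898) (.node 1 (.leaf 743788) (.leaf 186733))))) (.node 5 (.node 2 (.node 1 (.leaf 749935) (.leaf 448842)) (.node 1 (.leaf 754033) (.node 1 (.leaf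 758131) (.leaf 762229)))) (.node 3 (.node 1 (.leaf 766044) (.node 1 (.leaf 768376) (.leaf 772474))) (.node 1 (.leaf 776572) (.node 1 (.leaf 780670) (.leaf 123178)))))))

def stabStepPart5 : Tbl ℕ :=
  (.node 21 (.node 10 (.node 5 (.node 2 (.node 1 (.leaf 784768) (.leaf 788866)) (.node 1 (.leaf 792930) (.node 1 (.leaf 795013) (.leaf 799111)))) (.node 2 (.node 1 (.leaf 803209) (.leaf 807307)) (.node 1 (.leaf 811405) (.node 1 (.leaf 815503) (.leaf 12688))))) (.node 5 (.node 2 (.node 1 (.leaf 481337) (.leaf 821650)) (.node 1 (.leaf 825748) (.node 1 (.leaf 829740) (.leaf 831895)))) (.node 3 (.node 1 (.leaf 835993) (.node 1 (.leaf 569754) (.leaf 842140))) (.node 1 (.leaf 846238) (.node 1 (.leaf 850336) (.leaf 854434)))))) (.node 10 (.node 5 (.node 2 (.node 1 (.leaf 858532) (.leaf 862630)) (.node 1 (.leaf 866501) (.node 1 (.leaf 620968) (.leaf 137641)))) (.node 2 (.node 1 (.leaf 872455) (.leaf 874924))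 (.node 1 (.leaf 879022) (.node 1 (.leaf 883120) (.leaf 887218))))) (.node 5 (.node 2 (.node 1 (.leaf 891316) (.leaf 895414)) (.node 1 (.leaf 819639) (.node 1 (.leaf 901561) (.leaf 905280)))) (.node 3 (.node 1 (.leaf 907708) (.node 1 (.leaf 911806) (.leaf 915904))) (.node 1 (.leaf 920002) (.node 1 (.leaf 923958) (.leaf 926149)))))))

def stabStepPart6 : Tbl ℕ :=
  (.node 21 (.node 10 (.node 5 (.node 2 (.node 1 (.leaf 930247) (.leaf 934345)) (.node 1 (.leaf 938443) (.node 1 (.leaf 555367) (.leaf 942541)))) (.node 2 (.node 1 (.leaf 946639) (.leaf 950737)) (.node 1 (.leaf 954835) (.node 1 (.leaf 958933) (.leaf 963031))))) (.node 5 (.node 2 (.node 1 (.leaf 154072) (.leaf 653785)) (.node 1 (.leaf 61877) (.node 1 (.leaf 971227) (.leaf 975325)))) (.node 3 (.node 1 (.leaf 979423) (.node 1 (.leaf 983521) (.leaf 987619))) (.node 1 (.leaf 991717) (.node 1 (.leaf 16870) (.leaf 782408)))))) (.node 10 (.node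 5 (.node 2 (.node 1 (.leaf 997864) (.leaf 1001962)) (.node 1 (.leaf 1006060) (.node 1 (.leaf 1010158) (.leaf 1014256)))) (.node 2 (.node 1 (.leaf 1018354) (.leaf 1022452)) (.node 1 (.leaf 1026550) (.node 1 (.leaf 1030648) (.leaf 1034746))))) (.node 5 (.node 2 (.node 1 (.leaf 1038844) (.leaf 1042867)) (.node 1 (.leaf 102910) (.node 1 (.leaf 1047040) (.leaf 1051138)))) (.node 3 (.node 1 (.leaf 1055236) (.node 1 (.leaf 1059334) (.leaf 1062971))) (.node 1 (.leaf 1065481) (.node 1 (.leaf 1069579) (.leaf 1073677)))))))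

def stabStepPart7 : Tbl ℕ :=
  (.node 21 (.node 10 (.node 5 (.node 2 (.node 1 (.leaf 956548) (.leaf 1077775)) (.node 1 (.leaf 305526) (.node 1 (.leaf 1081873) (.leaf 649721)))) (.node 2 (.node 1 (.leaf 1085971) (.leaf 1090069)) (.node 1 (.leaf 1094167) (.node 1 (.leaf 1097878) (.leaf 1100314))))) (.node 5 (.node 2 (.node 1 (.leaf 1104412) (.leaf 1108510)) (.node 1 (.leaf 1112608) (.node 1 (.leaf 182748) (.leaf 1116706)))) (.node 3 (.node 1 (.leaf 1120804) (.node 1 (.leaf 1124874) (.leaf 1126951))) (.node 1 (.leaf 1131049) (.node 1 (.leaf 756108) (.leaf 428586)))))) (.node 10 (.node 5 (.node 2 (.node 1 (.leaf 1137196) (.leaf 1141294)) (.node 1 (.leaf 21039) (.node 1 (.leaf 856150) (.leaf 1147441)))) (.node 2 (.node 1 (.leaf 1151539) (.leaf 1155550)) (.node 1 (.leaf 1157686) (.node 1 (.leaf 1161239) (.leaf 936504))))) (.node 5 (.node 2 (.node 1 (.leaf 1165882) (.leaf 1169980)) (.node 1 (.leaf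 1174078) (.node 1 (.leaf 1178176) (.leaf 662081)))) (.node 3 (.node 1 (.leaf 1184060) (.node 1 (.leaf 1186372) (.leaf 809541))) (.node 1 (.leaf 199238) (.node 1 (.leaf 913419) (.leaf 1194568)))))))

def stabStepPart8 : Tbl ℕ :=
  (.node 21 (.node 10 (.node 5 (.node 2 (.node 1 (.leaf 1198666) (.leaf 1202764)) (.node 1 (.leaf 1206862) (.node 1 (.leaf 932431) (.leaf 1213009)))) (.node 2 (.node 1 (.leaf 1067602) (.leaf 493662)) (.node 1 (.leaf 1219156) (.node 1 (.leaf 1223254) (.leaf 1227352))))) (.node 5 (.node 2 (.node 1 (.leaf 1167961) (.leaf 1233297)) (.node 1 (.leaf 1235548) (.node 1 (.leaf 1239646) (.leaf 625247)))) (.node 3 (.node 1 (.leaf 1245793) (.node 1 (.leaf 82351) (.leaf 1249891))) (.node 1 (.leaf 1253989) (.node 1 (.leaf 952934) (.leaf 600679)))))) (.node 10 (.node 5 (.node 2 (.node 1 (.leaf 645736) (.leaf 838249)) (.node 1 (.leaf 1266256) (.node 1 (.leaf 1268007) (.leaf 1270307))))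 (.node 2 (.node 1 (.leaf 1272430) (.leaf 1276528)) (.node 1 (.leaf 1280626) (.node 1 (.leaf 1284724) (.leaf 1288822))))) (.node 5 (.node 2 (.node 1 (.leaf 1292920) (.leaf 1297018)) (.node 1 (.leaf 1301116) (.node 1 (.leaf 1304704) (.leaf 1307213)))) (.node 3 (.node 1 (.leaf 1309312) (.node 1 (.leaf 1313410) (.leaf 1317508))) (.node 1 (.leaf 921613) (.node 1 (.leaf 1321606) (.leaf 1325704)))))))

def stabStepPart9 : Tbl ℕ :=
  (.node 21 (.node 10 (.node 5 (.node 2 (.node 1 (.leaf 1329599) (.leaf 1331851)) (.node 1 (.leaf 1335949) (.node 1 (.leaf 1339681) (.leaf 1342096)))) (.node 2 (.node 1 (.leaf 1345644) (.leaf 1348243)) (.node 1 (.leaf 1352341) (.node 1 (.leaf 1259706) (.leaf 1356439))))) (.node 5 (.node 2 (.node 1 (.leaf 408216) (.leaf 1362586)) (.node 1 (.leaf 834171) (.node 1 (.leaf 1366684) (.leaf 1370782)))) (.node 3 (.node 1 (.leaf 1374880) (.node 1 (.leaf 1378504) (.leaf 1381027)))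 (.node 1 (.leaf 1385125) (.node 1 (.leaf 537254) (.leaf 348839)))))) (.node 10 (.node 5 (.node 2 (.node 1 (.leaf 244332) (.leaf 1393321)) (.node 1 (.leaf 1397391) (.node 1 (.leaf 1399468) (.leaf 289453)))) (.node 2 (.node 1 (.leaf 1405093) (.leaf 1407664)) (.node 1 (.leaf 1411762) (.node 1 (.leaf 29363) (.leaf 1179764))))) (.node 5 (.node 2 (.node 1 (.leaf 1417909) (.leaf 1421933)) (.node 1 (.leaf 1423624) (.node 1 (.leaf 1426105) (.leaf 1243834)))) (.node 3 (.node 1 (.leaf 1432252) (.node 1 (.leaf 1436093) (.leaf 1438399))) (.node 1 (.leaf 985792) (.node 1 (.leaf 256705) (.leaf 1445903)))))))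

def stabStepPart10 : Tbl ℕ :=
  (.node 21 (.node 10 (.node 5 (.node 2 (.node 1 (.leaf 1448644) (.leaf 1452742)) (.node 1 (.leaf 1456840) (.node 1 (.leaf 1460938) (.leaf 1465036)))) (.node 2 (.node 1 (.leaf 1145209) (.leaf 1469134)) (.node 1 (.leaf 786554) (.node 1 (.leaf 1472918) (.leaf 1475281))))) (.node 5 (.node 2 (.node 1 (.leaf 1479379) (.leaf 1483477)) (.node 1 (.leaf 1487235) (.node 1 (.leaf 1489624) (.leaf 1493182)))) (.node 3 (.node 1 (.leaf 1495771) (.node 1 (.leaf 1499714) (.leaf 1501918))) (.node 1 (.leaf 1506016) (.node 1 (.leaf 1510114) (.leaf 240355)))))) (.node 10 (.node 5 (.node 2 (.node 1 (.leaf 273124) (.leaf 1012453)) (.node 1 (.leaf 94923) (.node 1 (.leaf 1520359) (.leaf 1524457)))) (.node 2 (.node 1 (.leaf 1528555) (.leaf 1532596)) (.node 1 (.leaf 1534702) (.node 1 (.leaf 1538647) (.leaf 33520))))) (.node 5 (.node 2 (.node 1 (.leaf 1114242) (.leaf 1542723)) (.node 1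 (.leaf 1544947) (.node 1 (.leaf 1549045) (.leaf 1231506)))) (.node 3 (.node 1 (.leaf 1552561) (.node 1 (.leaf 1555192) (.leaf 1558894))) (.node 1 (.leaf 1561339) (.node 1 (.leaf 1565437) (.leaf 1569535)))))))

def stabStepPart11 : Tbl ℕ :=
  (.node 21 (.node 10 (.node 5 (.node 2 (.node 1 (.leaf 1573633) (.leaf 1577323)) (.node 1 (.leaf 164541) (.node 1 (.leaf 224003) (.leaf 1581829)))) (.node 2 (.node 1 (.leaf 1585927) (.leaf 1590025)) (.node 1 (.leaf 1593432) (.node 1 (.leaf 1595587) (.leaf 1358604))))) (.node 5 (.node 2 (.node 1 (.leaf 1215245) (.leaf 1394926)) (.node 1 (.leaf 520728) (.node 1 (.leaf 1602319) (.leaf 1008382)))) (.node 3 (.node 1 (.leaf 1606417) (.node 1 (.leaf 1610515) (.leaf 1613930))) (.node 1 (.leaf 1616127) (.node 1 (.leaf 1618711) (.leaf 1196824)))))) (.node 10 (.node 5 (.node 2 (.node 1 (.leaf 1434393) (.leaf 1626907)) (.node 1 (.leaf 301800) (.node 1 (.leaf 1630549)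 (.leaf 1632952)))) (.node 2 (.node 1 (.leaf 1088043) (.leaf 629534)) (.node 1 (.leaf 1637152) (.node 1 (.leaf 1640674) (.leaf 37666))))) (.node 5 (.node 2 (.node 1 (.leaf 1263760) (.leaf 1645348)) (.node 1 (.leaf 1649446) (.node 1 (.leaf 1653482) (.leaf 703272)))) (.node 3 (.node 1 (.leaf 1656871) (.node 1 (.leaf 1497898) (.leaf 1209131))) (.node 1 (.leaf 1663789) (.node 1 (.leaf 416558) (.leaf 1364783)))))))

def stabStepPart12 : Tbl ℕ :=
  (.node 21 (.node 10 (.node 5 (.node 2 (.node 1 (.leaf 1020720) (.leaf 1282539)) (.node 1 (.leaf 1673621) (.node 1 (.leaf 1135410) (.leaf 54067)))) (.node 2 (.node 1 (.leaf 1476627) (.leaf 1680181)) (.node 1 (.leaf 1684279) (.node 1 (.leaf 1688181) (.leaf 1334073))))) (.node 5 (.node 2 (.node 1 (.leaf 1692475) (.leaf 1661280)) (.node 1 (.leaf 1696304) (.node 1 (.leaf 1698622) (.leaf 1702720)))) (.node 3 (.node 1 (.leaf 990017) (.node 1 (.leaf 146119) (.leaf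 1708867))) (.node 1 (.leaf 1712965) (.node 1 (.leaf 1508166) (.leaf 967495)))))) (.node 10 (.node 5 (.node 2 (.node 1 (.leaf 1004360) (.leaf 1723210)) (.node 1 (.leaf 1727308) (.node 1 (.leaf 1731406) (.leaf 1735504)))) (.node 2 (.node 1 (.leaf 1739602) (.leaf 1743700)) (.node 1 (.leaf 1747178) (.node 1 (.leaf 1217336) (.leaf 1749594))))) (.node 5 (.node 2 (.node 1 (.leaf 1751896) (.leaf 1755994)) (.node 1 (.leaf 1484821) (.node 1 (.leaf 457563) (.leaf 1762141)))) (.node 3 (.node 1 (.leaf 1766098) (.node 1 (.leaf 1768288) (.leaf 1772386))) (.node 1 (.leaf 1776084) (.node 1 (.leaf 1778533) (.leaf 1781923)))))))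

def stabStepPart13 : Tbl ℕ :=
  (.node 21 (.node 10 (.node 5 (.node 2 (.node 1 (.leaf 723582) (.leaf 1784680)) (.node 1 (.leaf 1718559) (.node 1 (.leaf 232297) (.leaf 609130)))) (.node 2 (.node 1 (.leaf 1792876) (.leaf 1160019)) (.node 1 (.leaf 1796974) (.node 1 (.leaf 1237871) (.leaf 1803121))))) (.node 5 (.node 2 (.node 1 (.leaf 904050) (.leaf 562035)) (.node 1 (.leaf 357034) (.node 1 (.leaf 1811317) (.leaf 840548)))) (.node 3 (.node 1 (.leaf 1814707) (.node 1 (.leaf 504695) (.leaf 1818894))) (.node 1 (.leaf 1821562) (.node 1 (.leaf 1825660) (.leaf 45949)))))) (.node 10 (.node 5 (.node 2 (.node 1 (.leaf 1669291) (.leaf 1831595)) (.node 1 (.leaf 1833403) (.node 1 (.leaf 1835905) (.leaf 1706882)))) (.node 2 (.node 1 (.leaf 1842052) (.leaf 1845968)) (.node 1 (.leaf 791430) (.node 1 (.leaf 1057671) (.leaf 369544))))) (.node 5 (.node 2 (.node 1 (.leaf 969609) (.leaf 1856395)) (.node 1 (.leaf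 1608479) (.node 1 (.leaf 1860493) (.leaf 1864470)))) (.node 3 (.node 1 (.leaf 1416079) (.node 1 (.leaf 1868689) (.leaf 1872787))) (.node 1 (.leaf 1876885) (.node 1 (.leaf 1880146) (.leaf 533025)))))))

def stabStepPart14 : Tbl ℕ :=
  (.node 21 (.node 10 (.node 5 (.node 2 (.node 1 (.leaf 1883032) (.leaf 1745817)) (.node 1 (.leaf 1888975) (.node 1 (.leaf 637851) (.leaf 1893277)))) (.node 2 (.node 1 (.leaf 1516446) (.leaf 383019)) (.node 1 (.leaf 127886) (.node 1 (.leaf 1024927) (.leaf 314272))))) (.node 5 (.node 2 (.node 1 (.leaf 670625) (.leaf 517026)) (.node 1 (.leaf 1907620) (.node 1 (.leaf 49401) (.leaf 1390776)))) (.node 3 (.node 1 (.leaf 1911718) (.node 1 (.leaf 1914925) (.leaf 1917213))) (.node 1 (.leaf 1625001) (.node 1 (.leaf 1921963) (.leaf 1926061)))))) (.node 10 (.node 5 (.node 2 (.node 1 (.leaf 1584046) (.leaf 1932208)) (.node 1 (.leaf 1936093) (.node 1 (.leaf 973746) (.leaf 1940364))))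 (.node 2 (.node 1 (.leaf 1942005) (.leaf 1944502)) (.node 1 (.leaf 1947766) (.node 1 (.leaf 473423) (.leaf 1950649))))) (.node 5 (.node 2 (.node 1 (.leaf 719521) (.leaf 1041329)) (.node 1 (.leaf 1954747) (.node 1 (.leaf 1958845) (.leaf 1839564)))) (.node 3 (.node 1 (.leaf 1368596) (.node 1 (.leaf 817934) (.leaf 1962943))) (.node 1 (.leaf 1967041) (.node 1 (.leaf 1646647) (.leaf 1887170)))))))

def stabStepPart15 : Tbl ℕ :=
  (.node 21 (.node 10 (.node 5 (.node 2 (.node 1 (.leaf 1973188) (.leaf 512965)) (.node 1 (.leaf 1979335) (.node 1 (.leaf 1983433) (.leaf 1286886)))) (.node 2 (.node 1 (.leaf 1987067) (.leaf 961483)) (.node 1 (.leaf 1409753) (.node 1 (.leaf 1869851) (.leaf 1991629))))) (.node 5 (.node 2 (.node 1 (.leaf 1995459) (.leaf 1997776)) (.node 1 (.leaf 2001874) (.node 1 (.leaf 1885139) (.leaf 2007124)))) (.node 3 (.node 1 (.leaf 1188042) (.node 1 (.leaf 2010070) (.leaf 2014168)))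 (.node 1 (.leaf 2017531) (.node 1 (.leaf 1975258) (.leaf 2022364)))))) (.node 10 (.node 5 (.node 2 (.node 1 (.leaf 529373) (.leaf 293854)) (.node 1 (.leaf 2029886) (.node 1 (.leaf 207405) (.leaf 2032609)))) (.node 2 (.node 1 (.leaf 1896914) (.leaf 1428450)) (.node 1 (.leaf 2038740) (.node 1 (.leaf 2040426) (.leaf 2042012))))) (.node 5 (.node 2 (.node 1 (.leaf 2044903) (.leaf 345064)) (.node 1 (.leaf 2051050) (.node 1 (.leaf 1459179) (.leaf 1665730)))) (.node 3 (.node 1 (.leaf 1588204) (.node 1 (.leaf 1672173) (.leaf 543726))) (.node 1 (.leaf 2062668) (.node 1 (.leaf 594897) (.leaf 2065393)))))))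

def stabStepPart16 : Tbl ℕ :=
  (.node 21 (.node 10 (.node 5 (.node 2 (.node 1 (.leaf 1639260) (.leaf 2068950)) (.node 1 (.leaf 1878045) (.node 1 (.leaf 1754099) (.leaf 2073589)))) (.node 2 (.node 1 (.leaf 2077586) (.leaf 1491959)) (.node 1 (.leaf 2081785) (.node 1 (.leaf 2085080) (.leaf 2087932))))) (.node 5 (.node 2 (.node 1 (.leaf 1575933) (.leaf 797694)) (.node 1 (.leaf 2096128) (.node 1 (.leaf 1717249) (.leaf 2102275)))) (.node 3 (.node 1 (.leaf 2105734) (.node 1 (.leaf 2108422) (.leaf 746503))) (.node 1 (.leaf 465893) (.node 1 (.leaf 1037020) (.leaf 2114552)))))) (.node 10 (.node 5 (.node 2 (.node 1 (.leaf 2116618) (.leaf 150539)) (.node 1 (.leaf 965644) (.node 1 (.leaf 1984736) (.leaf 2124814)))) (.node 2 (.node 1 (.leaf 2128870) (.leaf 2130515)) (.node 1 (.leaf 2133010) (.node 1 (.leaf 2028563) (.leaf 2139024))))) (.node 5 (.node 2 (.node 1 (.leaf 2140327) (.leaf 2143255)) (.node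 1 (.leaf 1643035) (.node 1 (.leaf 2147353) (.leaf 1118401)))) (.node 3 (.node 1 (.leaf 1970741) (.node 1 (.leaf 764954) (.leaf 2152785))) (.node 1 (.leaf 2155549) (.node 1 (.leaf 2159141) (.leaf 2161696)))))))

def stabStepPart17 : Tbl ℕ :=
  (.node 21 (.node 10 (.node 5 (.node 2 (.node 1 (.leaf 2165027) (.leaf 2167813)) (.node 1 (.leaf 2169892) (.node 1 (.leaf 353317) (.leaf 489828)))) (.node 2 (.node 1 (.leaf 158742) (.leaf 1905702)) (.node 1 (.leaf 674855) (.node 1 (.leaf 2179119) (.leaf 2182186))))) (.node 5 (.node 2 (.node 1 (.leaf 2186042) (.leaf 66604)) (.node 1 (.leaf 1628396) (.node 1 (.leaf 2190129) (.leaf 707630)))) (.node 3 (.node 1 (.leaf 2194480) (.node 1 (.leaf 1429785) (.leaf 2197874))) (.node 1 (.leaf 2200080) (.node 1 (.leaf 2202294) (.leaf 2204174)))))) (.node 10 (.node 5 (.node 2 (.node 1 (.leaf 283525) (.leaf 336522)) (.node 1 (.leaf 2206774) (.node 1 (.leaf 2209938)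 (.leaf 1788507)))) (.node 2 (.node 1 (.leaf 394260) (.leaf 1812901)) (.node 1 (.leaf 893717) (.node 1 (.leaf 2212921) (.leaf 1551317))))) (.node 5 (.node 2 (.node 1 (.leaf 2217019) (.leaf 461884)) (.node 1 (.leaf 688289) (.node 1 (.leaf 2111863) (.leaf 203837)))) (.node 3 (.node 1 (.leaf 1844286) (.node 1 (.leaf 2227264) (.leaf 774247))) (.node 1 (.leaf 1850240) (.node 1 (.leaf 994369) (.leaf 2233334)))))))

def stabStepPart18 : Tbl ℕ :=
  (.node 21 (.node 10 (.node 5 (.node 2 (.node 1 (.leaf 1388868) (.leaf 70215)) (.node 1 (.leaf 1920067) (.node 1 (.leaf 216132) (.leaf 2238534)))) (.node 2 (.node 1 (.leaf 1278895) (.leaf 2241607)) (.node 1 (.leaf 617544) (.node 1 (.leaf 1795145) (.leaf 1557578))))) (.node 5 (.node 2 (.node 1 (.leaf 1729268) (.leaf 2251316)) (.node 1 (.leaf 1634508) (.node 1 (.leaf 87116) (.leaf 2150435)))) (.node 3 (.node 1 (.leaf 2255693) (.node 1 (.leaf 1770574) (.leaf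 2260048))) (.node 1 (.leaf 1290760) (.node 1 (.leaf 1200931) (.leaf 2264146)))))) (.node 10 (.node 5 (.node 2 (.node 1 (.leaf 2267763) (.leaf 1537108)) (.node 1 (.leaf 265116) (.node 1 (.leaf 2171989) (.leaf 1547350)))) (.node 2 (.node 1 (.leaf 2024535) (.leaf 1360984)) (.node 1 (.leaf 2280538) (.node 1 (.leaf 2284636) (.leaf 2288033))))) (.node 5 (.node 2 (.node 1 (.leaf 402509) (.leaf 2290492)) (.node 1 (.leaf 2292752) (.node 1 (.leaf 2156581) (.leaf 658528)))) (.node 3 (.node 1 (.leaf 2296859) (.node 1 (.leaf 2036058) (.leaf 813793))) (.node 1 (.leaf 2298979) (.node 1 (.leaf 2302220) (.leaf 1655899)))))))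

def stabStepPart19 : Tbl ℕ :=
  (.node 21 (.node 10 (.node 5 (.node 2 (.node 1 (.leaf 1700885) (.leaf 2304381)) (.node 1 (.leaf 1471590) (.node 1 (.leaf 928662) (.leaf 2309092)))) (.node 2 (.node 1 (.leaf 1164386) (.leaf 2310427)) (.node 1 (.leaf 877673) (.node 1 (.leaf 1866177) (.leaf 2315371))))) (.node 5 (.node 2 (.node 1 (.leaf 78956) (.leaf 2246931)) (.node 1 (.leaf 1960822) (.node 1 (.leaf 2321518) (.leaf 2270319)))) (.node 3 (.node 1 (.leaf 2327665) (.node 1 (.leaf 1123255) (.leaf 582770))) (.node 1 (.leaf 1518707) (.node 1 (.leaf 2219074) (.leaf 748552)))))) (.node 10 (.node 5 (.node 2 (.node 1 (.leaf 1830004) (.leaf 2337703)) (.node 1 (.leaf 2078860) (.node 1 (.leaf 899868) (.leaf 2339959)))) (.node 2 (.node 1 (.leaf 2286712) (.leaf 1029241)) (.node 1 (.leaf 889473) (.node 1 (.leaf 2348155) (.leaf 1808437))))) (.node 5 (.node 2 (.node 1 (.leaf 2352253) (.leaf 2355276)) (.node 1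 (.leaf 2357712) (.node 1 (.leaf 2225167) (.leaf 2067092)))) (.node 3 (.node 1 (.leaf 2359681) (.node 1 (.leaf 2092066) (.leaf 1522817))) (.node 1 (.leaf 2364079) (.node 1 (.leaf 2366202) (.leaf 1930372)))))))

def stabStepPart20 : Tbl ℕ :=
  (.node 21 (.node 10 (.node 5 (.node 2 (.node 1 (.leaf 2369709) (.leaf 2325125)) (.node 1 (.leaf 1798930) (.node 1 (.leaf 1143864) (.leaf 2372743)))) (.node 2 (.node 1 (.leaf 2343254) (.leaf 2376841)) (.node 1 (.leaf 885898) (.node 1 (.leaf 2382988) (.leaf 2387086))))) (.node 5 (.node 2 (.node 1 (.leaf 1319601) (.leaf 2110208)) (.node 1 (.leaf 1511792) (.node 1 (.leaf 1823777) (.leaf 1901711)))) (.node 3 (.node 1 (.leaf 2393233) (.node 1 (.leaf 1989000) (.leaf 2341267))) (.node 1 (.leaf 1251470) (.node 1 (.leaf 2397331) (.leaf 2401429)))))) (.node 10 (.node 5 (.node 2 (.node 1 (.leaf 2404785) (.leaf 2378903)) (.node 1 (.leaf 1854616) (.node 1 (.leaf 897940)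 (.leaf 509081)))) (.node 2 (.node 1 (.leaf 844269) (.leaf 322337)) (.node 1 (.leaf 2413723) (.node 1 (.leaf 731816) (.leaf 1838236))))) (.node 5 (.node 2 (.node 1 (.leaf 2418949) (.leaf 2421919)) (.node 1 (.leaf 2426017) (.node 1 (.leaf 1895586) (.leaf 2242743)))) (.node 3 (.node 1 (.leaf 2090147) (.node 1 (.leaf 2249730) (.leaf 910500))) (.node 1 (.leaf 412837) (.node 1 (.leaf 2438311) (.leaf 2441404)))))))

def stabStepPart21 : Tbl ℕ :=
  (.node 21 (.node 10 (.node 5 (.node 2 (.node 1 (.leaf 2163881) (.leaf 191658)) (.node 1 (.leaf 2447674) (.node 1 (.leaf 2450605) (.leaf 1129414)))) (.node 2 (.node 1 (.leaf 2271620) (.leaf 2454703)) (.node 1 (.leaf 2458152) (.node 1 (.leaf 2460850) (.leaf 1080499))))) (.node 5 (.node 2 (.node 1 (.leaf 666781) (.leaf 1571441)) (.node 1 (.leaf 269492) (.node 1 (.leaf 1514677) (.leaf 2388290)))) (.node 3 (.node 1 (.leaf 715958) (.node 1 (.leaf 1969310) (.leaf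 2472134))) (.node 1 (.leaf 2475193) (.node 1 (.leaf 2411706) (.leaf 2480400)))))) (.node 10 (.node 5 (.node 2 (.node 1 (.leaf 2237628) (.leaf 1677988)) (.node 1 (.leaf 2484919) (.node 1 (.leaf 2487487) (.leaf 982208)))) (.node 2 (.node 1 (.leaf 2452673) (.leaf 1504202)) (.node 1 (.leaf 1705154) (.node 1 (.leaf 2497732) (.leaf 2470642))))) (.node 5 (.node 2 (.node 1 (.leaf 1774768) (.leaf 2501645)) (.node 1 (.leaf 2503369) (.node 1 (.leaf 2505689) (.leaf 99528)))) (.node 3 (.node 1 (.leaf 309582) (.node 1 (.leaf 1049801) (.leaf 2020347))) (.node 1 (.leaf 2511723) (.node 1 (.leaf 2173593) (.leaf 586955)))))))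

def stabStepPart22 : Tbl ℕ :=
  (.node 21 (.node 10 (.node 5 (.node 2 (.node 1 (.leaf 2516173) (.leaf 2519702)) (.node 1 (.leaf 445647) (.node 1 (.leaf 2524369) (.leaf 2528010)))) (.node 2 (.node 1 (.leaf 2529494) (.leaf 2196626)) (.node 1 (.leaf 1992944) (.node 1 (.leaf 1526996) (.leaf 918545))))) (.node 5 (.node 2 (.node 1 (.leaf 1786814) (.leaf 163029)) (.node 1 (.leaf 631197) (.node 1 (.leaf 1451222) (.leaf 1323757)))) (.node 3 (.node 1 (.leaf 2213988) (.node 1 (.leaf 2493576) (.leaf 2004183))) (.node 1 (.leaf 805731) (.node 1 (.leaf 2098280) (.leaf 1924227)))))) (.node 10 (.node 5 (.node 2 (.node 1 (.leaf 2053032) (.leaf 120024)) (.node 1 (.leaf 2488371) (.node 1 (.leaf 1651801) (.leaf 2538126)))) (.node 2 (.node 1 (.leaf 2542298) (.leaf 1909187)) (.node 1 (.leaf 1096922) (.node 1 (.leaf 2546175) (.leaf 2468415))))) (.node 5 (.node 2 (.node 1 (.leaf 1540908) (.leaf 1694444)) (.node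 1 (.leaf 486620) (.node 1 (.leaf 2551006) (.leaf 1531103)))) (.node 3 (.node 1 (.leaf 2556678) (.node 1 (.leaf 111841) (.leaf 277513))) (.node 1 (.leaf 2560759) (.node 1 (.leaf 1591809) (.leaf 1817631)))))))

def stabStepPart23 : Tbl ℕ :=
  (.node 21 (.node 10 (.node 5 (.node 2 (.node 1 (.leaf 2563262) (.leaf 870934)) (.node 1 (.leaf 1946376) (.node 1 (.leaf 761006) (.leaf 2467044)))) (.node 2 (.node 1 (.leaf 2567398) (.leaf 2570759)) (.node 1 (.leaf 868836) (.node 1 (.leaf 1621224) (.leaf 252058))))) (.node 5 (.node 2 (.node 1 (.leaf 574697) (.leaf 2423920)) (.node 1 (.leaf 2577597) (.node 1 (.leaf 171243) (.leaf 2580942)))) (.node 3 (.node 1 (.leaf 248879) (.node 1 (.leaf 1927975) (.leaf 728186))) (.node 1 (.leaf 1295193) (.node 1 (.leaf 1205485) (.leaf 115273)))))) (.node 10 (.node 5 (.node 2 (.node 1 (.leaf 2585839) (.leaf 2588776)) (.node 1 (.leaf 2532407) (.node 1 (.leaf 2591870) (.leaf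 1133810)))) (.node 2 (.node 1 (.leaf 1898936) (.leaf 2596069)) (.node 1 (.leaf 881279) (.node 1 (.leaf 1660148) (.leaf 1338372))))) (.node 5 (.node 2 (.node 1 (.leaf 1938239) (.leaf 2599964)) (.node 1 (.leaf 2456822) (.node 1 (.leaf 2100154) (.leaf 1414352)))) (.node 3 (.node 1 (.leaf 2603897) (.node 1 (.leaf 2535538) (.leaf 2606329))) (.node 1 (.leaf 2055237) (.node 1 (.leaf 478458) (.leaf 2120805)))))))

def stabStepPart24 : Tbl ℕ :=
  (.node 21 (.node 10 (.node 5 (.node 2 (.node 1 (.leaf 1667825) (.leaf 1760297)) (.node 1 (.leaf 2575504) (.node 1 (.leaf 2612476) (.leaf 2245677)))) (.node 2 (.node 1 (.leaf 2294347) (.leaf 2149629)) (.node 1 (.leaf 524797) (.node 1 (.leaf 1017086) (.leaf 332006))))) (.node 5 (.node 2 (.node 1 (.leaf 2135295) (.leaf 1733387)) (.node 1 (.leaf 1682403) (.node 1 (.leaf 2428031) (.leaf 2188358)))) (.node 3 (.node 1 (.leaf 2262056) (.node 1 (.leaf 861440) (.leaf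 1221455))) (.node 1 (.leaf 2429565) (.node 1 (.leaf 1262740) (.leaf 2478914)))))) (.node 10 (.node 5 (.node 2 (.node 1 (.leaf 2572349) (.leaf 2548993)) (.node 1 (.leaf 2626743) (.node 1 (.leaf 2517060) (.leaf 1402115)))) (.node 2 (.node 1 (.leaf 2385020) (.leaf 2630917)) (.node 1 (.leaf 848116) (.node 1 (.leaf 2278658) (.leaf 2635015))))) (.node 5 (.node 2 (.node 1 (.leaf 380168) (.leaf 1710327)) (.node 1 (.leaf 2333083) (.node 1 (.leaf 1467509) (.leaf 2443509)))) (.node 3 (.node 1 (.leaf 2192649) (.node 1 (.leaf 613607) (.leaf 1275057))) (.node 1 (.leaf 1981349) (.node 1 (.leaf 566474) (.leaf 864780)))))))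

def stabStepPart25 : Tbl ℕ :=
  (.node 21 (.node 10 (.node 5 (.node 2 (.node 1 (.leaf 1032607) (.leaf 1189966)) (.node 1 (.leaf 2507855) (.node 1 (.leaf 130275) (.leaf 2228643)))) (.node 2 (.node 1 (.leaf 2643019) (.leaf 1053621)) (.node 1 (.leaf 2644943) (.node 1 (.leaf 2646910) (.leaf 498036))))) (.node 5 (.node 2 (.node 1 (.leaf 551775) (.leaf 2048829)) (.node 1 (.leaf 2649358) (.node 1 (.leaf 1044746) (.leaf 2464281)))) (.node 3 (.node 1 (.leaf 317823) (.node 1 (.leaf 2329536) (.leaf 1377551))) (.node 1 (.leaf 1106078) (.node 1 (.leaf 2057325) (.leaf 2655400)))))) (.node 10 (.node 5 (.node 2 (.node 1 (.leaf 1806835) (.leaf 133218)) (.node 1 (.leaf 328952) (.node 1 (.leaf 1725568) (.leaf 2230574)))) (.node 2 (.node 1 (.leaf 2543682) (.leaf 1891235)) (.node 1 (.leaf 2525827) (.node 1 (.leaf 2184465) (.leaf 2409439))))) (.node 5 (.node 2 (.node 1 (.leaf 1790557) (.leaf 2659003)) (.node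 1 (.leaf 2483475) (.node 1 (.leaf 603099) (.leaf 2614491)))) (.node 3 (.node 1 (.leaf 2417155) (.node 1 (.leaf 1139335) (.leaf 2598164))) (.node 1 (.leaf 2266299) (.node 1 (.leaf 2564639) (.leaf 2335444)))))))

def stabStepPart26 : Tbl ℕ :=
  (.node 21 (.node 10 (.node 5 (.node 2 (.node 1 (.leaf 142596) (.leaf 1862086)) (.node 1 (.leaf 2656478) (.node 1 (.leaf 2569111) (.leaf 1344645)))) (.node 2 (.node 1 (.leaf 949231) (.leaf 1350933)) (.node 1 (.leaf 2651408) (.node 1 (.leaf 2319605) (.leaf 2661616))))) (.node 5 (.node 2 (.node 1 (.leaf 1563926) (.leaf 1463127)) (.node 1 (.leaf 2669848) (.node 1 (.leaf 374041) (.leaf 2674822)))) (.node 3 (.node 1 (.leaf 1956575) (.node 1 (.leaf 2075495) (.leaf 1354634))) (.node 1 (.leaf 2677013) (.node 1 (.leaf 802076) (.leaf 2681013)))))) (.node 10 (.node 5 (.node 2 (.node 1 (.leaf 2684191) (.leaf 1758075)) (.node 1 (.leaf 2462771) (.node 1 (.leaf 1327634)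 (.leaf 2317298)))) (.node 2 (.node 1 (.leaf 2026784) (.leaf 778802)) (.node 1 (.leaf 2000161) (.node 1 (.leaf 2679436) (.leaf 2692387))))) (.node 5 (.node 2 (.node 1 (.leaf 1076084) (.leaf 2323680)) (.node 1 (.leaf 2696485) (.node 1 (.leaf 1248550) (.leaf 2126313)))) (.node 3 (.node 1 (.leaf 1256587) (.node 1 (.leaf 1913382) (.leaf 711453))) (.node 1 (.leaf 2628903) (.node 1 (.leaf 2011979) (.leaf 2685425)))))))

def stabStepPart27 : Tbl ℕ :=
  (.node 21 (.node 10 (.node 5 (.node 2 (.node 1 (.leaf 1061208) (.leaf 2006259)) (.node 1 (.leaf 2703656) (.node 1 (.leaf 693510) (.leaf 2253680)))) (.node 2 (.node 1 (.leaf 1373055) (.leaf 2706730)) (.node 1 (.leaf 2710678) (.node 1 (.leaf 1579605) (.leaf 2407596))))) (.node 5 (.node 2 (.node 1 (.leaf 1211315) (.leaf 852280)) (.node 1 (.leaf 2390439) (.node 1 (.leaf 2176199) (.leaf 1481912)))) (.node 3 (.node 1 (.leaf 2034822) (.node 1 (.leaf 280784)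 (.leaf 995899))) (.node 1 (.leaf 683244) (.node 1 (.leaf 179500) (.leaf 2551889)))))) (.node 10 (.node 5 (.node 2 (.node 1 (.leaf 2235666) (.leaf 1440367)) (.node 1 (.leaf 2349782) (.node 1 (.leaf 2714926) (.leaf 2178259)))) (.node 2 (.node 1 (.leaf 2602033) (.leaf 2208516)) (.node 1 (.leaf 2312800) (.node 1 (.leaf 2718941) (.leaf 1444628))))) (.node 5 (.node 2 (.node 1 (.leaf 2368565) (.leaf 1092803)) (.node 1 (.leaf 1442543) (.node 1 (.leaf 397571) (.leaf 940250)))) (.node 3 (.node 1 (.leaf 361739) (.node 1 (.leaf 440648) (.leaf 1072407))) (.node 1 (.leaf 1737823) (.node 1 (.leaf 1686832) (.leaf 174900)))))))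

def stabStepPart28 : Tbl ℕ :=
  (.node 21 (.node 10 (.node 5 (.node 2 (.node 1 (.leaf 2586783) (.leaf 2723098)) (.node 1 (.leaf 752333) (.node 1 (.leaf 828025) (.leaf 1454934)))) (.node 2 (.node 1 (.leaf 2362451) (.leaf 2632908)) (.node 1 (.leaf 2499227) (.node 1 (.leaf 1827447) (.leaf 2122858))))) (.node 5 (.node 2 (.node 1 (.leaf 2637993) (.leaf 2061546)) (.node 1 (.leaf 738610) (.node 1 (.leaf 1225361) (.leaf 2491658)))) (.node 3 (.node 1 (.leaf 2618166) (.node 1 (.leaf 696718) (.leaf 770818))) (.node 1 (.leaf 547174) (.node 1 (.leaf 2477363) (.leaf 2275548)))))) (.node 10 (.node 5 (.node 2 (.node 1 (.leaf 2136674) (.leaf 2540373)) (.node 1 (.leaf 1721541) (.node 1 (.leaf 1311081) (.leaf 2082906)))) (.node 2 (.node 1 (.leaf 2622772) (.leaf 1242408)) (.node 1 (.leaf 2731318) (.node 1 (.leaf 1171882) (.leaf 2510075))))) (.node 5 (.node 2 (.node 1 (.leaf 741805) (.leaf 2665017)) (.node 1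 (.leaf 2145521) (.node 1 (.leaf 2699691) (.leaf 978130)))) (.node 3 (.node 1 (.leaf 2702604) (.node 1 (.leaf 388365) (.leaf 2582848))) (.node 1 (.leaf 1299574) (.node 1 (.leaf 1781019) (.leaf 2433693)))))))

def stabStepPart29 : Tbl ℕ :=
  (.node 21 (.node 10 (.node 5 (.node 2 (.node 1 (.leaf 1149880) (.leaf 2712669)) (.node 1 (.leaf 2273628) (.node 1 (.leaf 1598114) (.leaf 425271)))) (.node 2 (.node 1 (.leaf 2726750) (.leaf 1386707)) (.node 1 (.leaf 195532) (.node 1 (.leaf 437329) (.leaf 2693446))))) (.node 5 (.node 2 (.node 1 (.leaf 2533770) (.leaf 210223)) (.node 1 (.leaf 2652256) (.node 1 (.leaf 1848137) (.leaf 298296)))) (.node 3 (.node 1 (.leaf 2094115) (.node 1 (.leaf 2258020) (.leaf 2663641))) (.node 1 (.leaf 2620041) (.node 1 (.leaf 1804597) (.leaf 2353764)))))) (.node 10 (.node 5 (.node 2 (.node 1 (.leaf 2729023) (.leaf 2558225)) (.node 1 (.leaf 1800304) (.node 1 (.leaf 1567293)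 (.leaf 1675400)))) (.node 2 (.node 1 (.leaf 2609838) (.leaf 2720239)) (.node 1 (.leaf 1741179) (.node 1 (.leaf 2301241) (.leaf 1952862))))) (.node 5 (.node 2 (.node 1 (.leaf 2513897) (.leaf 2221370)) (.node 1 (.leaf 1622279) (.node 1 (.leaf 1903931) (.leaf 2708333)))) (.node 3 (.node 1 (.leaf 2494938) (.node 1 (.leaf 1690470) (.leaf 219260))) (.node 1 (.leaf 2616370) (.node 1 (.leaf 2331647) (.leaf 1258656)))))))

def stabStepPart30 : Tbl ℕ :=
  (.node 21 (.node 10 (.node 5 (.node 2 (.node 1 (.leaf 1715485) (.leaf 2698394)) (.node 1 (.leaf 1875002) (.node 1 (.leaf 599287) (.leaf 392322)))) (.node 2 (.node 1 (.leaf 2071750) (.leaf 2403499)) (.node 1 (.leaf 2732142) (.node 1 (.leaf 2745268) (.leaf 2741192))))) (.node 5 (.node 2 (.node 1 (.leaf 1183037) (.leaf 2715787)) (.node 1 (.leaf 261429) (.node 1 (.leaf 1852348) (.leaf 2748695)))) (.node 3 (.node 1 (.leaf 470308) (.node 1 (.leaf 2593633)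 (.leaf 236494))) (.node 1 (.leaf 2395454) (.node 1 (.leaf 1858544) (.leaf 2724728)))))) (.node 10 (.node 5 (.node 2 (.node 1 (.leaf 2346303) (.leaf 1110821)) (.node 1 (.leaf 2445460) (.node 1 (.leaf 2398328) (.leaf 2747533)))) (.node 2 (.node 1 (.leaf 2118961) (.leaf 2374822)) (.node 1 (.leaf 2673476) (.node 1 (.leaf 2738632) (.leaf 2431939))))) (.node 5 (.node 2 (.node 1 (.leaf 2306809) (.leaf 1229280)) (.node 1 (.leaf 2046851) (.node 1 (.leaf 2608366) (.leaf 1934014)))) (.node 3 (.node 1 (.leaf 2624282) (.node 1 (.leaf 2440160) (.leaf 2104546))) (.node 1 (.leaf 1764112) (.node 1 (.leaf 1600615) (.leaf 1303450)))))))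

def stabStepPart31 : Tbl ℕ :=
  (.node 21 (.node 10 (.node 5 (.node 2 (.node 1 (.leaf 1176039) (.leaf 2687595)) (.node 1 (.leaf 1316139) (.node 1 (.leaf 2414820) (.leaf 495922)))) (.node 2 (.node 1 (.leaf 2671646) (.leaf 2016250)) (.node 1 (.leaf 431405) (.node 1 (.leaf 2522071) (.leaf 1613097))))) (.node 5 (.node 2 (.node 1 (.leaf 1420331) (.leaf 641527)) (.node 1 (.leaf 1084440) (.node 1 (.leaf 1153873) (.leaf 2554796)))) (.node 3 (.node 1 (.leaf 364750) (.node 1 (.leaf 1102900) (.leaf 1192607))) (.node 1 (.leaf 824005) (.node 1 (.leaf 2736536) (.leaf 2640389)))))) (.node 10 (.node 5 (.node 2 (.node 1 (.leaf 2636897) (.leaf 2578884)) (.node 1 (.leaf 2734838) (.node 1 (.leaf 2282013) (.leaf 2222522)))) (.node 2 (.node 1 (.leaf 2743586) (.leaf 2435422)) (.node 1 (.leaf 678346) (.node 1 (.leaf 1965044) (.leaf 2667434))))) (.node 5 (.node 2 (.node 1 (.leaf 2689199) (.leaf 2059550)) (.node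 1 (.leaf 2751804) (.node 1 (.leaf 1403607) (.leaf 1383630)))) (.node 3 (.node 1 (.leaf 1976887) (.node 1 (.leaf 577840) (.leaf 1603923))) (.node 1 (.leaf 2380585) (.node 1 (.leaf 1000188) (.leaf 944610)))))))

def stabStep : Tbl ℕ :=
  (.node 672 (.node 336 (.node 168 (.node 84 (.node 42 stabStepPart0 stabStepPart1) (.node 42 stabStepPart2 stabStepPart3)) (.node 84 (.node 42 stabStepPart4 stabStepPart5) (.node 42 stabStepPart6 stabStepPart7))) (.node 168 (.node 84 (.node 42 stabStepPart8 stabStepPart9) (.node 42 stabStepPart10 stabStepPart11)) (.node 84 (.node 42 stabStepPart12 stabStepPart13) (.node 42 stabStepPart14 stabStepPart15)))) (.node 336 (.node 168 (.node 84 (.node 42 stabStepPart16 stabStepPart17) (.node 42 stabStepPart18 stabStepPart19)) (.node 84 (.node 42 stabStepPart20 stabStepPart21) (.node 42 stabStepPart22 stabStepPart23))) (.node 168 (.node 84 (.node 42 stabStepPart24 stabStepPart25)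 (.node 42 stabStepPart26 stabStepPart27)) (.node 84 (.node 42 stabStepPart28 stabStepPart29) (.node 42 stabStepPart30 stabStepPart31)))))

def repListPart0 : Tbl (List ℕ) :=
  (.node 16 (.node 8 (.node 4 (.node 2 (.node 1 (.leaf [1, 2, 4, 8, 16, 32, 64, 128, 256, 512, 1024, 2048]) (.leaf [1038, 2071, 1573, 3830, 3007, 1005, 3567, 3917, 2641, 635, 1198, 2319])) (.node 1 (.leaf [3819, 2958, 983, 139, 278, 231, 46, 15, 21, 4, 3, 6]) (.leaf [3729, 732, 2558, 1305, 1980, 3918, 3348, 2974, 1405, 4039, 577, 2308]))) (.node 2 (.node 1 (.leaf [2172, 1707, 3342, 2004, 3427, 3678, 1411, 2502, 1863, 914, 1508, 2395]) (.leaf [623, 2321, 3484, 4031, 841, 2212, 1921, 3908, 646, 827, 2447, 3425])) (.node 1 (.leaf [853, 2202, 3323, 3237, 2802, 1515, 2474, 3411, 2719, 2294, 3565, 2642]) (.leaf [3709, 2467, 2729, 2573, 1587, 529, 1299, 3961, 2278, 1012, 3349, 1403])))) (.node 4 (.node 2 (.node 1 (.leaf [1138,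 2236, 1835, 234, 396, 467, 4004, 3035, 886, 1905, 3194, 3756]) (.leaf [3955, 687, 2257, 531, 2079, 3129, 1039, 1569, 3636, 1970, 3947, 663])) (.node 1 (.leaf [2708, 2045, 803, 444, 165, 491, 3669, 2491, 2721, 2375, 2756, 1605]) (.leaf [2631, 1281, 1924, 3159, 2841, 1468, 593, 2332, 3518, 3211, 2791, 1521]))) (.node 2 (.node 1 (.leaf [6, 2, 7, 62, 34, 47, 314, 359, 236, 1817, 846, 3314]) (.leaf [1887, 716, 3189, 271, 372, 213, 2524, 2829, 1907, 2946, 1671, 964])) (.node 1 (.leaf [2726, 799, 1269, 2846, 759, 1469, 423, 477, 369, 2819, 710, 1415]) (.leaf [3225, 3890, 2812, 3409, 3682, 2716, 2234, 1836, 3275, 701, 1321, 2250]))))) (.node 8 (.node 4 (.node 2 (.node 1 (.leaf [4066, 627, 2351, 2490, 3403, 2727, 2987, 1367, 1689, 2605, 1042, 1563]) (.leaf [3700, 814, 2453, 2588, 1086, 1549, 454, 69, 258, 3097, 2620, 1038])) (.node 1 (.leaf [2679, 1940, 701, 3047, 1836, 861, 2372, 2757, 1603, 3746,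 2543, 2844]) (.leaf [2026, 799, 3404, 1778, 599, 3516, 2951, 1668, 965, 2422, 2770, 1663]))) (.node 2 (.node 1 (.leaf [3219, 3878, 2783, 1075, 2110, 1583, 70, 135, 261, 564, 1083, 2094]) (.leaf [694, 2285, 3538, 1358, 1701, 3826, 1557, 3610, 571, 2516, 3166, 2877])) (.node 1 (.leaf [3425, 3674, 2740, 489, 330, 84, 2706, 804, 1243, 3597, 2577, 546]) (.leaf [1854, 866, 3311, 1542, 514, 3079, 1370, 3791, 2164, 2697, 2038, 786])))) (.node 4 (.node 2 (.node 1 (.leaf [2993, 1388, 1686, 3257, 2764, 1510, 3620, 566, 2093, 3023, 1121, 1844]) (.leaf [2277, 1945, 3570, 981, 1377, 2138, 1641, 3210, 3860, 543, 1077, 2105])) (.node 1 (.leaf [3981, 866, 2227, 3901, 906, 2403, 3858, 923, 2431, 4006, 885, 2218]) (.leaf [1825, 4020, 878, 2473, 3412, 2718, 2428, 3214, 2789, 615, 2353, 3500]))) (.node 2 (.node 1 (.leaf [1986, 3651, 775, 1498, 1659, 3855, 3547, 2687, 1289, 1381, 1714, 3819]) (.leaf [2179, 3009,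 1798, 2723, 2025, 798, 2081, 2606, 1562, 3149, 1459, 3729])) (.node 1 (.leaf [1804, 3283, 4006, 2788, 923, 1526, 3003, 1006, 1359, 3722, 2836, 739]) (.leaf [3729, 2558, 2850, 1305, 3918, 2290, 1590, 530, 3135, 3787, 2161, 2966]))))))

def repListPart1 : Tbl (List ℕ) :=
  (.node 16 (.node 8 (.node 4 (.node 2 (.node 1 (.leaf [1018, 1388, 2123, 2082, 1564, 3123, 2868, 763, 1454, 3225, 3890, 2812]) (.leaf [1063, 1585, 3628, 1783, 4073, 596, 929, 2420, 3246, 3651, 775, 2433])) (.node 1 (.leaf [2123, 3367, 2993, 2027, 3671, 793, 2887, 1153, 1732, 2794, 1491, 1631]) (.leaf [1605, 3842, 899, 2165, 3370, 2963, 498, 107, 279, 3358, 3005, 1354]))) (.node 2 (.node 1 (.leaf [3515, 1185, 4078, 1371, 3785, 2166, 3969, 2182, 3010, 3869, 2379, 2801]) (.leaf [2985, 970, 1364, 3937, 2650, 692, 3394, 3652, 2691, 3045, 857, 1138])) (.node 1 (.leaf [2045, 3658, 803, 2957, 1378, 1715, 2810, 1483, 1639, 3910, 645,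 2242]) (.leaf [2895, 1185, 1780, 3679, 825, 2444, 1265, 2028, 3670, 627, 2351, 3473])))) (.node 4 (.node 2 (.node 1 (.leaf [3973, 834, 2179, 1973, 3946, 659, 2994, 1387, 1687, 2014, 3709, 778]) (.leaf [645, 3523, 1281, 2229, 3027, 1849, 1843, 849, 3326, 3940, 2285, 2651])) (.node 1 (.leaf [585, 2340, 3510, 513, 2052, 3078, 2860, 1430, 1885, 3799, 985, 2172]) (.leaf [2330, 2895, 1780, 3714, 2503, 2820, 1879, 764, 3173, 2942, 1762, 623]))) (.node 2 (.node 1 (.leaf [4066, 2908, 627, 2490, 2028, 3403, 644, 1283, 2246, 761, 1450, 2508]) (.leaf [3211, 2791, 1521, 2859, 1431, 1881, 1159, 1729, 4036, 1130, 1811, 3999])) (.node 1 (.leaf [3433, 3658, 2708, 4001, 3034, 884, 1730, 3460, 4035, 2277, 1945, 3570]) (.leaf [914, 2395, 3263, 3914, 675, 2295, 2051, 3079, 2561, 3981, 866, 2227]))))) (.node 8 (.node 4 (.node 2 (.node 1 (.leaf [3358, 3005, 1354, 2470, 3445, 2730, 2565, 1026, 1539, 2340, 3510,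 2925]) (.leaf [932, 3245, 1499, 3276, 1141, 3987, 1861, 707, 3137, 2895, 1780, 597])) (.node 1 (.leaf [2708, 1246, 2045, 444, 334, 165, 3446, 2733, 1234, 3921, 668, 2302]) (.leaf [2094, 2586, 1551, 3414, 1274, 3687, 610, 3503, 1180, 3769, 2534, 2858]))) (.node 2 (.node 1 (.leaf [3716, 2501, 2819, 172, 477, 267, 1901, 731, 3145, 3383, 1364, 3837]) (.leaf [1671, 3333, 3777, 2711, 805, 1241, 85, 161, 282, 822, 1279, 2477])) (.node 1 (.leaf [3878, 2410, 2783, 158, 458, 311, 1490, 3903, 2404, 2017, 814, 3418]) (.leaf [710, 2501, 3138, 3838, 973, 2146, 1277, 1994, 3683, 4020, 878, 2197])))) (.node 4 (.node 2 (.node 1 (.leaf [964, 3333, 1347, 3052, 1821, 843, 1453, 3739, 2505, 2615, 1556, 573]) (.leaf [878, 3290, 1103, 1046, 3642, 2087, 1698, 1007, 3356, 2489, 2726, 2026])) (.node 1 (.leaf [1343, 3940, 2285, 4015, 2204, 3021, 3764, 2517, 2875, 1018, 3367, 1388]) (.leaf [2277, 2667, 1945, 981, 3387,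 1377, 2971, 1673, 1014, 3548, 1293, 3955]))) (.node 2 (.node 1 (.leaf [2946, 964, 1347, 410, 500, 379, 2140, 1715, 3390, 3433, 3658, 2708]) (.leaf [2058, 3107, 2615, 1874, 3739, 767, 1275, 1999, 3681, 605, 2362, 3467])) (.node 1 (.leaf [1042, 3647, 2084, 714, 3191, 1428, 1383, 3820, 2141, 3878, 2410, 2783]) (.node 1 (.leaf [2038, 3455, 3693, 526, 1047, 2085, 391, 453, 321, 2571, 534, 1063]) (.leaf [1585, 3130, 3628, 3385, 3818, 2956, 2930, 636, 1195, 3973, 3009, 834])))))))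

def repList : Tbl (List ℕ) :=
  (.node 32 repListPart0 repListPart1)

def repTreePart0 : Tbl ℕ :=
  (.node 16 (.node 8 (.node 4 (.node 2 (.node 1 (.leaf 4096) (.leaf 4097)) (.node 1 (.leaf 1) (.leaf 2049))) (.node 2 (.node 1 (.leaf 2) (.leaf 2050)) (.node 1 (.leaf 3) (.leaf 2051)))) (.node 4 (.node 2 (.node 1 (.leaf 4) (.leaf 2052)) (.node 1 (.leaf 2053) (.leaf 6))) (.node 2 (.node 1 (.leaf 2054) (.leaf 7)) (.node 1 (.leaf 2055) (.leaf 8))))) (.node 8 (.node 4 (.node 2 (.node 1 (.leaf 2056) (.leaf 9)) (.node 1 (.leaf 2057) (.leaf 10))) (.node 2 (.node 1 (.leaf 2058) (.leaf 11)) (.node 1 (.leaf 2060) (.leaf 13)))) (.node 4 (.node 2 (.node 1 (.leaf 2062) (.leaf 15)) (.node 1 (.leaf 2063) (.leaf 16))) (.node 2 (.node 1 (.leaf 17) (.leaf 2065)) (.node 1 (.leaf 2066) (.leaf 19))))))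

def repTreePart1 : Tbl ℕ :=
  (.node 16 (.node 8 (.node 4 (.node 2 (.node 1 (.leaf 2067) (.leaf 2068)) (.node 1 (.leaf 21) (.leaf 2070))) (.node 2 (.node 1 (.leaf 23) (.leaf 2071)) (.node 1 (.leaf 24) (.leaf 26)))) (.node 4 (.node 2 (.node 1 (.leaf 27) (.leaf 2075)) (.node 1 (.leaf 28) (.leaf 2076))) (.node 2 (.node 1 (.leaf 30) (.leaf 2078)) (.node 1 (.leaf 32) (.leaf 2080))))) (.node 8 (.node 4 (.node 2 (.node 1 (.leaf 33) (.leaf 2081)) (.node 1 (.leaf 34) (.leaf 2083))) (.node 2 (.node 1 (.leaf 36) (.leaf 2084)) (.node 1 (.leaf 2086) (.leaf 39)))) (.node 4 (.node 2 (.node 1 (.leaf 2087) (.leaf 2088)) (.node 1 (.leaf 41) (.leaf 2090))) (.node 2 (.node 1 (.leaf 2091) (.leaf 2092)) (.node 1 (.leaf 52) (.node 1 (.leaf 53) (.leaf 2102)))))))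

def repTree : Tbl ℕ :=
  (.node 32 repTreePart0 repTreePart1)

def repStepXPart0 : Tbl ℕ :=
  (.node 16 (.node 8 (.node 4 (.node 2 (.node 1 (.leaf 2048) (.leaf 30770)) (.node 1 (.leaf 34999) (.leaf 14936))) (.node 2 (.node 1 (.leaf 111125) (.leaf 18765)) (.node 1 (.leaf 102788) (.leaf 108719)))) (.node 4 (.node 2 (.node 1 (.leaf 107526) (.leaf 69718)) (.node 1 (.leaf 89301) (.leaf 4740))) (.node 2 (.node 1 (.leaf 78803) (.leaf 39390)) (.node 1 (.leaf 57500) (.leaf 117400))))) (.node 8 (.node 4 (.node 2 (.node 1 (.leaf 131136) (.leaf 92472)) (.node 1 (.leaf 99053) (.leaf 121685))) (.node 2 (.node 1 (.leaf 51778) (.leaf 91442)) (.node 1 (.leaf 68657) (.leaf 27146)))) (.node 4 (.node 2 (.node 1 (.leaf 37356) (.leaf 86661)) (.node 1 (.leaf 24799) (.leaf 20761))) (.node 2 (.node 1 (.leaf 17602) (.leaf 128089)) (.node 1 (.leaf 8517) (.leaf 77078))))))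

def repStepXPart1 : Tbl ℕ :=
  (.node 16 (.node 8 (.node 4 (.node 2 (.node 1 (.leaf 65605) (.leaf 129611)) (.node 1 (.leaf 113868) (.leaf 23614))) (.node 2 (.node 1 (.leaf 43120) (.leaf 6530)) (.node 1 (.leaf 74353) (.leaf 54032)))) (.node 4 (.node 2 (.node 1 (.leaf 64454) (.leaf 56431)) (.node 1 (.leaf 49962) (.leaf 96985))) (.node 2 (.node 1 (.leaf 81138) (.leaf 60028)) (.node 1 (.leaf 94407) (.leaf 33195))))) (.node 8 (.node 4 (.node 2 (.node 1 (.leaf 119179) (.leaf 555)) (.node 1 (.leaf 11121) (.leaf 115713))) (.node 2 (.node 1 (.leaf 62355) (.leaf 123604)) (.node 1 (.leaf 29226) (.leaf 125497)))) (.node 4 (.node 2 (.node 1 (.leaf 101162) (.leaf 105639)) (.node 1 (.leaf 40981) (.leaf 45794))) (.node 2 (.node 1 (.leaf 81988) (.leaf 12450)) (.node 1 (.leaf 72078) (.node 1 (.leaf 48008) (.leaf 84680)))))))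

def repStepX : Tbl ℕ :=
  (.node 32 repStepXPart0 repStepXPart1)

def repStepYPart0 : Tbl ℕ :=
  (.node 16 (.node 8 (.node 4 (.node 2 (.node 1 (.leaf 57431) (.leaf 50217)) (.node 1 (.leaf 338) (.leaf 101415))) (.node 2 (.node 1 (.leaf 88913) (.leaf 55836)) (.node 1 (.leaf 128047) (.leaf 115536)))) (.node 4 (.node 2 (.node 1 (.leaf 7486) (.leaf 105160)) (.node 1 (.leaf 80910) (.leaf 59556))) (.node 2 (.node 1 (.leaf 47753) (.leaf 122912)) (.node 1 (.leaf 27066) (.leaf 90595))))) (.node 8 (.node 4 (.node 2 (.node 1 (.leaf 86823) (.leaf 35917)) (.node 1 (.leaf 67812) (.leaf 37639))) (.node 2 (.node 1 (.leaf 24720) (.leaf 21236)) (.node 1 (.leaf 95007) (.leaf 16907)))) (.node 4 (.node 2 (.node 1 (.leaf 84850) (.leaf 76182)) (.node 1 (.leaf 98612) (.leaf 10558))) (.node 2 (.node 1 (.leaf 72215) (.leaf 131385)) (.node 1 (.leaf 77847) (.leaf 82470))))))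

def repStepYPart1 : Tbl ℕ :=
  (.node 16 (.node 8 (.node 4 (.node 2 (.node 1 (.leaf 97085) (.leaf 22696)) (.node 1 (.leaf 45777) (.leaf 31640))) (.node 2 (.node 1 (.leaf 103641) (.leaf 33691)) (.node 1 (.leaf 51982) (.leaf 111493)))) (.node 4 (.node 2 (.node 1 (.leaf 63740) (.leaf 93247)) (.node 1 (.leaf 61945) (.leaf 15384))) (.node 2 (.node 1 (.leaf 4109) (.leaf 109785)) (.node 1 (.leaf 117754) (.leaf 9429))))) (.node 8 (.node 4 (.node 2 (.node 1 (.leaf 113372) (.leaf 41893)) (.node 1 (.leaf 70387) (.leaf 28913))) (.node 2 (.node 1 (.leaf 43199) (.leaf 125273)) (.node 1 (.leaf 118839) (.leaf 12868)))) (.node 4 (.node 2 (.node 1 (.leaf 66157) (.leaf 74576)) (.node 1 (.leaf 107736) (.leaf 53616))) (.node 2 (.node 1 (.leaf 129851) (.leaf 3158)) (.node 1 (.leaf 122029) (.node 1 (.leaf 18788) (.leaf 39863)))))))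

def repStepY : Tbl ℕ :=
  (.node 32 repStepYPart0 repStepYPart1)

def classList0Part0 : Tbl ℕ :=
  (.node 21 (.node 10 (.node 5 (.node 2 (.node 1 (.leaf 0) (.leaf 2)) (.node 1 (.leaf 0) (.node 1 (.leaf 2) (.leaf 0)))) (.node 2 (.node 1 (.leaf 0) (.leaf 0)) (.node 1 (.leaf 2) (.node 1 (.leaf 0) (.leaf 0))))) (.node 5 (.node 2 (.node 1 (.leaf 0) (.leaf 0)) (.node 1 (.leaf 0) (.node 1 (.leaf 0) (.leaf 0)))) (.node 3 (.node 1 (.leaf 2) (.node 1 (.leaf 0) (.leaf 0))) (.node 1 (.leaf 0) (.node 1 (.leaf 0) (.leaf 0)))))) (.node 10 (.node 5 (.node 2 (.node 1 (.leaf 0) (.leaf 2)) (.node 1 (.leaf 0) (.node 1 (.leaf 0) (.leaf 0)))) (.node 2 (.node 1 (.leaf 2) (.leaf 0)) (.node 1 (.leaf 2) (.node 1 (.leaf 2) (.leaf 0))))) (.node 5 (.node 2 (.node 1 (.leaf 2) (.leaf 0)) (.node 1 (.leaf 0) (.node 1 (.leaf 0) (.leaf 0)))) (.node 3 (.node 1 (.leaf 0) (.node 1 (.leaf 0) (.leaf 2))) (.node 1 (.leaf 0) (.node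 1 (.leaf 0) (.leaf 0)))))))

def classList0Part1 : Tbl ℕ :=
  (.node 21 (.node 10 (.node 5 (.node 2 (.node 1 (.leaf 2) (.leaf 0)) (.node 1 (.leaf 2) (.node 1 (.leaf 2) (.leaf 0)))) (.node 2 (.node 1 (.leaf 0) (.leaf 0)) (.node 1 (.leaf 0) (.node 1 (.leaf 2) (.leaf 0))))) (.node 5 (.node 2 (.node 1 (.leaf 2) (.leaf 2)) (.node 1 (.leaf 0) (.node 1 (.leaf 0) (.leaf 2)))) (.node 3 (.node 1 (.leaf 2) (.node 1 (.leaf 0) (.leaf 2))) (.node 1 (.leaf 0) (.node 1 (.leaf 0) (.leaf 0)))))) (.node 10 (.node 5 (.node 2 (.node 1 (.leaf 0) (.leaf 0)) (.node 1 (.leaf 0) (.node 1 (.leaf 0) (.leaf 0)))) (.node 2 (.node 1 (.leaf 0) (.leaf 2)) (.node 1 (.leaf 0) (.node 1 (.leaf 0) (.leaf 0))))) (.node 5 (.node 2 (.node 1 (.leaf 2) (.leaf 0)) (.node 1 (.leaf 2) (.node 1 (.leaf 2) (.leaf 0)))) (.node 3 (.node 1 (.leaf 0) (.node 1 (.leaf 0) (.leaf 2))) (.node 1 (.leaf 0) (.node 1 (.leaf 2) (.leaf 0)))))))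

def classList0Part2 : Tbl ℕ :=
  (.node 21 (.node 10 (.node 5 (.node 2 (.node 1 (.leaf 0) (.leaf 2)) (.node 1 (.leaf 2) (.node 1 (.leaf 0) (.leaf 2)))) (.node 2 (.node 1 (.leaf 0) (.leaf 0)) (.node 1 (.leaf 0) (.node 1 (.leaf 0) (.leaf 0))))) (.node 5 (.node 2 (.node 1 (.leaf 0) (.leaf 2)) (.node 1 (.leaf 0) (.node 1 (.leaf 2) (.leaf 2)))) (.node 3 (.node 1 (.leaf 0) (.node 1 (.leaf 0) (.leaf 2))) (.node 1 (.leaf 0) (.node 1 (.leaf 2) (.leaf 0)))))) (.node 10 (.node 5 (.node 2 (.node 1 (.leaf 0) (.leaf 0)) (.node 1 (.leaf 2) (.node 1 (.leaf 2) (.leaf 0)))) (.node 2 (.node 1 (.leaf 2) (.leaf 0)) (.node 1 (.leaf 0) (.node 1 (.leaf 0) (.leaf 2))))) (.node 5 (.node 2 (.node 1 (.leaf 0) (.leaf 0)) (.node 1 (.leaf 0) (.node 1 (.leaf 0) (.leaf 0)))) (.node 3 (.node 1 (.leaf 0) (.node 1 (.leaf 0) (.leaf 0))) (.node 1 (.leaf 0) (.node 1 (.leaf 0) (.leaf 0)))))))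

def classList0Part3 : Tbl ℕ :=
  (.node 21 (.node 10 (.node 5 (.node 2 (.node 1 (.leaf 0) (.leaf 2)) (.node 1 (.leaf 0) (.node 1 (.leaf 0) (.leaf 0)))) (.node 2 (.node 1 (.leaf 0) (.leaf 0)) (.node 1 (.leaf 2) (.node 1 (.leaf 2) (.leaf 0))))) (.node 5 (.node 2 (.node 1 (.leaf 0) (.leaf 0)) (.node 1 (.leaf 2) (.node 1 (.leaf 0) (.leaf 0)))) (.node 3 (.node 1 (.leaf 0) (.node 1 (.leaf 0) (.leaf 2))) (.node 1 (.leaf 2) (.node 1 (.leaf 0) (.leaf 2)))))) (.node 10 (.node 5 (.node 2 (.node 1 (.leaf 0) (.leaf 0)) (.node 1 (.leaf 0) (.node 1 (.leaf 0) (.leaf 0)))) (.node 2 (.node 1 (.leaf 0) (.leaf 2)) (.node 1 (.leaf 2) (.node 1 (.leaf 0) (.leaf 0))))) (.node 5 (.node 2 (.node 1 (.leaf 2) (.leaf 0)) (.node 1 (.leaf 0) (.node 1 (.leaf 0) (.leaf 0)))) (.node 3 (.node 1 (.leaf 0) (.node 1 (.leaf 2) (.leaf 0))) (.node 1 (.leaf 2) (.node 1 (.leaf 0) (.leaf 0)))))))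

def classList0Part4 : Tbl ℕ :=
  (.node 21 (.node 10 (.node 5 (.node 2 (.node 1 (.leaf 0) (.leaf 2)) (.node 1 (.leaf 0) (.node 1 (.leaf 0) (.leaf 0)))) (.node 2 (.node 1 (.leaf 0) (.leaf 0)) (.node 1 (.leaf 0) (.node 1 (.leaf 2) (.leaf 0))))) (.node 5 (.node 2 (.node 1 (.leaf 2) (.leaf 0)) (.node 1 (.leaf 0) (.node 1 (.leaf 2) (.leaf 0)))) (.node 3 (.node 1 (.leaf 0) (.node 1 (.leaf 2) (.leaf 0))) (.node 1 (.leaf 2) (.node 1 (.leaf 0) (.leaf 0)))))) (.node 10 (.node 5 (.node 2 (.node 1 (.leaf 0) (.leaf 0)) (.node 1 (.leaf 2) (.node 1 (.leaf 0) (.leaf 0)))) (.node 2 (.node 1 (.leaf 0) (.leaf 0)) (.node 1 (.leaf 0) (.node 1 (.leaf 0) (.leaf 0))))) (.node 5 (.node 2 (.node 1 (.leaf 2) (.leaf 0)) (.node 1 (.leaf 2) (.node 1 (.leaf 0) (.leaf 0)))) (.node 3 (.node 1 (.leaf 2) (.node 1 (.leaf 0) (.leaf 0))) (.node 1 (.leaf 0) (.node 1 (.leaf 2) (.leaf 0)))))))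

def classList0Part5 : Tbl ℕ :=
  (.node 21 (.node 10 (.node 5 (.node 2 (.node 1 (.leaf 0) (.leaf 0)) (.node 1 (.leaf 0) (.node 1 (.leaf 2) (.leaf 2)))) (.node 2 (.node 1 (.leaf 0) (.leaf 0)) (.node 1 (.leaf 0) (.node 1 (.leaf 0) (.leaf 0))))) (.node 5 (.node 2 (.node 1 (.leaf 0) (.leaf 2)) (.node 1 (.leaf 0) (.node 1 (.leaf 0) (.leaf 0)))) (.node 3 (.node 1 (.leaf 2) (.node 1 (.leaf 0) (.leaf 2))) (.node 1 (.leaf 2) (.node 1 (.leaf 0) (.leaf 0)))))) (.node 10 (.node 5 (.node 2 (.node 1 (.leaf 0) (.leaf 0)) (.node 1 (.leaf 2) (.node 1 (.leaf 0) (.leaf 0)))) (.node 2 (.node 1 (.leaf 0) (.leaf 2)) (.node 1 (.leaf 0) (.node 1 (.leaf 2) (.leaf 2))))) (.node 5 (.node 2 (.node 1 (.leaf 0) (.leaf 0)) (.node 1 (.leaf 2) (.node 1 (.leaf 0) (.leaf 2)))) (.node 3 (.node 1 (.leaf 0) (.node 1 (.leaf 0) (.leaf 0))) (.node 1 (.leaf 2) (.node 1 (.leaf 0) (.leaf 2)))))))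

def classList0Part6 : Tbl ℕ :=
  (.node 21 (.node 10 (.node 5 (.node 2 (.node 1 (.leaf 0) (.leaf 0)) (.node 1 (.leaf 0) (.node 1 (.leaf 0) (.leaf 0)))) (.node 2 (.node 1 (.leaf 0) (.leaf 0)) (.node 1 (.leaf 2) (.node 1 (.leaf 0) (.leaf 0))))) (.node 5 (.node 2 (.node 1 (.leaf 2) (.leaf 2)) (.node 1 (.leaf 0) (.node 1 (.leaf 0) (.leaf 0)))) (.node 3 (.node 1 (.leaf 2) (.node 1 (.leaf 0) (.leaf 0))) (.node 1 (.leaf 2) (.node 1 (.leaf 0) (.leaf 0)))))) (.node 10 (.node 5 (.node 2 (.node 1 (.leaf 2) (.leaf 0)) (.node 1 (.leaf 0) (.node 1 (.leaf 0) (.leaf 0)))) (.node 2 (.node 1 (.leaf 0) (.leaf 0)) (.node 1 (.leaf 2) (.node 1 (.leaf 0) (.leaf 2))))) (.node 5 (.node 2 (.node 1 (.leaf 0) (.leaf 2)) (.node 1 (.leaf 0) (.node 1 (.leaf 0) (.leaf 2)))) (.node 3 (.node 1 (.leaf 0) (.node 1 (.leaf 0) (.leaf 0))) (.node 1 (.leaf 0) (.node 1 (.leaf 2) (.leaf 0)))))))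

def classList0Part7 : Tbl ℕ :=
  (.node 21 (.node 10 (.node 5 (.node 2 (.node 1 (.leaf 0) (.leaf 0)) (.node 1 (.leaf 0) (.node 1 (.leaf 2) (.leaf 0)))) (.node 2 (.node 1 (.leaf 2) (.leaf 2)) (.node 1 (.leaf 0) (.node 1 (.leaf 0) (.leaf 0))))) (.node 5 (.node 2 (.node 1 (.leaf 0) (.leaf 0)) (.node 1 (.leaf 2) (.node 1 (.leaf 0) (.leaf 0)))) (.node 3 (.node 1 (.leaf 0) (.node 1 (.leaf 0) (.leaf 2))) (.node 1 (.leaf 2) (.node 1 (.leaf 0) (.leaf 0)))))) (.node 10 (.node 5 (.node 2 (.node 1 (.leaf 0) (.leaf 0)) (.node 1 (.leaf 0) (.node 1 (.leaf 0) (.leaf 2)))) (.node 2 (.node 1 (.leaf 0) (.leaf 0)) (.node 1 (.leaf 0) (.node 1 (.leaf 2) (.leaf 0))))) (.node 5 (.node 2 (.node 1 (.leaf 2) (.leaf 2)) (.node 1 (.leaf 0) (.node 1 (.leaf 0) (.leaf 2)))) (.node 3 (.node 1 (.leaf 2) (.node 1 (.leaf 0) (.leaf 0))) (.node 1 (.leaf 2) (.node 1 (.leaf 2) (.leaf 0)))))))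

def classList0Part8 : Tbl ℕ :=
  (.node 21 (.node 10 (.node 5 (.node 2 (.node 1 (.leaf 0) (.leaf 0)) (.node 1 (.leaf 0) (.node 1 (.leaf 0) (.leaf 0)))) (.node 2 (.node 1 (.leaf 2) (.leaf 0)) (.node 1 (.leaf 0) (.node 1 (.leaf 2) (.leaf 0))))) (.node 5 (.node 2 (.node 1 (.leaf 0) (.leaf 0)) (.node 1 (.leaf 0) (.node 1 (.leaf 0) (.leaf 0)))) (.node 3 (.node 1 (.leaf 2) (.node 1 (.leaf 0) (.leaf 2))) (.node 1 (.leaf 2) (.node 1 (.leaf 0) (.leaf 0)))))) (.node 10 (.node 5 (.node 2 (.node 1 (.leaf 0) (.leaf 0)) (.node 1 (.leaf 0) (.node 1 (.leaf 2) (.leaf 2)))) (.node 2 (.node 1 (.leaf 0) (.leaf 0)) (.node 1 (.leaf 0) (.node 1 (.leaf 2) (.leaf 2))))) (.node 5 (.node 2 (.node 1 (.leaf 0) (.leaf 2)) (.node 1 (.leaf 0) (.node 1 (.leaf 2) (.leaf 0)))) (.node 3 (.node 1 (.leaf 0) (.node 1 (.leaf 0) (.leaf 0))) (.node 1 (.leaf 0) (.node 1 (.leaf 0) (.leaf 0)))))))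

def classList0Part9 : Tbl ℕ :=
  (.node 21 (.node 10 (.node 5 (.node 2 (.node 1 (.leaf 0) (.leaf 0)) (.node 1 (.leaf 2) (.node 1 (.leaf 2) (.leaf 0)))) (.node 2 (.node 1 (.leaf 0) (.leaf 2)) (.node 1 (.leaf 0) (.node 1 (.leaf 0) (.leaf 0))))) (.node 5 (.node 2 (.node 1 (.leaf 2) (.leaf 0)) (.node 1 (.leaf 2) (.node 1 (.leaf 0) (.leaf 0)))) (.node 3 (.node 1 (.leaf 0) (.node 1 (.leaf 0) (.leaf 0))) (.node 1 (.leaf 0) (.node 1 (.leaf 2) (.leaf 0)))))) (.node 10 (.node 5 (.node 2 (.node 1 (.leaf 0) (.leaf 2)) (.node 1 (.leaf 2) (.node 1 (.leaf 0) (.leaf 0)))) (.node 2 (.node 1 (.leaf 0) (.leaf 0)) (.node 1 (.leaf 0) (.node 1 (.leaf 2) (.leaf 2))))) (.node 5 (.node 2 (.node 1 (.leaf 0) (.leaf 2)) (.node 1 (.leaf 2) (.node 1 (.leaf 0) (.leaf 2)))) (.node 3 (.node 1 (.leaf 0) (.node 1 (.leaf 0) (.leaf 0))) (.node 1 (.leaf 0) (.node 1 (.leaf 0) (.leaf 0)))))))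

def classList0Part10 : Tbl ℕ :=
  (.node 21 (.node 10 (.node 5 (.node 2 (.node 1 (.leaf 2) (.leaf 0)) (.node 1 (.leaf 0) (.node 1 (.leaf 2) (.leaf 0)))) (.node 2 (.node 1 (.leaf 2) (.leaf 0)) (.node 1 (.leaf 2) (.node 1 (.leaf 0) (.leaf 0))))) (.node 5 (.node 2 (.node 1 (.leaf 2) (.leaf 0)) (.node 1 (.leaf 0) (.node 1 (.leaf 2) (.leaf 0)))) (.node 3 (.node 1 (.leaf 0) (.node 1 (.leaf 0) (.leaf 0))) (.node 1 (.leaf 2) (.node 1 (.leaf 0) (.leaf 0)))))) (.node 10 (.node 5 (.node 2 (.node 1 (.leaf 2) (.leaf 2)) (.node 1 (.leaf 0) (.node 1 (.leaf 0) (.leaf 0)))) (.node 2 (.node 1 (.leaf 2) (.leaf 2)) (.node 1 (.leaf 0) (.node 1 (.leaf 0) (.leaf 0))))) (.node 5 (.node 2 (.node 1 (.leaf 0) (.leaf 2)) (.node 1 (.leaf 0) (.node 1 (.leaf 0) (.leaf 0)))) (.node 3 (.node 1 (.leaf 0) (.node 1 (.leaf 0) (.leaf 0))) (.node 1 (.leaf 2) (.node 1 (.leaf 0) (.leaf 2)))))))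

def classList0Part11 : Tbl ℕ :=
  (.node 21 (.node 10 (.node 5 (.node 2 (.node 1 (.leaf 0) (.leaf 2)) (.node 1 (.leaf 2) (.node 1 (.leaf 0) (.leaf 2)))) (.node 2 (.node 1 (.leaf 0) (.leaf 0)) (.node 1 (.leaf 0) (.node 1 (.leaf 0) (.leaf 2))))) (.node 5 (.node 2 (.node 1 (.leaf 0) (.leaf 0)) (.node 1 (.leaf 0) (.node 1 (.leaf 2) (.leaf 0)))) (.node 3 (.node 1 (.leaf 2) (.node 1 (.leaf 2) (.leaf 0))) (.node 1 (.leaf 2) (.node 1 (.leaf 0) (.leaf 0)))))) (.node 10 (.node 5 (.node 2 (.node 1 (.leaf 0) (.leaf 0)) (.node 1 (.leaf 0) (.node 1 (.leaf 0) (.leaf 2)))) (.node 2 (.node 1 (.leaf 0) (.leaf 0)) (.node 1 (.leaf 0) (.node 1 (.leaf 0) (.leaf 0))))) (.node 5 (.node 2 (.node 1 (.leaf 0) (.leaf 2)) (.node 1 (.leaf 0) (.node 1 (.leaf 0) (.leaf 0)))) (.node 3 (.node 1 (.leaf 2) (.node 1 (.leaf 0) (.leaf 2))) (.node 1 (.leaf 2) (.node 1 (.leaf 0) (.leaf 0)))))))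

def classList0Part12 : Tbl ℕ :=
  (.node 21 (.node 10 (.node 5 (.node 2 (.node 1 (.leaf 2) (.leaf 2)) (.node 1 (.leaf 0) (.node 1 (.leaf 0) (.leaf 2)))) (.node 2 (.node 1 (.leaf 2) (.leaf 0)) (.node 1 (.leaf 0) (.node 1 (.leaf 0) (.leaf 2))))) (.node 5 (.node 2 (.node 1 (.leaf 0) (.leaf 0)) (.node 1 (.leaf 0) (.node 1 (.leaf 0) (.leaf 0)))) (.node 3 (.node 1 (.leaf 0) (.node 1 (.leaf 0) (.leaf 2))) (.node 1 (.leaf 2) (.node 1 (.leaf 0) (.leaf 0)))))) (.node 10 (.node 5 (.node 2 (.node 1 (.leaf 0) (.leaf 0)) (.node 1 (.leaf 0) (.node 1 (.leaf 2) (.leaf 0)))) (.node 2 (.node 1 (.leaf 2) (.leaf 0)) (.node 1 (.leaf 2) (.node 1 (.leaf 0) (.leaf 0))))) (.node 5 (.node 2 (.node 1 (.leaf 0) (.leaf 2)) (.node 1 (.leaf 0) (.node 1 (.leaf 0) (.leaf 0)))) (.node 3 (.node 1 (.leaf 0) (.node 1 (.leaf 0) (.leaf 2))) (.node 1 (.leaf 0) (.node 1 (.leaf 0) (.leaf 0)))))))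

def classList0Part13 : Tbl ℕ :=
  (.node 21 (.node 10 (.node 5 (.node 2 (.node 1 (.leaf 2) (.leaf 0)) (.node 1 (.leaf 0) (.node 1 (.leaf 0) (.leaf 2)))) (.node 2 (.node 1 (.leaf 0) (.leaf 2)) (.node 1 (.leaf 0) (.node 1 (.leaf 0) (.leaf 0))))) (.node 5 (.node 2 (.node 1 (.leaf 2) (.leaf 0)) (.node 1 (.leaf 0) (.node 1 (.leaf 2) (.leaf 2)))) (.node 3 (.node 1 (.leaf 0) (.node 1 (.leaf 0) (.leaf 0))) (.node 1 (.leaf 0) (.node 1 (.leaf 0) (.leaf 0)))))) (.node 10 (.node 5 (.node 2 (.node 1 (.leaf 2) (.leaf 2)) (.node 1 (.leaf 2) (.node 1 (.leaf 0) (.leaf 2)))) (.node 2 (.node 1 (.leaf 0) (.leaf 0)) (.node 1 (.leaf 0) (.node 1 (.leaf 0) (.leaf 2))))) (.node 5 (.node 2 (.node 1 (.leaf 0) (.leaf 2)) (.node 1 (.leaf 0) (.node 1 (.leaf 0) (.leaf 2)))) (.node 3 (.node 1 (.leaf 0) (.node 1 (.leaf 2) (.leaf 0))) (.node 1 (.leaf 0) (.node 1 (.leaf 0) (.leaf 0)))))))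

def classList0Part14 : Tbl ℕ :=
  (.node 21 (.node 10 (.node 5 (.node 2 (.node 1 (.leaf 0) (.leaf 0)) (.node 1 (.leaf 2) (.node 1 (.leaf 2) (.leaf 2)))) (.node 2 (.node 1 (.leaf 0) (.leaf 0)) (.node 1 (.leaf 0) (.node 1 (.leaf 2) (.leaf 2))))) (.node 5 (.node 2 (.node 1 (.leaf 0) (.leaf 0)) (.node 1 (.leaf 0) (.node 1 (.leaf 0) (.leaf 0)))) (.node 3 (.node 1 (.leaf 0) (.node 1 (.leaf 0) (.leaf 0))) (.node 1 (.leaf 2) (.node 1 (.leaf 2) (.leaf 2)))))) (.node 10 (.node 5 (.node 2 (.node 1 (.leaf 0) (.leaf 2)) (.node 1 (.leaf 0) (.node 1 (.leaf 2) (.leaf 0)))) (.node 2 (.node 1 (.leaf 0) (.leaf 0)) (.node 1 (.leaf 2) (.node 1 (.leaf 0) (.leaf 0))))) (.node 5 (.node 2 (.node 1 (.leaf 0) (.leaf 2)) (.node 1 (.leaf 0) (.node 1 (.leaf 0) (.leaf 0)))) (.node 3 (.node 1 (.leaf 0) (.node 1 (.leaf 0) (.leaf 2))) (.node 1 (.leaf 0) (.node 1 (.leaf 0) (.leaf 2)))))))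

def classList0Part15 : Tbl ℕ :=
  (.node 21 (.node 10 (.node 5 (.node 2 (.node 1 (.leaf 0) (.leaf 0)) (.node 1 (.leaf 0) (.node 1 (.leaf 2) (.leaf 0)))) (.node 2 (.node 1 (.leaf 0) (.leaf 0)) (.node 1 (.leaf 2) (.node 1 (.leaf 0) (.leaf 0))))) (.node 5 (.node 2 (.node 1 (.leaf 0) (.leaf 0)) (.node 1 (.leaf 2) (.node 1 (.leaf 2) (.leaf 0)))) (.node 3 (.node 1 (.leaf 0) (.node 1 (.leaf 2) (.leaf 0))) (.node 1 (.leaf 0) (.node 1 (.leaf 0) (.leaf 0)))))) (.node 10 (.node 5 (.node 2 (.node 1 (.leaf 2) (.leaf 2)) (.node 1 (.leaf 0) (.node 1 (.leaf 0) (.leaf 0)))) (.node 2 (.node 1 (.leaf 0) (.leaf 0)) (.node 1 (.leaf 2) (.node 1 (.leaf 0) (.leaf 0))))) (.node 5 (.node 2 (.node 1 (.leaf 0) (.leaf 0)) (.node 1 (.leaf 2) (.node 1 (.leaf 0) (.leaf 0)))) (.node 3 (.node 1 (.leaf 0) (.node 1 (.leaf 0) (.leaf 0))) (.node 1 (.leaf 0) (.node 1 (.leaf 0) (.leaf 0)))))))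

def classList0Part16 : Tbl ℕ :=
  (.node 21 (.node 10 (.node 5 (.node 2 (.node 1 (.leaf 2) (.leaf 0)) (.node 1 (.leaf 0) (.node 1 (.leaf 2) (.leaf 0)))) (.node 2 (.node 1 (.leaf 2) (.leaf 0)) (.node 1 (.leaf 0) (.node 1 (.leaf 2) (.leaf 0))))) (.node 5 (.node 2 (.node 1 (.leaf 2) (.leaf 0)) (.node 1 (.leaf 0) (.node 1 (.leaf 0) (.leaf 0)))) (.node 3 (.node 1 (.leaf 0) (.node 1 (.leaf 2) (.leaf 0))) (.node 1 (.leaf 2) (.node 1 (.leaf 0) (.leaf 0)))))) (.node 10 (.node 5 (.node 2 (.node 1 (.leaf 0) (.leaf 2)) (.node 1 (.leaf 2) (.node 1 (.leaf 0) (.leaf 0)))) (.node 2 (.node 1 (.leaf 0) (.leaf 0)) (.node 1 (.leaf 0) (.node 1 (.leaf 0) (.leaf 0))))) (.node 5 (.node 2 (.node 1 (.leaf 0) (.leaf 0)) (.node 1 (.leaf 2) (.node 1 (.leaf 0) (.leaf 2)))) (.node 3 (.node 1 (.leaf 0) (.node 1 (.leaf 0) (.leaf 2))) (.node 1 (.leaf 2) (.node 1 (.leaf 0) (.leaf 0)))))))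

def classList0Part17 : Tbl ℕ :=
  (.node 21 (.node 10 (.node 5 (.node 2 (.node 1 (.leaf 0) (.leaf 0)) (.node 1 (.leaf 2) (.node 1 (.leaf 0) (.leaf 2)))) (.node 2 (.node 1 (.leaf 0) (.leaf 0)) (.node 1 (.leaf 2) (.node 1 (.leaf 2) (.leaf 0))))) (.node 5 (.node 2 (.node 1 (.leaf 2) (.leaf 0)) (.node 1 (.leaf 0) (.node 1 (.leaf 0) (.leaf 0)))) (.node 3 (.node 1 (.leaf 0) (.node 1 (.leaf 0) (.leaf 0))) (.node 1 (.leaf 0) (.node 1 (.leaf 0) (.leaf 2)))))) (.node 10 (.node 5 (.node 2 (.node 1 (.leaf 2) (.leaf 0)) (.node 1 (.leaf 0) (.node 1 (.leaf 0) (.leaf 2)))) (.node 2 (.node 1 (.leaf 0) (.leaf 0)) (.node 1 (.leaf 0) (.node 1 (.leaf 0) (.leaf 0))))) (.node 5 (.node 2 (.node 1 (.leaf 2) (.leaf 2)) (.node 1 (.leaf 0) (.node 1 (.leaf 2) (.leaf 0)))) (.node 3 (.node 1 (.leaf 0) (.node 1 (.leaf 2) (.leaf 0))) (.node 1 (.leaf 0) (.node 1 (.leaf 0) (.leaf 0)))))))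

def classList0Part18 : Tbl ℕ :=
  (.node 21 (.node 10 (.node 5 (.node 2 (.node 1 (.leaf 0) (.leaf 0)) (.node 1 (.leaf 0) (.node 1 (.leaf 0) (.leaf 0)))) (.node 2 (.node 1 (.leaf 0) (.leaf 2)) (.node 1 (.leaf 0) (.node 1 (.leaf 0) (.leaf 2))))) (.node 5 (.node 2 (.node 1 (.leaf 2) (.leaf 0)) (.node 1 (.leaf 0) (.node 1 (.leaf 2) (.leaf 2)))) (.node 3 (.node 1 (.leaf 0) (.node 1 (.leaf 2) (.leaf 0))) (.node 1 (.leaf 0) (.node 1 (.leaf 0) (.leaf 0)))))) (.node 10 (.node 5 (.node 2 (.node 1 (.leaf 0) (.leaf 0)) (.node 1 (.leaf 0) (.node 1 (.leaf 0) (.leaf 0)))) (.node 2 (.node 1 (.leaf 0) (.leaf 0)) (.node 1 (.leaf 2) (.node 1 (.leaf 0) (.leaf 2))))) (.node 5 (.node 2 (.node 1 (.leaf 0) (.leaf 0)) (.node 1 (.leaf 2) (.node 1 (.leaf 0) (.leaf 0)))) (.node 3 (.node 1 (.leaf 0) (.node 1 (.leaf 2) (.leaf 2))) (.node 1 (.leaf 0) (.node 1 (.leaf 0) (.leaf 0)))))))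

def classList0Part19 : Tbl ℕ :=
  (.node 21 (.node 10 (.node 5 (.node 2 (.node 1 (.leaf 0) (.leaf 0)) (.node 1 (.leaf 2) (.node 1 (.leaf 0) (.leaf 0)))) (.node 2 (.node 1 (.leaf 2) (.leaf 0)) (.node 1 (.leaf 0) (.node 1 (.leaf 0) (.leaf 0))))) (.node 5 (.node 2 (.node 1 (.leaf 2) (.leaf 0)) (.node 1 (.leaf 2) (.node 1 (.leaf 0) (.leaf 2)))) (.node 3 (.node 1 (.leaf 0) (.node 1 (.leaf 0) (.leaf 0))) (.node 1 (.leaf 0) (.node 1 (.leaf 0) (.leaf 2)))))) (.node 10 (.node 5 (.node 2 (.node 1 (.leaf 0) (.leaf 0)) (.node 1 (.leaf 0) (.node 1 (.leaf 0) (.leaf 0)))) (.node 2 (.node 1 (.leaf 0) (.leaf 0)) (.node 1 (.leaf 0) (.node 1 (.leaf 0) (.leaf 0))))) (.node 5 (.node 2 (.node 1 (.leaf 0) (.leaf 0)) (.node 1 (.leaf 0) (.node 1 (.leaf 2) (.leaf 2)))) (.node 3 (.node 1 (.leaf 0) (.node 1 (.leaf 0) (.leaf 2))) (.node 1 (.leaf 0) (.node 1 (.leaf 0) (.leaf 0)))))))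

def classList0Part20 : Tbl ℕ :=
  (.node 21 (.node 10 (.node 5 (.node 2 (.node 1 (.leaf 2) (.leaf 0)) (.node 1 (.leaf 0) (.node 1 (.leaf 0) (.leaf 2)))) (.node 2 (.node 1 (.leaf 0) (.leaf 0)) (.node 1 (.leaf 0) (.node 1 (.leaf 0) (.leaf 2))))) (.node 5 (.node 2 (.node 1 (.leaf 0) (.leaf 0)) (.node 1 (.leaf 0) (.node 1 (.leaf 2) (.leaf 0)))) (.node 3 (.node 1 (.leaf 0) (.node 1 (.leaf 0) (.leaf 2))) (.node 1 (.leaf 0) (.node 1 (.leaf 2) (.leaf 0)))))) (.node 10 (.node 5 (.node 2 (.node 1 (.leaf 0) (.leaf 0)) (.node 1 (.leaf 0) (.node 1 (.leaf 0) (.leaf 2)))) (.node 2 (.node 1 (.leaf 0) (.leaf 2)) (.node 1 (.leaf 0) (.node 1 (.leaf 0) (.leaf 0))))) (.node 5 (.node 2 (.node 1 (.leaf 0) (.leaf 0)) (.node 1 (.leaf 0) (.node 1 (.leaf 0) (.leaf 0)))) (.node 3 (.node 1 (.leaf 0) (.node 1 (.leaf 0) (.leaf 0))) (.node 1 (.leaf 0) (.node 1 (.leaf 0) (.leaf 2)))))))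

def classList0Part21 : Tbl ℕ :=
  (.node 21 (.node 10 (.node 5 (.node 2 (.node 1 (.leaf 0) (.leaf 0)) (.node 1 (.leaf 0) (.node 1 (.leaf 0) (.leaf 0)))) (.node 2 (.node 1 (.leaf 0) (.leaf 0)) (.node 1 (.leaf 0) (.node 1 (.leaf 2) (.leaf 0))))) (.node 5 (.node 2 (.node 1 (.leaf 2) (.leaf 0)) (.node 1 (.leaf 2) (.node 1 (.leaf 2) (.leaf 0)))) (.node 3 (.node 1 (.leaf 0) (.node 1 (.leaf 0) (.leaf 0))) (.node 1 (.leaf 0) (.node 1 (.leaf 0) (.leaf 2)))))) (.node 10 (.node 5 (.node 2 (.node 1 (.leaf 2) (.leaf 0)) (.node 1 (.leaf 0) (.node 1 (.leaf 2) (.leaf 0)))) (.node 2 (.node 1 (.leaf 0) (.leaf 2)) (.node 1 (.leaf 2) (.node 1 (.leaf 0) (.leaf 2))))) (.node 5 (.node 2 (.node 1 (.leaf 0) (.leaf 0)) (.node 1 (.leaf 0) (.node 1 (.leaf 0) (.leaf 0)))) (.node 3 (.node 1 (.leaf 0) (.node 1 (.leaf 0) (.leaf 2))) (.node 1 (.leaf 0) (.node 1 (.leaf 2) (.leaf 0)))))))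

def classList0Part22 : Tbl ℕ :=
  (.node 21 (.node 10 (.node 5 (.node 2 (.node 1 (.leaf 2) (.leaf 0)) (.node 1 (.leaf 0) (.node 1 (.leaf 0) (.leaf 0)))) (.node 2 (.node 1 (.leaf 0) (.leaf 0)) (.node 1 (.leaf 0) (.node 1 (.leaf 2) (.leaf 0))))) (.node 5 (.node 2 (.node 1 (.leaf 0) (.leaf 0)) (.node 1 (.leaf 0) (.node 1 (.leaf 0) (.leaf 2)))) (.node 3 (.node 1 (.leaf 0) (.node 1 (.leaf 2) (.leaf 0))) (.node 1 (.leaf 0) (.node 1 (.leaf 0) (.leaf 0)))))) (.node 10 (.node 5 (.node 2 (.node 1 (.leaf 0) (.leaf 0)) (.node 1 (.leaf 0) (.node 1 (.leaf 0) (.leaf 0)))) (.node 2 (.node 1 (.leaf 2) (.leaf 2)) (.node 1 (.leaf 0) (.node 1 (.leaf 2) (.leaf 0))))) (.node 5 (.node 2 (.node 1 (.leaf 0) (.leaf 0)) (.node 1 (.leaf 0) (.node 1 (.leaf 2) (.leaf 0)))) (.node 3 (.node 1 (.leaf 2) (.node 1 (.leaf 0) (.leaf 0))) (.node 1 (.leaf 0) (.node 1 (.leaf 0) (.leaf 0)))))))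

def classList0Part23 : Tbl ℕ :=
  (.node 21 (.node 10 (.node 5 (.node 2 (.node 1 (.leaf 0) (.leaf 2)) (.node 1 (.leaf 2) (.node 1 (.leaf 0) (.leaf 0)))) (.node 2 (.node 1 (.leaf 2) (.leaf 0)) (.node 1 (.leaf 0) (.node 1 (.leaf 0) (.leaf 0))))) (.node 5 (.node 2 (.node 1 (.leaf 2) (.leaf 0)) (.node 1 (.leaf 0) (.node 1 (.leaf 0) (.leaf 0)))) (.node 3 (.node 1 (.leaf 2) (.node 1 (.leaf 0) (.leaf 0))) (.node 1 (.leaf 0) (.node 1 (.leaf 0) (.leaf 2)))))) (.node 10 (.node 5 (.node 2 (.node 1 (.leaf 0) (.leaf 2)) (.node 1 (.leaf 0) (.node 1 (.leaf 0) (.leaf 0)))) (.node 2 (.node 1 (.leaf 0) (.leaf 0)) (.node 1 (.leaf 0) (.node 1 (.leaf 2) (.leaf 0))))) (.node 5 (.node 2 (.node 1 (.leaf 0) (.leaf 0)) (.node 1 (.leaf 0) (.node 1 (.leaf 2) (.leaf 0)))) (.node 3 (.node 1 (.leaf 0) (.node 1 (.leaf 0) (.leaf 2))) (.node 1 (.leaf 0) (.node 1 (.leaf 2) (.leaf 0)))))))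

def classList0Part24 : Tbl ℕ :=
  (.node 21 (.node 10 (.node 5 (.node 2 (.node 1 (.leaf 0) (.leaf 2)) (.node 1 (.leaf 0) (.node 1 (.leaf 0) (.leaf 0)))) (.node 2 (.node 1 (.leaf 2) (.leaf 2)) (.node 1 (.leaf 0) (.node 1 (.leaf 0) (.leaf 2))))) (.node 5 (.node 2 (.node 1 (.leaf 0) (.leaf 0)) (.node 1 (.leaf 0) (.node 1 (.leaf 0) (.leaf 0)))) (.node 3 (.node 1 (.leaf 0) (.node 1 (.leaf 2) (.leaf 2))) (.node 1 (.leaf 0) (.node 1 (.leaf 0) (.leaf 0)))))) (.node 10 (.node 5 (.node 2 (.node 1 (.leaf 2) (.leaf 0)) (.node 1 (.leaf 2) (.node 1 (.leaf 0) (.leaf 0)))) (.node 2 (.node 1 (.leaf 2) (.leaf 0)) (.node 1 (.leaf 0) (.node 1 (.leaf 0) (.leaf 2))))) (.node 5 (.node 2 (.node 1 (.leaf 0) (.leaf 0)) (.node 1 (.leaf 0) (.node 1 (.leaf 2) (.leaf 0)))) (.node 3 (.node 1 (.leaf 0) (.node 1 (.leaf 2) (.leaf 0))) (.node 1 (.leaf 2) (.node 1 (.leaf 0) (.leaf 2)))))))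

def classList0Part25 : Tbl ℕ :=
  (.node 21 (.node 10 (.node 5 (.node 2 (.node 1 (.leaf 2) (.leaf 2)) (.node 1 (.leaf 2) (.node 1 (.leaf 0) (.leaf 0)))) (.node 2 (.node 1 (.leaf 2) (.leaf 0)) (.node 1 (.leaf 0) (.node 1 (.leaf 0) (.leaf 2))))) (.node 5 (.node 2 (.node 1 (.leaf 0) (.leaf 0)) (.node 1 (.leaf 2) (.node 1 (.leaf 0) (.leaf 2)))) (.node 3 (.node 1 (.leaf 0) (.node 1 (.leaf 0) (.leaf 2))) (.node 1 (.leaf 0) (.node 1 (.leaf 2) (.leaf 0)))))) (.node 10 (.node 5 (.node 2 (.node 1 (.leaf 0) (.leaf 0)) (.node 1 (.leaf 0) (.node 1 (.leaf 0) (.leaf 0)))) (.node 2 (.node 1 (.leaf 2) (.leaf 0)) (.node 1 (.leaf 0) (.node 1 (.leaf 0) (.leaf 2))))) (.node 5 (.node 2 (.node 1 (.leaf 0) (.leaf 2)) (.node 1 (.leaf 0) (.node 1 (.leaf 0) (.leaf 0)))) (.node 3 (.node 1 (.leaf 0) (.node 1 (.leaf 2) (.leaf 0))) (.node 1 (.leaf 0) (.node 1 (.leaf 0) (.leaf 0)))))))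

def classList0Part26 : Tbl ℕ :=
  (.node 21 (.node 10 (.node 5 (.node 2 (.node 1 (.leaf 2) (.leaf 2)) (.node 1 (.leaf 2) (.node 1 (.leaf 0) (.leaf 0)))) (.node 2 (.node 1 (.leaf 2) (.leaf 0)) (.node 1 (.leaf 0) (.node 1 (.leaf 0) (.leaf 0))))) (.node 5 (.node 2 (.node 1 (.leaf 0) (.leaf 0)) (.node 1 (.leaf 0) (.node 1 (.leaf 0) (.leaf 0)))) (.node 3 (.node 1 (.leaf 0) (.node 1 (.leaf 2) (.leaf 0))) (.node 1 (.leaf 2) (.node 1 (.leaf 0) (.leaf 0)))))) (.node 10 (.node 5 (.node 2 (.node 1 (.leaf 2) (.leaf 0)) (.node 1 (.leaf 0) (.node 1 (.leaf 0) (.leaf 2)))) (.node 2 (.node 1 (.leaf 0) (.leaf 2)) (.node 1 (.leaf 0) (.node 1 (.leaf 0) (.leaf 0))))) (.node 5 (.node 2 (.node 1 (.leaf 0) (.leaf 0)) (.node 1 (.leaf 0) (.node 1 (.leaf 0) (.leaf 2)))) (.node 3 (.node 1 (.leaf 0) (.node 1 (.leaf 0) (.leaf 0))) (.node 1 (.leaf 2) (.node 1 (.leaf 0) (.leaf 0)))))))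

def classList0Part27 : Tbl ℕ :=
  (.node 21 (.node 10 (.node 5 (.node 2 (.node 1 (.leaf 0) (.leaf 0)) (.node 1 (.leaf 0) (.node 1 (.leaf 0) (.leaf 0)))) (.node 2 (.node 1 (.leaf 0) (.leaf 0)) (.node 1 (.leaf 0) (.node 1 (.leaf 0) (.leaf 2))))) (.node 5 (.node 2 (.node 1 (.leaf 2) (.leaf 0)) (.node 1 (.leaf 0) (.node 1 (.leaf 2) (.leaf 0)))) (.node 3 (.node 1 (.leaf 0) (.node 1 (.leaf 0) (.leaf 0))) (.node 1 (.leaf 2) (.node 1 (.leaf 0) (.leaf 0)))))) (.node 10 (.node 5 (.node 2 (.node 1 (.leaf 0) (.leaf 2)) (.node 1 (.leaf 2) (.node 1 (.leaf 0) (.leaf 0)))) (.node 2 (.node 1 (.leaf 0) (.leaf 0)) (.node 1 (.leaf 0) (.node 1 (.leaf 0) (.leaf 2))))) (.node 5 (.node 2 (.node 1 (.leaf 2) (.leaf 0)) (.node 1 (.leaf 0) (.node 1 (.leaf 0) (.leaf 2)))) (.node 3 (.node 1 (.leaf 0) (.node 1 (.leaf 0) (.leaf 0))) (.node 1 (.leaf 0) (.node 1 (.leaf 0) (.leaf 2)))))))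

def classList0Part28 : Tbl ℕ :=
  (.node 21 (.node 10 (.node 5 (.node 2 (.node 1 (.leaf 2) (.leaf 0)) (.node 1 (.leaf 0) (.node 1 (.leaf 0) (.leaf 2)))) (.node 2 (.node 1 (.leaf 0) (.leaf 0)) (.node 1 (.leaf 2) (.node 1 (.leaf 2) (.leaf 0))))) (.node 5 (.node 2 (.node 1 (.leaf 0) (.leaf 2)) (.node 1 (.leaf 2) (.node 1 (.leaf 0) (.leaf 0)))) (.node 3 (.node 1 (.leaf 0) (.node 1 (.leaf 2) (.leaf 0))) (.node 1 (.leaf 0) (.node 1 (.leaf 2) (.leaf 0)))))) (.node 10 (.node 5 (.node 2 (.node 1 (.leaf 0) (.leaf 0)) (.node 1 (.leaf 2) (.node 1 (.leaf 0) (.leaf 2)))) (.node 2 (.node 1 (.leaf 0) (.leaf 2)) (.node 1 (.leaf 0) (.node 1 (.leaf 0) (.leaf 2))))) (.node 5 (.node 2 (.node 1 (.leaf 0) (.leaf 0)) (.node 1 (.leaf 2) (.node 1 (.leaf 0) (.leaf 2)))) (.node 3 (.node 1 (.leaf 0) (.node 1 (.leaf 0) (.leaf 2))) (.node 1 (.leaf 0) (.node 1 (.leaf 0) (.leaf 2)))))))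

def classList0Part29 : Tbl ℕ :=
  (.node 21 (.node 10 (.node 5 (.node 2 (.node 1 (.leaf 0) (.leaf 0)) (.node 1 (.leaf 2) (.node 1 (.leaf 0) (.leaf 0)))) (.node 2 (.node 1 (.leaf 0) (.leaf 2)) (.node 1 (.leaf 2) (.node 1 (.leaf 2) (.leaf 0))))) (.node 5 (.node 2 (.node 1 (.leaf 2) (.leaf 0)) (.node 1 (.leaf 0) (.node 1 (.leaf 0) (.leaf 0)))) (.node 3 (.node 1 (.leaf 0) (.node 1 (.leaf 0) (.leaf 0))) (.node 1 (.leaf 0) (.node 1 (.leaf 2) (.leaf 0)))))) (.node 10 (.node 5 (.node 2 (.node 1 (.leaf 0) (.leaf 0)) (.node 1 (.leaf 2) (.node 1 (.leaf 2) (.leaf 2)))) (.node 2 (.node 1 (.leaf 0) (.leaf 0)) (.node 1 (.leaf 0) (.node 1 (.leaf 0) (.leaf 2))))) (.node 5 (.node 2 (.node 1 (.leaf 0) (.leaf 0)) (.node 1 (.leaf 0) (.node 1 (.leaf 0) (.leaf 2)))) (.node 3 (.node 1 (.leaf 0) (.node 1 (.leaf 0) (.leaf 2))) (.node 1 (.leaf 0) (.node 1 (.leaf 0) (.leaf 0)))))))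

def classList0Part30 : Tbl ℕ :=
  (.node 21 (.node 10 (.node 5 (.node 2 (.node 1 (.leaf 0) (.leaf 0)) (.node 1 (.leaf 0) (.node 1 (.leaf 2) (.leaf 2)))) (.node 2 (.node 1 (.leaf 0) (.leaf 0)) (.node 1 (.leaf 0) (.node 1 (.leaf 0) (.leaf 0))))) (.node 5 (.node 2 (.node 1 (.leaf 0) (.leaf 0)) (.node 1 (.leaf 2) (.node 1 (.leaf 0) (.leaf 0)))) (.node 3 (.node 1 (.leaf 0) (.node 1 (.leaf 0) (.leaf 0))) (.node 1 (.leaf 2) (.node 1 (.leaf 0) (.leaf 0)))))) (.node 10 (.node 5 (.node 2 (.node 1 (.leaf 0) (.leaf 2)) (.node 1 (.leaf 2) (.node 1 (.leaf 0) (.leaf 0)))) (.node 2 (.node 1 (.leaf 2) (.leaf 0)) (.node 1 (.leaf 0) (.node 1 (.leaf 2) (.leaf 2))))) (.node 5 (.node 2 (.node 1 (.leaf 0) (.leaf 0)) (.node 1 (.leaf 2) (.node 1 (.leaf 0) (.leaf 0)))) (.node 3 (.node 1 (.leaf 0) (.node 1 (.leaf 2) (.leaf 2))) (.node 1 (.leaf 0) (.node 1 (.leaf 0) (.leaf 0)))))))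

def classList0Part31 : Tbl ℕ :=
  (.node 21 (.node 10 (.node 5 (.node 2 (.node 1 (.leaf 0) (.leaf 0)) (.node 1 (.leaf 2) (.node 1 (.leaf 0) (.leaf 0)))) (.node 2 (.node 1 (.leaf 2) (.leaf 0)) (.node 1 (.leaf 0) (.node 1 (.leaf 2) (.leaf 0))))) (.node 5 (.node 2 (.node 1 (.leaf 0) (.leaf 0)) (.node 1 (.leaf 0) (.node 1 (.leaf 0) (.leaf 0)))) (.node 3 (.node 1 (.leaf 2) (.node 1 (.leaf 0) (.leaf 0))) (.node 1 (.leaf 0) (.node 1 (.leaf 0) (.leaf 2)))))) (.node 10 (.node 5 (.node 2 (.node 1 (.leaf 0) (.leaf 0)) (.node 1 (.leaf 2) (.node 1 (.leaf 0) (.leaf 0)))) (.node 2 (.node 1 (.leaf 2) (.leaf 0)) (.node 1 (.leaf 0) (.node 1 (.leaf 0) (.leaf 0))))) (.node 5 (.node 2 (.node 1 (.leaf 0) (.leaf 0)) (.node 1 (.leaf 2) (.node 1 (.leaf 0) (.leaf 2)))) (.node 3 (.node 1 (.leaf 0) (.node 1 (.leaf 2) (.leaf 0))) (.node 1 (.leaf 0) (.node 1 (.leaf 0) (.leaf 2)))))))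

def classList0 : Tbl ℕ :=
  (.node 672 (.node 336 (.node 168 (.node 84 (.node 42 classList0Part0 classList0Part1) (.node 42 classList0Part2 classList0Part3)) (.node 84 (.node 42 classList0Part4 classList0Part5) (.node 42 classList0Part6 classList0Part7))) (.node 168 (.node 84 (.node 42 classList0Part8 classList0Part9) (.node 42 classList0Part10 classList0Part11)) (.node 84 (.node 42 classList0Part12 classList0Part13) (.node 42 classList0Part14 classList0Part15)))) (.node 336 (.node 168 (.node 84 (.node 42 classList0Part16 classList0Part17) (.node 42 classList0Part18 classList0Part19)) (.node 84 (.node 42 classList0Part20 classList0Part21) (.node 42 classList0Part22 classList0Part23))) (.node 168 (.node 84 (.node 42 classList0Part24 classList0Part25) (.node 42 classList0Part26 classList0Part27)) (.node 84 (.node 42 classList0Part28 classList0Part29) (.node 42 classList0Part30 classList0Part31)))))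

def classList1Part0 : Tbl ℕ :=
  (.node 21 (.node 10 (.node 5 (.node 2 (.node 1 (.leaf 2) (.leaf 2)) (.node 1 (.leaf 0) (.node 1 (.leaf 1) (.leaf 0)))) (.node 2 (.node 1 (.leaf 1) (.leaf 0)) (.node 1 (.leaf 2) (.node 1 (.leaf 0) (.leaf 0))))) (.node 5 (.node 2 (.node 1 (.leaf 0) (.leaf 0)) (.node 1 (.leaf 0) (.node 1 (.leaf 0) (.leaf 2)))) (.node 3 (.node 1 (.leaf 0) (.node 1 (.leaf 0) (.leaf 0))) (.node 1 (.leaf 0) (.node 1 (.leaf 0) (.leaf 0)))))) (.node 10 (.node 5 (.node 2 (.node 1 (.leaf 0) (.leaf 861395)) (.node 1 (.leaf 0) (.node 1 (.leaf 0) (.leaf 0)))) (.node 2 (.node 1 (.leaf 1) (.leaf 0)) (.node 1 (.leaf 2) (.node 1 (.leaf 0) (.leaf 0))))) (.node 5 (.node 2 (.node 1 (.leaf 987311) (.leaf 0)) (.node 1 (.leaf 0) (.node 1 (.leaf 0) (.leaf 1)))) (.node 3 (.node 1 (.leaf 0) (.node 1 (.leaf 0) (.leaf 1))) (.node 1 (.leaf 1) (.node 1 (.leaf 0) (.leaf 0)))))))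

def classList1Part1 : Tbl ℕ :=
  (.node 21 (.node 10 (.node 5 (.node 2 (.node 1 (.leaf 2) (.leaf 0)) (.node 1 (.leaf 2) (.node 1 (.leaf 1355591) (.leaf 1)))) (.node 2 (.node 1 (.leaf 0) (.leaf 1)) (.node 1 (.leaf 1) (.node 1 (.leaf 4223731) (.leaf 0))))) (.node 5 (.node 2 (.node 1 (.leaf 0) (.leaf 8206055)) (.node 1 (.leaf 0) (.node 1 (.leaf 0) (.leaf 6882983)))) (.node 3 (.node 1 (.leaf 0) (.node 1 (.leaf 0) (.leaf 2))) (.node 1 (.leaf 0) (.node 1 (.leaf 0) (.leaf 0)))))) (.node 10 (.node 5 (.node 2 (.node 1 (.leaf 1) (.leaf 1)) (.node 1 (.leaf 0) (.node 1 (.leaf 0) (.leaf 0)))) (.node 2 (.node 1 (.leaf 0) (.leaf 2)) (.node 1 (.leaf 0) (.node 1 (.leaf 0) (.leaf 1))))) (.node 5 (.node 2 (.node 1 (.leaf 2) (.leaf 0)) (.node 1 (.leaf 4877615) (.node 1 (.leaf 2) (.leaf 0)))) (.node 3 (.node 1 (.leaf 0) (.node 1 (.leaf 1) (.leaf 1))) (.node 1 (.leaf 1) (.node 1 (.leaf 2) (.leaf 0)))))))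

def classList1Part2 : Tbl ℕ :=
  (.node 21 (.node 10 (.node 5 (.node 2 (.node 1 (.leaf 0) (.leaf 2)) (.node 1 (.leaf 2) (.node 1 (.leaf 1) (.leaf 2)))) (.node 2 (.node 1 (.leaf 1) (.leaf 0)) (.node 1 (.leaf 0) (.node 1 (.leaf 0) (.leaf 0))))) (.node 5 (.node 2 (.node 1 (.leaf 0) (.leaf 1)) (.node 1 (.leaf 0) (.node 1 (.leaf 2) (.leaf 2)))) (.node 3 (.node 1 (.leaf 1) (.node 1 (.leaf 0) (.leaf 8262855))) (.node 1 (.leaf 0) (.node 1 (.leaf 2) (.leaf 0)))))) (.node 10 (.node 5 (.node 2 (.node 1 (.leaf 0) (.leaf 0)) (.node 1 (.leaf 4631827) (.node 1 (.leaf 2) (.leaf 0)))) (.node 2 (.node 1 (.leaf 0) (.leaf 0)) (.node 1 (.leaf 0) (.node 1 (.leaf 0) (.leaf 2))))) (.node 5 (.node 2 (.node 1 (.leaf 0) (.leaf 0)) (.node 1 (.leaf 0) (.node 1 (.leaf 0) (.leaf 0)))) (.node 3 (.node 1 (.leaf 0) (.node 1 (.leaf 2) (.leaf 1))) (.node 1 (.leaf 1) (.node 1 (.leaf 0) (.leaf 0)))))))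

def classList1Part3 : Tbl ℕ :=
  (.node 21 (.node 10 (.node 5 (.node 2 (.node 1 (.leaf 0) (.leaf 2)) (.node 1 (.leaf 0) (.node 1 (.leaf 0) (.leaf 1)))) (.node 2 (.node 1 (.leaf 3196647) (.leaf 0)) (.node 1 (.leaf 2) (.node 1 (.leaf 2) (.leaf 0))))) (.node 5 (.node 2 (.node 1 (.leaf 1) (.leaf 0)) (.node 1 (.leaf 2) (.node 1 (.leaf 0) (.leaf 2)))) (.node 3 (.node 1 (.leaf 0) (.node 1 (.leaf 1) (.leaf 2))) (.node 1 (.leaf 0) (.node 1 (.leaf 0) (.leaf 1194791)))))) (.node 10 (.node 5 (.node 2 (.node 1 (.leaf 0) (.leaf 0)) (.node 1 (.leaf 1) (.node 1 (.leaf 0) (.leaf 0)))) (.node 2 (.node 1 (.leaf 0) (.leaf 0)) (.node 1 (.leaf 2) (.node 1 (.leaf 0) (.leaf 0))))) (.node 5 (.node 2 (.node 1 (.leaf 1) (.leaf 7998343)) (.node 1 (.leaf 1) (.node 1 (.leaf 0) (.leaf 0)))) (.node 3 (.node 1 (.leaf 2) (.node 1 (.leaf 0) (.leaf 0))) (.node 1 (.leaf 2) (.node 1 (.leaf 0) (.leaf 0)))))))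

def classList1Part4 : Tbl ℕ :=
  (.node 21 (.node 10 (.node 5 (.node 2 (.node 1 (.leaf 0) (.leaf 3435995)) (.node 1 (.leaf 1) (.node 1 (.leaf 1) (.leaf 0)))) (.node 2 (.node 1 (.leaf 0) (.leaf 0)) (.node 1 (.leaf 0) (.node 1 (.leaf 2) (.leaf 0))))) (.node 5 (.node 2 (.node 1 (.leaf 1) (.leaf 1)) (.node 1 (.leaf 1) (.node 1 (.leaf 1) (.leaf 0)))) (.node 3 (.node 1 (.leaf 0) (.node 1 (.leaf 1) (.leaf 0))) (.node 1 (.leaf 2) (.node 1 (.leaf 1) (.leaf 1)))))) (.node 10 (.node 5 (.node 2 (.node 1 (.leaf 0) (.leaf 1)) (.node 1 (.leaf 7900811) (.node 1 (.leaf 0) (.leaf 0)))) (.node 2 (.node 1 (.leaf 0) (.leaf 1)) (.node 1 (.leaf 0) (.node 1 (.leaf 0) (.leaf 0))))) (.node 5 (.node 2 (.node 1 (.leaf 2) (.leaf 0)) (.node 1 (.leaf 1095651) (.node 1 (.leaf 2) (.leaf 0)))) (.node 3 (.node 1 (.leaf 1) (.node 1 (.leaf 0) (.leaf 0))) (.node 1 (.leaf 0) (.node 1 (.leaf 2) (.leaf 0)))))))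

def classList1Part5 : Tbl ℕ :=
  (.node 21 (.node 10 (.node 5 (.node 2 (.node 1 (.leaf 0) (.leaf 0)) (.node 1 (.leaf 1) (.node 1 (.leaf 0) (.leaf 0)))) (.node 2 (.node 1 (.leaf 0) (.leaf 0)) (.node 1 (.leaf 0) (.node 1 (.leaf 0) (.leaf 0))))) (.node 5 (.node 2 (.node 1 (.leaf 0) (.leaf 7474467)) (.node 1 (.leaf 0) (.node 1 (.leaf 0) (.leaf 0)))) (.node 3 (.node 1 (.leaf 2) (.node 1 (.leaf 0) (.leaf 1))) (.node 1 (.leaf 0) (.node 1 (.leaf 1) (.leaf 0)))))) (.node 10 (.node 5 (.node 2 (.node 1 (.leaf 0) (.leaf 0)) (.node 1 (.leaf 2) (.node 1 (.leaf 0) (.leaf 0)))) (.node 2 (.node 1 (.leaf 1) (.leaf 2)) (.node 1 (.leaf 1) (.node 1 (.leaf 2) (.leaf 5022419))))) (.node 5 (.node 2 (.node 1 (.leaf 0) (.leaf 0)) (.node 1 (.leaf 3290631) (.node 1 (.leaf 1) (.leaf 2)))) (.node 3 (.node 1 (.leaf 1) (.node 1 (.leaf 0) (.leaf 2))) (.node 1 (.leaf 2) (.node 1 (.leaf 0) (.leaf 0)))))))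

def classList1Part6 : Tbl ℕ :=
  (.node 21 (.node 10 (.node 5 (.node 2 (.node 1 (.leaf 0) (.leaf 0)) (.node 1 (.leaf 0) (.node 1 (.leaf 0) (.leaf 0)))) (.node 2 (.node 1 (.leaf 0) (.leaf 2)) (.node 1 (.leaf 6597087) (.node 1 (.leaf 0) (.leaf 0))))) (.node 5 (.node 2 (.node 1 (.leaf 1314511) (.leaf 1)) (.node 1 (.leaf 0) (.node 1 (.leaf 0) (.leaf 0)))) (.node 3 (.node 1 (.leaf 8327575) (.node 1 (.leaf 1) (.leaf 0))) (.node 1 (.leaf 1) (.node 1 (.leaf 1) (.leaf 0)))))) (.node 10 (.node 5 (.node 2 (.node 1 (.leaf 2) (.leaf 1)) (.node 1 (.leaf 0) (.node 1 (.leaf 0) (.leaf 1)))) (.node 2 (.node 1 (.leaf 0) (.leaf 0)) (.node 1 (.leaf 2651927) (.node 1 (.leaf 0) (.leaf 4613979))))) (.node 5 (.node 2 (.node 1 (.leaf 1) (.leaf 2)) (.node 1 (.leaf 1) (.node 1 (.leaf 1) (.leaf 2)))) (.node 3 (.node 1 (.leaf 0) (.node 1 (.leaf 1) (.leaf 1))) (.node 1 (.leaf 0) (.node 1 (.leaf 0) (.leaf 0)))))))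

def classList1Part7 : Tbl ℕ :=
  (.node 21 (.node 10 (.node 5 (.node 2 (.node 1 (.leaf 0) (.leaf 0)) (.node 1 (.leaf 1) (.node 1 (.leaf 2) (.leaf 1)))) (.node 2 (.node 1 (.leaf 2) (.leaf 0)) (.node 1 (.leaf 0) (.node 1 (.leaf 1) (.leaf 0))))) (.node 5 (.node 2 (.node 1 (.leaf 0) (.leaf 0)) (.node 1 (.leaf 1) (.node 1 (.leaf 0) (.leaf 1)))) (.node 3 (.node 1 (.leaf 0) (.node 1 (.leaf 0) (.leaf 1))) (.node 1 (.leaf 1904407) (.node 1 (.leaf 0) (.leaf 0)))))) (.node 10 (.node 5 (.node 2 (.node 1 (.leaf 0) (.leaf 0)) (.node 1 (.leaf 0) (.node 1 (.leaf 0) (.leaf 0)))) (.node 2 (.node 1 (.leaf 0) (.leaf 1)) (.node 1 (.leaf 1) (.node 1 (.leaf 1) (.leaf 0))))) (.node 5 (.node 2 (.node 1 (.leaf 6883287) (.leaf 2)) (.node 1 (.leaf 0) (.node 1 (.leaf 0) (.leaf 2701743)))) (.node 3 (.node 1 (.leaf 0) (.node 1 (.leaf 1) (.leaf 0))) (.node 1 (.leaf 18375) (.node 1 (.leaf 2) (.leaf 2)))))))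

def classList1Part8 : Tbl ℕ :=
  (.node 21 (.node 10 (.node 5 (.node 2 (.node 1 (.leaf 0) (.leaf 0)) (.node 1 (.leaf 0) (.node 1 (.leaf 0) (.leaf 1521127)))) (.node 2 (.node 1 (.leaf 2) (.leaf 0)) (.node 1 (.leaf 0) (.node 1 (.leaf 2) (.leaf 0))))) (.node 5 (.node 2 (.node 1 (.leaf 0) (.leaf 0)) (.node 1 (.leaf 0) (.node 1 (.leaf 0) (.leaf 1)))) (.node 3 (.node 1 (.leaf 1) (.node 1 (.leaf 1) (.leaf 1))) (.node 1 (.leaf 1) (.node 1 (.leaf 1) (.leaf 0)))))) (.node 10 (.node 5 (.node 2 (.node 1 (.leaf 0) (.leaf 0)) (.node 1 (.leaf 0) (.node 1 (.leaf 0) (.leaf 7143903)))) (.node 2 (.node 1 (.leaf 0) (.leaf 0)) (.node 1 (.leaf 0) (.node 1 (.leaf 2) (.leaf 2))))) (.node 5 (.node 2 (.node 1 (.leaf 0) (.leaf 1)) (.node 1 (.leaf 0) (.node 1 (.leaf 2) (.leaf 0)))) (.node 3 (.node 1 (.leaf 0) (.node 1 (.leaf 0) (.leaf 0))) (.node 1 (.leaf 0) (.node 1 (.leaf 1) (.leaf 0)))))))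

def classList1Part9 : Tbl ℕ :=
  (.node 21 (.node 10 (.node 5 (.node 2 (.node 1 (.leaf 1) (.leaf 0)) (.node 1 (.leaf 1) (.node 1 (.leaf 2661575) (.leaf 1)))) (.node 2 (.node 1 (.leaf 0) (.leaf 2)) (.node 1 (.leaf 1) (.node 1 (.leaf 0) (.leaf 0))))) (.node 5 (.node 2 (.node 1 (.leaf 2) (.leaf 0)) (.node 1 (.leaf 2) (.node 1 (.leaf 0) (.leaf 0)))) (.node 3 (.node 1 (.leaf 0) (.node 1 (.leaf 0) (.leaf 0))) (.node 1 (.leaf 0) (.node 1 (.leaf 2) (.leaf 0)))))) (.node 10 (.node 5 (.node 2 (.node 1 (.leaf 0) (.leaf 1)) (.node 1 (.leaf 2) (.node 1 (.leaf 1) (.leaf 0)))) (.node 2 (.node 1 (.leaf 1) (.leaf 0)) (.node 1 (.leaf 0) (.node 1 (.leaf 0) (.leaf 5063251))))) (.node 5 (.node 2 (.node 1 (.leaf 1) (.leaf 2)) (.node 1 (.leaf 6897319) (.node 1 (.leaf 0) (.leaf 2)))) (.node 3 (.node 1 (.leaf 0) (.node 1 (.leaf 0) (.leaf 0))) (.node 1 (.leaf 0) (.node 1 (.leaf 0) (.leaf 0)))))))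

def classList1Part10 : Tbl ℕ :=
  (.node 21 (.node 10 (.node 5 (.node 2 (.node 1 (.leaf 2) (.leaf 0)) (.node 1 (.leaf 1) (.node 1 (.leaf 0) (.leaf 0)))) (.node 2 (.node 1 (.leaf 2) (.leaf 1)) (.node 1 (.leaf 2) (.node 1 (.leaf 0) (.leaf 1))))) (.node 5 (.node 2 (.node 1 (.leaf 2) (.leaf 3213167)) (.node 1 (.leaf 1) (.node 1 (.leaf 2) (.leaf 1)))) (.node 3 (.node 1 (.leaf 0) (.node 1 (.leaf 0) (.leaf 0))) (.node 1 (.leaf 1) (.node 1 (.leaf 0) (.leaf 0)))))) (.node 10 (.node 5 (.node 2 (.node 1 (.leaf 2) (.leaf 2)) (.node 1 (.leaf 0) (.node 1 (.leaf 0) (.leaf 1)))) (.node 2 (.node 1 (.leaf 2) (.leaf 3879835)) (.node 1 (.leaf 0) (.node 1 (.leaf 3443735) (.leaf 0))))) (.node 5 (.node 2 (.node 1 (.leaf 0) (.leaf 0)) (.node 1 (.leaf 0) (.node 1 (.leaf 0) (.leaf 0)))) (.node 3 (.node 1 (.leaf 0) (.node 1 (.leaf 0) (.leaf 1))) (.node 1 (.leaf 3948555) (.node 1 (.leaf 0) (.leaf 2445235)))))))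

def classList1Part11 : Tbl ℕ :=
  (.node 21 (.node 10 (.node 5 (.node 2 (.node 1 (.leaf 0) (.leaf 1)) (.node 1 (.leaf 1) (.node 1 (.leaf 0) (.leaf 2)))) (.node 2 (.node 1 (.leaf 0) (.leaf 0)) (.node 1 (.leaf 0) (.node 1 (.leaf 0) (.leaf 0))))) (.node 5 (.node 2 (.node 1 (.leaf 0) (.leaf 0)) (.node 1 (.leaf 0) (.node 1 (.leaf 2024459) (.leaf 0)))) (.node 3 (.node 1 (.leaf 5506131) (.node 1 (.leaf 0) (.leaf 0))) (.node 1 (.leaf 0) (.node 1 (.leaf 0) (.leaf 0)))))) (.node 10 (.node 5 (.node 2 (.node 1 (.leaf 0) (.leaf 5902955)) (.node 1 (.leaf 0) (.node 1 (.leaf 0) (.leaf 1)))) (.node 2 (.node 1 (.leaf 0) (.leaf 0)) (.node 1 (.leaf 0) (.node 1 (.leaf 1) (.leaf 0))))) (.node 5 (.node 2 (.node 1 (.leaf 0) (.leaf 7749515)) (.node 1 (.leaf 1) (.node 1 (.leaf 1) (.leaf 0)))) (.node 3 (.node 1 (.leaf 1987147) (.node 1 (.leaf 0) (.leaf 1))) (.node 1 (.leaf 1) (.node 1 (.leaf 0) (.leaf 0)))))))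

def classList1Part12 : Tbl ℕ :=
  (.node 21 (.node 10 (.node 5 (.node 2 (.node 1 (.leaf 0) (.leaf 4389515)) (.node 1 (.leaf 0) (.node 1 (.leaf 0) (.leaf 2)))) (.node 2 (.node 1 (.leaf 2) (.leaf 0)) (.node 1 (.leaf 0) (.node 1 (.leaf 0) (.leaf 4503411))))) (.node 5 (.node 2 (.node 1 (.leaf 0) (.leaf 0)) (.node 1 (.leaf 0) (.node 1 (.leaf 1) (.leaf 0)))) (.node 3 (.node 1 (.leaf 0) (.node 1 (.leaf 0) (.leaf 1))) (.node 1 (.leaf 3489907) (.node 1 (.leaf 0) (.leaf 0)))))) (.node 10 (.node 5 (.node 2 (.node 1 (.leaf 1) (.leaf 0)) (.node 1 (.leaf 1) (.node 1 (.leaf 1) (.leaf 0)))) (.node 2 (.node 1 (.leaf 0) (.leaf 0)) (.node 1 (.leaf 2) (.node 1 (.leaf 0) (.leaf 0))))) (.node 5 (.node 2 (.node 1 (.leaf 0) (.leaf 0)) (.node 1 (.leaf 0) (.node 1 (.leaf 0) (.leaf 0)))) (.node 3 (.node 1 (.leaf 1) (.node 1 (.leaf 1) (.leaf 738635))) (.node 1 (.leaf 964267) (.node 1 (.leaf 0) (.leaf 1)))))))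

def classList1Part13 : Tbl ℕ :=
  (.node 21 (.node 10 (.node 5 (.node 2 (.node 1 (.leaf 0) (.leaf 1)) (.node 1 (.leaf 0) (.node 1 (.leaf 1) (.leaf 1)))) (.node 2 (.node 1 (.leaf 1) (.leaf 2278251)) (.node 1 (.leaf 0) (.node 1 (.leaf 0) (.leaf 0))))) (.node 5 (.node 2 (.node 1 (.leaf 2) (.leaf 0)) (.node 1 (.leaf 0) (.node 1 (.leaf 2) (.leaf 1)))) (.node 3 (.node 1 (.leaf 0) (.node 1 (.leaf 0) (.leaf 0))) (.node 1 (.leaf 0) (.node 1 (.leaf 1) (.leaf 1)))))) (.node 10 (.node 5 (.node 2 (.node 1 (.leaf 6865671) (.leaf 2)) (.node 1 (.leaf 2) (.node 1 (.leaf 0) (.leaf 1)))) (.node 2 (.node 1 (.leaf 1) (.leaf 0)) (.node 1 (.leaf 0) (.node 1 (.leaf 0) (.leaf 2))))) (.node 5 (.node 2 (.node 1 (.leaf 0) (.leaf 2)) (.node 1 (.leaf 0) (.node 1 (.leaf 0) (.leaf 8046411)))) (.node 3 (.node 1 (.leaf 0) (.node 1 (.leaf 2) (.leaf 1))) (.node 1 (.leaf 0) (.node 1 (.leaf 1) (.leaf 1)))))))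

def classList1Part14 : Tbl ℕ :=
  (.node 21 (.node 10 (.node 5 (.node 2 (.node 1 (.leaf 0) (.leaf 0)) (.node 1 (.leaf 5452371) (.node 1 (.leaf 2) (.leaf 2)))) (.node 2 (.node 1 (.leaf 0) (.leaf 1)) (.node 1 (.leaf 0) (.node 1 (.leaf 2) (.leaf 2))))) (.node 5 (.node 2 (.node 1 (.leaf 0) (.leaf 0)) (.node 1 (.leaf 0) (.node 1 (.leaf 1) (.leaf 0)))) (.node 3 (.node 1 (.leaf 0) (.node 1 (.leaf 0) (.leaf 0))) (.node 1 (.leaf 5676075) (.node 1 (.leaf 0) (.leaf 1578855)))))) (.node 10 (.node 5 (.node 2 (.node 1 (.leaf 1) (.leaf 5382763)) (.node 1 (.leaf 0) (.node 1 (.leaf 1) (.leaf 0)))) (.node 2 (.node 1 (.leaf 1) (.leaf 0)) (.node 1 (.leaf 2) (.node 1 (.leaf 1) (.leaf 0))))) (.node 5 (.node 2 (.node 1 (.leaf 0) (.leaf 2)) (.node 1 (.leaf 1) (.node 1 (.leaf 0) (.leaf 0)))) (.node 3 (.node 1 (.leaf 0) (.node 1 (.leaf 0) (.leaf 2))) (.node 1 (.leaf 2) (.node 1 (.leaf 0) (.leaf 2)))))))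

def classList1Part15 : Tbl ℕ :=
  (.node 21 (.node 10 (.node 5 (.node 2 (.node 1 (.leaf 1) (.leaf 0)) (.node 1 (.leaf 0) (.node 1 (.leaf 1837343) (.leaf 0)))) (.node 2 (.node 1 (.leaf 0) (.leaf 0)) (.node 1 (.leaf 0) (.node 1 (.leaf 0) (.leaf 0))))) (.node 5 (.node 2 (.node 1 (.leaf 0) (.leaf 0)) (.node 1 (.leaf 2814439) (.node 1 (.leaf 2) (.leaf 0)))) (.node 3 (.node 1 (.leaf 1) (.node 1 (.leaf 1) (.leaf 0))) (.node 1 (.leaf 0) (.node 1 (.leaf 1) (.leaf 1)))))) (.node 10 (.node 5 (.node 2 (.node 1 (.leaf 1) (.leaf 2)) (.node 1 (.leaf 0) (.node 1 (.leaf 2) (.leaf 0)))) (.node 2 (.node 1 (.leaf 0) (.leaf 0)) (.node 1 (.leaf 1) (.node 1 (.leaf 0) (.leaf 0))))) (.node 5 (.node 2 (.node 1 (.leaf 0) (.leaf 1)) (.node 1 (.leaf 2) (.node 1 (.leaf 0) (.leaf 0)))) (.node 3 (.node 1 (.leaf 1) (.node 1 (.leaf 0) (.leaf 0))) (.node 1 (.leaf 0) (.node 1 (.leaf 0) (.leaf 0)))))))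

def classList1Part16 : Tbl ℕ :=
  (.node 21 (.node 10 (.node 5 (.node 2 (.node 1 (.leaf 1) (.leaf 1)) (.node 1 (.leaf 0) (.node 1 (.leaf 2) (.leaf 0)))) (.node 2 (.node 1 (.leaf 2) (.leaf 0)) (.node 1 (.leaf 1) (.node 1 (.leaf 1) (.leaf 0))))) (.node 5 (.node 2 (.node 1 (.leaf 2) (.leaf 1)) (.node 1 (.leaf 0) (.node 1 (.leaf 0) (.leaf 0)))) (.node 3 (.node 1 (.leaf 0) (.node 1 (.leaf 1) (.leaf 0))) (.node 1 (.leaf 2) (.node 1 (.leaf 0) (.leaf 1)))))) (.node 10 (.node 5 (.node 2 (.node 1 (.leaf 0) (.leaf 2)) (.node 1 (.leaf 1) (.node 1 (.leaf 0) (.leaf 0)))) (.node 2 (.node 1 (.leaf 0) (.leaf 1)) (.node 1 (.leaf 1) (.node 1 (.leaf 0) (.leaf 0))))) (.node 5 (.node 2 (.node 1 (.leaf 2) (.leaf 0)) (.node 1 (.leaf 1) (.node 1 (.leaf 0) (.leaf 2)))) (.node 3 (.node 1 (.leaf 0) (.node 1 (.leaf 0) (.leaf 6824743))) (.node 1 (.leaf 2) (.node 1 (.leaf 1) (.leaf 2)))))))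

def classList1Part17 : Tbl ℕ :=
  (.node 21 (.node 10 (.node 5 (.node 2 (.node 1 (.leaf 0) (.leaf 0)) (.node 1 (.leaf 1) (.node 1 (.leaf 0) (.leaf 1)))) (.node 2 (.node 1 (.leaf 0) (.leaf 0)) (.node 1 (.leaf 2) (.node 1 (.leaf 1650831) (.leaf 1))))) (.node 5 (.node 2 (.node 1 (.leaf 431007) (.leaf 0)) (.node 1 (.leaf 0) (.node 1 (.leaf 0) (.leaf 0)))) (.node 3 (.node 1 (.leaf 0) (.node 1 (.leaf 0) (.leaf 0))) (.node 1 (.leaf 0) (.node 1 (.leaf 0) (.leaf 1)))))) (.node 10 (.node 5 (.node 2 (.node 1 (.leaf 0) (.leaf 0)) (.node 1 (.leaf 0) (.node 1 (.leaf 0) (.leaf 4613163)))) (.node 2 (.node 1 (.leaf 0) (.leaf 1)) (.node 1 (.leaf 0) (.node 1 (.leaf 2) (.leaf 1))))) (.node 5 (.node 2 (.node 1 (.leaf 2) (.leaf 2)) (.node 1 (.leaf 0) (.node 1 (.leaf 0) (.leaf 0)))) (.node 3 (.node 1 (.leaf 0) (.node 1 (.leaf 1) (.leaf 0))) (.node 1 (.leaf 1) (.node 1 (.leaf 0) (.leaf 0)))))))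

def classList1Part18 : Tbl ℕ :=
  (.node 21 (.node 10 (.node 5 (.node 2 (.node 1 (.leaf 0) (.leaf 0)) (.node 1 (.leaf 0) (.node 1 (.leaf 0) (.leaf 2)))) (.node 2 (.node 1 (.leaf 0) (.leaf 0)) (.node 1 (.leaf 0) (.node 1 (.leaf 0) (.leaf 6969435))))) (.node 5 (.node 2 (.node 1 (.leaf 2) (.leaf 0)) (.node 1 (.leaf 0) (.node 1 (.leaf 0) (.leaf 1)))) (.node 3 (.node 1 (.leaf 0) (.node 1 (.leaf 2) (.leaf 0))) (.node 1 (.leaf 1) (.node 1 (.leaf 0) (.leaf 0)))))) (.node 10 (.node 5 (.node 2 (.node 1 (.leaf 0) (.leaf 0)) (.node 1 (.leaf 1) (.node 1 (.leaf 0) (.leaf 0)))) (.node 2 (.node 1 (.leaf 2) (.leaf 0)) (.node 1 (.leaf 2) (.node 1 (.leaf 0) (.leaf 2))))) (.node 5 (.node 2 (.node 1 (.leaf 0) (.leaf 0)) (.node 1 (.leaf 0) (.node 1 (.leaf 1) (.leaf 0)))) (.node 3 (.node 1 (.leaf 0) (.node 1 (.leaf 2) (.leaf 0))) (.node 1 (.leaf 1) (.node 1 (.leaf 0) (.leaf 2)))))))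

def classList1Part19 : Tbl ℕ :=
  (.node 21 (.node 10 (.node 5 (.node 2 (.node 1 (.leaf 0) (.leaf 0)) (.node 1 (.leaf 0) (.node 1 (.leaf 0) (.leaf 2)))) (.node 2 (.node 1 (.leaf 6330763) (.leaf 0)) (.node 1 (.leaf 0) (.node 1 (.leaf 0) (.leaf 0))))) (.node 5 (.node 2 (.node 1 (.leaf 1) (.leaf 2)) (.node 1 (.leaf 7342291) (.node 1 (.leaf 0) (.leaf 1)))) (.node 3 (.node 1 (.leaf 1) (.node 1 (.leaf 0) (.leaf 1))) (.node 1 (.leaf 0) (.node 1 (.leaf 1) (.leaf 2)))))) (.node 10 (.node 5 (.node 2 (.node 1 (.leaf 1) (.leaf 0)) (.node 1 (.leaf 1) (.node 1 (.leaf 0) (.leaf 0)))) (.node 2 (.node 1 (.leaf 0) (.leaf 0)) (.node 1 (.leaf 0) (.node 1 (.leaf 0) (.leaf 0))))) (.node 5 (.node 2 (.node 1 (.leaf 0) (.leaf 1)) (.node 1 (.leaf 0) (.node 1 (.leaf 1) (.leaf 2)))) (.node 3 (.node 1 (.leaf 8041999) (.node 1 (.leaf 0) (.leaf 2))) (.node 1 (.leaf 0) (.node 1 (.leaf 0) (.leaf 0)))))))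

def classList1Part20 : Tbl ℕ :=
  (.node 21 (.node 10 (.node 5 (.node 2 (.node 1 (.leaf 0) (.leaf 0)) (.node 1 (.leaf 0) (.node 1 (.leaf 1) (.leaf 2)))) (.node 2 (.node 1 (.leaf 3082263) (.leaf 1)) (.node 1 (.leaf 0) (.node 1 (.leaf 0) (.leaf 2))))) (.node 5 (.node 2 (.node 1 (.leaf 0) (.leaf 0)) (.node 1 (.leaf 0) (.node 1 (.leaf 1) (.leaf 0)))) (.node 3 (.node 1 (.leaf 0) (.node 1 (.leaf 2) (.leaf 2))) (.node 1 (.leaf 0) (.node 1 (.leaf 2) (.leaf 0)))))) (.node 10 (.node 5 (.node 2 (.node 1 (.leaf 0) (.leaf 0)) (.node 1 (.leaf 0) (.node 1 (.leaf 2) (.leaf 2)))) (.node 2 (.node 1 (.leaf 0) (.leaf 1)) (.node 1 (.leaf 0) (.node 1 (.leaf 1) (.leaf 1))))) (.node 5 (.node 2 (.node 1 (.leaf 0) (.leaf 0)) (.node 1 (.leaf 2) (.node 1 (.leaf 0) (.leaf 0)))) (.node 3 (.node 1 (.leaf 0) (.node 1 (.leaf 0) (.leaf 0))) (.node 1 (.leaf 0) (.node 1 (.leaf 0) (.leaf 1)))))))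

def classList1Part21 : Tbl ℕ :=
  (.node 21 (.node 10 (.node 5 (.node 2 (.node 1 (.leaf 0) (.leaf 0)) (.node 1 (.leaf 7634543) (.node 1 (.leaf 0) (.leaf 0)))) (.node 2 (.node 1 (.leaf 0) (.leaf 0)) (.node 1 (.leaf 0) (.node 1 (.leaf 2) (.leaf 0))))) (.node 5 (.node 2 (.node 1 (.leaf 7941079) (.leaf 0)) (.node 1 (.leaf 3682667) (.node 1 (.leaf 2) (.leaf 0)))) (.node 3 (.node 1 (.leaf 0) (.node 1 (.leaf 1) (.leaf 0))) (.node 1 (.leaf 0) (.node 1 (.leaf 0) (.leaf 2)))))) (.node 10 (.node 5 (.node 2 (.node 1 (.leaf 2) (.leaf 1)) (.node 1 (.leaf 0) (.node 1 (.leaf 2) (.leaf 0)))) (.node 2 (.node 1 (.leaf 1) (.leaf 2)) (.node 1 (.leaf 1372831) (.node 1 (.leaf 0) (.leaf 4362703))))) (.node 5 (.node 2 (.node 1 (.leaf 0) (.leaf 0)) (.node 1 (.leaf 1) (.node 1 (.leaf 0) (.leaf 0)))) (.node 3 (.node 1 (.leaf 1) (.node 1 (.leaf 1) (.leaf 8456983))) (.node 1 (.leaf 0) (.node 1 (.leaf 5952307) (.leaf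 1)))))))

def classList1Part22 : Tbl ℕ :=
  (.node 21 (.node 10 (.node 5 (.node 2 (.node 1 (.leaf 1) (.leaf 0)) (.node 1 (.leaf 0) (.node 1 (.leaf 1) (.leaf 0)))) (.node 2 (.node 1 (.leaf 1) (.leaf 1)) (.node 1 (.leaf 0) (.node 1 (.leaf 2) (.leaf 0))))) (.node 5 (.node 2 (.node 1 (.leaf 0) (.leaf 1)) (.node 1 (.leaf 0) (.node 1 (.leaf 0) (.leaf 1)))) (.node 3 (.node 1 (.leaf 0) (.node 1 (.leaf 0) (.leaf 0))) (.node 1 (.leaf 0) (.node 1 (.leaf 814291) (.leaf 0)))))) (.node 10 (.node 5 (.node 2 (.node 1 (.leaf 0) (.leaf 0)) (.node 1 (.leaf 0) (.node 1 (.leaf 0) (.leaf 0)))) (.node 2 (.node 1 (.leaf 0) (.leaf 2)) (.node 1 (.leaf 0) (.node 1 (.leaf 0) (.leaf 0))))) (.node 5 (.node 2 (.node 1 (.leaf 0) (.leaf 0)) (.node 1 (.leaf 2625011) (.node 1 (.leaf 2) (.leaf 1)))) (.node 3 (.node 1 (.leaf 2) (.node 1 (.leaf 0) (.leaf 0))) (.node 1 (.leaf 0) (.node 1 (.leaf 1) (.leaf 1)))))))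

def classList1Part23 : Tbl ℕ :=
  (.node 21 (.node 10 (.node 5 (.node 2 (.node 1 (.leaf 0) (.leaf 2)) (.node 1 (.leaf 1) (.node 1 (.leaf 0) (.leaf 1)))) (.node 2 (.node 1 (.leaf 1) (.leaf 1)) (.node 1 (.leaf 0) (.node 1 (.leaf 1) (.leaf 0))))) (.node 5 (.node 2 (.node 1 (.leaf 2) (.leaf 0)) (.node 1 (.leaf 0) (.node 1 (.leaf 0) (.leaf 0)))) (.node 3 (.node 1 (.leaf 0) (.node 1 (.leaf 0) (.leaf 0))) (.node 1 (.leaf 0) (.node 1 (.leaf 0) (.leaf 1)))))) (.node 10 (.node 5 (.node 2 (.node 1 (.leaf 0) (.leaf 2)) (.node 1 (.leaf 0) (.node 1 (.leaf 1) (.leaf 0)))) (.node 2 (.node 1 (.leaf 1) (.leaf 0)) (.node 1 (.leaf 2) (.node 1 (.leaf 1) (.leaf 1))))) (.node 5 (.node 2 (.node 1 (.leaf 0) (.leaf 0)) (.node 1 (.leaf 1) (.node 1 (.leaf 7759587) (.leaf 1)))) (.node 3 (.node 1 (.leaf 0) (.node 1 (.leaf 1) (.leaf 1))) (.node 1 (.leaf 0) (.node 1 (.leaf 1) (.leaf 0)))))))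

def classList1Part24 : Tbl ℕ :=
  (.node 21 (.node 10 (.node 5 (.node 2 (.node 1 (.leaf 0) (.leaf 2)) (.node 1 (.leaf 0) (.node 1 (.leaf 0) (.leaf 0)))) (.node 2 (.node 1 (.leaf 2) (.leaf 1)) (.node 1 (.leaf 0) (.node 1 (.leaf 0) (.leaf 1))))) (.node 5 (.node 2 (.node 1 (.leaf 0) (.leaf 0)) (.node 1 (.leaf 0) (.node 1 (.leaf 0) (.leaf 0)))) (.node 3 (.node 1 (.leaf 0) (.node 1 (.leaf 3084063) (.leaf 2))) (.node 1 (.leaf 0) (.node 1 (.leaf 2) (.leaf 1)))))) (.node 10 (.node 5 (.node 2 (.node 1 (.leaf 2) (.leaf 0)) (.node 1 (.leaf 2) (.node 1 (.leaf 0) (.leaf 0)))) (.node 2 (.node 1 (.leaf 2) (.leaf 1)) (.node 1 (.leaf 0) (.node 1 (.leaf 1) (.leaf 1))))) (.node 5 (.node 2 (.node 1 (.leaf 1) (.leaf 1)) (.node 1 (.leaf 0) (.node 1 (.leaf 1) (.leaf 0)))) (.node 3 (.node 1 (.leaf 0) (.node 1 (.leaf 2) (.leaf 0))) (.node 1 (.leaf 1259607) (.node 1 (.leaf 0) (.leaf 2155099)))))))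

def classList1Part25 : Tbl ℕ :=
  (.node 21 (.node 10 (.node 5 (.node 2 (.node 1 (.leaf 1) (.leaf 7012119)) (.node 1 (.leaf 2018251) (.node 1 (.leaf 0) (.leaf 0)))) (.node 2 (.node 1 (.leaf 2) (.leaf 0)) (.node 1 (.leaf 0) (.node 1 (.leaf 0) (.leaf 818191))))) (.node 5 (.node 2 (.node 1 (.leaf 0) (.leaf 2)) (.node 1 (.leaf 4467399) (.node 1 (.leaf 0) (.leaf 179355)))) (.node 3 (.node 1 (.leaf 0) (.node 1 (.leaf 0) (.leaf 2))) (.node 1 (.leaf 0) (.node 1 (.leaf 2946651) (.leaf 0)))))) (.node 10 (.node 5 (.node 2 (.node 1 (.leaf 0) (.leaf 0)) (.node 1 (.leaf 0) (.node 1 (.leaf 0) (.leaf 0)))) (.node 2 (.node 1 (.leaf 2) (.leaf 1)) (.node 1 (.leaf 0) (.node 1 (.leaf 0) (.leaf 0))))) (.node 5 (.node 2 (.node 1 (.leaf 1) (.leaf 0)) (.node 1 (.leaf 1) (.node 1 (.leaf 0) (.leaf 0)))) (.node 3 (.node 1 (.leaf 2) (.node 1 (.leaf 2) (.leaf 0))) (.node 1 (.leaf 0) (.node 1 (.leaf 0) (.leaf 1)))))))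

def classList1Part26 : Tbl ℕ :=
  (.node 21 (.node 10 (.node 5 (.node 2 (.node 1 (.leaf 3975499) (.leaf 1)) (.node 1 (.leaf 1) (.node 1 (.leaf 0) (.leaf 1)))) (.node 2 (.node 1 (.leaf 2) (.leaf 0)) (.node 1 (.leaf 0) (.node 1 (.leaf 0) (.leaf 0))))) (.node 5 (.node 2 (.node 1 (.leaf 1) (.leaf 0)) (.node 1 (.leaf 0) (.node 1 (.leaf 0) (.leaf 0)))) (.node 3 (.node 1 (.leaf 0) (.node 1 (.leaf 2239051) (.leaf 0))) (.node 1 (.leaf 2) (.node 1 (.leaf 0) (.leaf 0)))))) (.node 10 (.node 5 (.node 2 (.node 1 (.leaf 0) (.leaf 1)) (.node 1 (.leaf 0) (.node 1 (.leaf 0) (.leaf 2)))) (.node 2 (.node 1 (.leaf 0) (.leaf 0)) (.node 1 (.leaf 0) (.node 1 (.leaf 0) (.leaf 1))))) (.node 5 (.node 2 (.node 1 (.leaf 1) (.leaf 0)) (.node 1 (.leaf 0) (.node 1 (.leaf 0) (.leaf 1)))) (.node 3 (.node 1 (.leaf 1) (.node 1 (.leaf 0) (.leaf 0))) (.node 1 (.leaf 0) (.node 1 (.leaf 0) (.leaf 0)))))))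

def classList1Part27 : Tbl ℕ :=
  (.node 21 (.node 10 (.node 5 (.node 2 (.node 1 (.leaf 0) (.leaf 0)) (.node 1 (.leaf 0) (.node 1 (.leaf 1) (.leaf 0)))) (.node 2 (.node 1 (.leaf 1) (.leaf 0)) (.node 1 (.leaf 1) (.node 1 (.leaf 0) (.leaf 1))))) (.node 5 (.node 2 (.node 1 (.leaf 2) (.leaf 1)) (.node 1 (.leaf 0) (.node 1 (.leaf 3706987) (.leaf 1)))) (.node 3 (.node 1 (.leaf 1) (.node 1 (.leaf 0) (.leaf 0))) (.node 1 (.leaf 2) (.node 1 (.leaf 0) (.leaf 0)))))) (.node 10 (.node 5 (.node 2 (.node 1 (.leaf 0) (.leaf 1)) (.node 1 (.leaf 0) (.node 1 (.leaf 1707547) (.leaf 1)))) (.node 2 (.node 1 (.leaf 0) (.leaf 1)) (.node 1 (.leaf 0) (.node 1 (.leaf 0) (.leaf 2))))) (.node 5 (.node 2 (.node 1 (.leaf 5795015) (.leaf 1)) (.node 1 (.leaf 0) (.node 1 (.leaf 0) (.leaf 2)))) (.node 3 (.node 1 (.leaf 2774995) (.node 1 (.leaf 0) (.leaf 1))) (.node 1 (.leaf 0) (.node 1 (.leaf 0) (.leaf 2)))))))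

def classList1Part28 : Tbl ℕ :=
  (.node 21 (.node 10 (.node 5 (.node 2 (.node 1 (.leaf 1598043) (.leaf 0)) (.node 1 (.leaf 0) (.node 1 (.leaf 0) (.leaf 678955)))) (.node 2 (.node 1 (.leaf 1) (.leaf 0)) (.node 1 (.leaf 1) (.node 1 (.leaf 6611043) (.leaf 0))))) (.node 5 (.node 2 (.node 1 (.leaf 0) (.leaf 1)) (.node 1 (.leaf 1) (.node 1 (.leaf 0) (.leaf 0)))) (.node 3 (.node 1 (.leaf 2) (.node 1 (.leaf 0) (.leaf 0))) (.node 1 (.leaf 0) (.node 1 (.leaf 6951767) (.leaf 1)))))) (.node 10 (.node 5 (.node 2 (.node 1 (.leaf 0) (.leaf 1)) (.node 1 (.leaf 1) (.node 1 (.leaf 1) (.leaf 2)))) (.node 2 (.node 1 (.leaf 0) (.leaf 5980167)) (.node 1 (.leaf 1) (.node 1 (.leaf 0) (.leaf 2533599))))) (.node 5 (.node 2 (.node 1 (.leaf 0) (.leaf 0)) (.node 1 (.leaf 1) (.node 1 (.leaf 0) (.leaf 2)))) (.node 3 (.node 1 (.leaf 1) (.node 1 (.leaf 1) (.leaf 2))) (.node 1 (.leaf 0) (.node 1 (.leaf 0) (.leaf 3875547)))))))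

def classList1Part29 : Tbl ℕ :=
  (.node 21 (.node 10 (.node 5 (.node 2 (.node 1 (.leaf 0) (.leaf 1)) (.node 1 (.leaf 3843559) (.node 1 (.leaf 0) (.leaf 0)))) (.node 2 (.node 1 (.leaf 0) (.leaf 2)) (.node 1 (.leaf 2) (.node 1 (.leaf 0) (.leaf 0))))) (.node 5 (.node 2 (.node 1 (.leaf 0) (.leaf 1)) (.node 1 (.leaf 0) (.node 1 (.leaf 1) (.leaf 0)))) (.node 3 (.node 1 (.leaf 0) (.node 1 (.leaf 0) (.leaf 1))) (.node 1 (.leaf 0) (.node 1 (.leaf 1598703) (.leaf 0)))))) (.node 10 (.node 5 (.node 2 (.node 1 (.leaf 1) (.leaf 0)) (.node 1 (.leaf 2) (.node 1 (.leaf 2525863) (.leaf 2)))) (.node 2 (.node 1 (.leaf 0) (.leaf 1)) (.node 1 (.leaf 0) (.node 1 (.leaf 0) (.leaf 2))))) (.node 5 (.node 2 (.node 1 (.leaf 0) (.leaf 0)) (.node 1 (.leaf 0) (.node 1 (.leaf 0) (.leaf 6332131)))) (.node 3 (.node 1 (.leaf 0) (.node 1 (.leaf 0) (.leaf 0))) (.node 1 (.leaf 1) (.node 1 (.leaf 1) (.leaf 0)))))))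

def classList1Part30 : Tbl ℕ :=
  (.node 21 (.node 10 (.node 5 (.node 2 (.node 1 (.leaf 0) (.leaf 4136723)) (.node 1 (.leaf 1) (.node 1 (.leaf 2) (.leaf 2)))) (.node 2 (.node 1 (.leaf 1) (.leaf 0)) (.node 1 (.leaf 1) (.node 1 (.leaf 0) (.leaf 0))))) (.node 5 (.node 2 (.node 1 (.leaf 0) (.leaf 0)) (.node 1 (.leaf 7143243) (.node 1 (.leaf 0) (.leaf 0)))) (.node 3 (.node 1 (.leaf 0) (.node 1 (.leaf 0) (.leaf 0))) (.node 1 (.leaf 2) (.node 1 (.leaf 0) (.leaf 1)))))) (.node 10 (.node 5 (.node 2 (.node 1 (.leaf 0) (.leaf 0)) (.node 1 (.leaf 6313355) (.node 1 (.leaf 0) (.leaf 1)))) (.node 2 (.node 1 (.leaf 1) (.leaf 0)) (.node 1 (.leaf 0) (.node 1 (.leaf 2) (.leaf 0))))) (.node 5 (.node 2 (.node 1 (.leaf 0) (.leaf 0)) (.node 1 (.leaf 2) (.node 1 (.leaf 0) (.leaf 0)))) (.node 3 (.node 1 (.leaf 0) (.node 1 (.leaf 2) (.leaf 2))) (.node 1 (.leaf 0) (.node 1 (.leaf 0) (.leaf 0)))))))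

def classList1Part31 : Tbl ℕ :=
  (.node 21 (.node 10 (.node 5 (.node 2 (.node 1 (.leaf 1) (.leaf 0)) (.node 1 (.leaf 1) (.node 1 (.leaf 0) (.leaf 0)))) (.node 2 (.node 1 (.leaf 2) (.leaf 0)) (.node 1 (.leaf 0) (.node 1 (.leaf 2) (.leaf 0))))) (.node 5 (.node 2 (.node 1 (.leaf 0) (.leaf 0)) (.node 1 (.leaf 0) (.node 1 (.leaf 0) (.leaf 0)))) (.node 3 (.node 1 (.leaf 2) (.node 1 (.leaf 0) (.leaf 0))) (.node 1 (.leaf 0) (.node 1 (.leaf 0) (.leaf 2)))))) (.node 10 (.node 5 (.node 2 (.node 1 (.leaf 0) (.leaf 1)) (.node 1 (.leaf 2) (.node 1 (.leaf 0) (.leaf 1)))) (.node 2 (.node 1 (.leaf 0) (.leaf 0)) (.node 1 (.leaf 0) (.node 1 (.leaf 0) (.leaf 1))))) (.node 5 (.node 2 (.node 1 (.leaf 0) (.leaf 0)) (.node 1 (.leaf 2) (.node 1 (.leaf 0) (.leaf 2)))) (.node 3 (.node 1 (.leaf 0) (.node 1 (.leaf 5428627) (.leaf 0))) (.node 1 (.leaf 0) (.node 1 (.leaf 0) (.leaf 2)))))))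

def classList1 : Tbl ℕ :=
  (.node 672 (.node 336 (.node 168 (.node 84 (.node 42 classList1Part0 classList1Part1) (.node 42 classList1Part2 classList1Part3)) (.node 84 (.node 42 classList1Part4 classList1Part5) (.node 42 classList1Part6 classList1Part7))) (.node 168 (.node 84 (.node 42 classList1Part8 classList1Part9) (.node 42 classList1Part10 classList1Part11)) (.node 84 (.node 42 classList1Part12 classList1Part13) (.node 42 classList1Part14 classList1Part15)))) (.node 336 (.node 168 (.node 84 (.node 42 classList1Part16 classList1Part17) (.node 42 classList1Part18 classList1Part19)) (.node 84 (.node 42 classList1Part20 classList1Part21) (.node 42 classList1Part22 classList1Part23))) (.node 168 (.node 84 (.node 42 classList1Part24 classList1Part25) (.node 42 classList1Part26 classList1Part27)) (.node 84 (.node 42 classList1Part28 classList1Part29) (.node 42 classList1Part30 classList1Part31)))))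

end Cfsg.Agent.Lib.SuzEightExt
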