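import Cfsg.Agent.Lib.SuzEightExt.Data
import Mathlib.GroupTheory.OrderOfElement

/-!
The group Sz(8):3 generated by two semilinear maps of the natural module, as automorphisms of bit strings
of length twelve. It lies in 65 cosets of a set of 1344 maps closed under composition (two double
cosets); hence every element satisfies `g ^ n = 1` for some `n` in 12, 15, 7, 13, and in the last case
is conjugate to a power of one fixed element.
-/

set_option autoImplicit false

namespace Cfsg.Agent.Lib.SuzEightExt

open Cfsg.Agent.Lib.G2Natural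

/-- Automorphisms of bit strings of length twelve. -/
abbrev Auto12 := (AddMonoid.End Bit12)ˣ

theorem genX_inv_left : eqR (compR genX genXInv) bitId = true := by decide +kernel
theorem genX_inv_right : eqR (compR genXInv genX) bitId = true := by decide +kernel
theorem genY_inv_left : eqR (compR genY genYInv) bitId = true := by decide +kernel
theorem genY_inv_right : eqR (compR genYInv genY) bitId = true := by decide +kernel
theorem gens_bounded :
    (boundedR genX && boundedR genXInv && boundedR genY && boundedR genYInv) = true := by decide +kernel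

theorem bitEnd_compR {A B : List ℕ} (hB : BitBounded B) : bitEnd (compR A B) = bitEnd A * bitEnd B := by
  rw [compR_eq, bitEnd_comp hB]

theorem bitEnd_mul_eq_one {A B : List ℕ} (hB : boundedR B = true) (h : eqR (compR A B) bitId = true) :
    bitEnd A * bitEnd B = 1 := by
  rw [← bitEnd_compR (bounded_of_boundedR hB), eq_of_eqR h, bitEnd_id]

/-- The first generator. -/
def unitX : Auto12 :=
  ⟨bitEnd genX, bitEnd genXInv,
    bitEnd_mul_eq_one (by decide +kernel) genX_inv_left, bitEnd_mul_eq_one (by decide +kernel) genX_inv_right⟩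

/-- The second generator. -/
def unitY : Auto12 :=
  ⟨bitEnd genY, bitEnd genYInv,
    bitEnd_mul_eq_one (by decide +kernel) genY_inv_left, bitEnd_mul_eq_one (by decide +kernel) genY_inv_right⟩

/-- The group. -/
def szExt : Subgroup Auto12 := Subgroup.closure {unitX, unitY}

/-- A word in the generators (`true` stands for the second). -/
def wordU : List Bool → Auto12
  | [] => 1
  | b :: w => (bif b then unitY else unitX) * wordU w

/-- The map of a word. -/
noncomputable def wordL : List Bool → List ℕ
  | [] => bitId
  | b :: w => compR (bif b then genY else genX) (wordL w)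

theorem wordL_bounded : ∀ w : List Bool, BitBounded (wordL w)
  | [] => by unfold BitBounded wordL bitId; simp
  | b :: w => by
    rw [wordL, compR_eq]
    refine bitBounded_comp ?_
    have h := gens_bounded
    simp only [Bool.and_eq_true] at h
    cases b
    · exact bounded_of_boundedR h.1.1.1
    · exact bounded_of_boundedR h.1.2

theorem bitEnd_wordL : ∀ w : List Bool, bitEnd (wordL w) = (wordU w : AddMonoid.End Bit12)
  | [] => bitEnd_id
  | b :: w => by
    rw [wordL, wordU, bitEnd_compR (wordL_bounded w), bitEnd_wordL w, Units.val_mul]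
    cases b <;> rfl

theorem wordU_mem : ∀ w : List Bool, wordU w ∈ szExt
  | [] => one_mem _
  | b :: w => mul_mem (by cases b <;> exact Subgroup.subset_closure (by simp)) (wordU_mem w)

/-- First component of a packed pair. -/
noncomputable def fstP (t : ℕ) : ℕ := Nat.div t 2048

/-- Second component of a packed pair. -/
noncomputable def sndP (t : ℕ) : ℕ := Nat.mod t 2048

/-- A generator of the stabiliser by index. -/
noncomputable def stabGen (t : ℕ) : List ℕ :=
  Bool.rec (motive := fun _ => List ℕ) stabB stabA (Nat.beq t 0)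

/-- The double coset representatives. -/
noncomputable def dblWord (k : ℕ) : List Bool :=
  Bool.rec (motive := fun _ => List Bool) wordDbl [] (Nat.beq k 0)

/-- Powers of a map. -/
noncomputable def powList (A : List ℕ) (n : ℕ) : List ℕ :=
  Nat.rec (motive := fun _ => List ℕ) bitId (fun _ r => compR A r) n

noncomputable def stabTreeRow (i : ℕ) : Bool :=
  boundedR (stabList.get i) &&
  bif Nat.beq i 0 then eqR (stabList.get i) bitId
  else Nat.blt (sndP (stabTree.get i)) i &&
    eqR (stabList.get i) (compR (stabGen (fstP (stabTree.get i))) (stabList.get (sndP (stabTree.get i))))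

noncomputable def stabStepRow (i : ℕ) : Bool :=
  Nat.blt (fstP (stabStep.get i)) 1344 && Nat.blt (sndP (stabStep.get i)) 1344 &&
    eqR (compR stabA (stabList.get i)) (stabList.get (fstP (stabStep.get i))) &&
    eqR (compR stabB (stabList.get i)) (stabList.get (sndP (stabStep.get i)))

noncomputable def repTreeRow (i : ℕ) : Bool :=
  boundedR (repList.get i) &&
  bif Nat.beq (fstP (repTree.get i)) 2 then
    Nat.blt (sndP (repTree.get i)) 2 && eqR (repList.get i) (wordL (dblWord (sndP (repTree.get i))))
  else Nat.blt (sndP (repTree.get i)) i &&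
    eqR (repList.get i) (compR (stabGen (fstP (repTree.get i))) (repList.get (sndP (repTree.get i))))

noncomputable def repStepRow (g : List ℕ) (T : Tbl ℕ) (i : ℕ) : Bool :=
  Nat.blt (fstP (T.get i)) 65 && Nat.blt (sndP (T.get i)) 1344 &&
    eqR (compR g (repList.get i)) (compR (repList.get (fstP (T.get i))) (stabList.get (sndP (T.get i))))

/-- The exponents. -/
def expOf (e : ℕ) : ℕ := [12, 15, 7, 13].getD e 0

/-- `d * h` has the listed exponent and, if this is 13, is conjugate to a power of the fixed element. -/
noncomputable def classRow (k : ℕ) (T : Tbl ℕ) (i : ℕ) : Bool :=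
  let c := compR (wordL (dblWord k)) (stabList.get i)
  let v := T.get i
  eqR (powList c (expOf (v % 4))) bitId &&
  bif Nat.beq (v % 4) 3 then
    Nat.blt (fstP (v / 4 / 16)) 65 && Nat.blt (sndP (v / 4 / 16)) 1344 &&
    Nat.beq ((v / 4 % 16) ^ 12 % 13) 1 &&
    eqR (compR c (compR (repList.get (fstP (v / 4 / 16))) (stabList.get (sndP (v / 4 / 16)))))
      (compR (compR (repList.get (fstP (v / 4 / 16))) (stabList.get (sndP (v / 4 / 16))))
        (powList (wordL wordThirteen) (v / 4 % 16)))
  else true

theorem stabA_ok : eqR (wordL wordStabA) stabA = true := by decide +kernel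
theorem stabB_ok : eqR (wordL wordStabB) stabB = true := by decide +kernel
theorem thirteen_ok : eqR (powList (wordL wordThirteen) 13) bitId = true := by decide +kernel
theorem repBase_ok : eqR (repList.get 0) bitId = true := by decide +kernel
theorem stabTree_ok : (List.range 1344).all stabTreeRow = true := by decide +kernel
theorem stabStep_ok : (List.range 1344).all stabStepRow = true := by decide +kernel
theorem repTree_ok : (List.range 65).all repTreeRow = true := by decide +kernel
theorem repStepX_ok : (List.range 65).all (repStepRow genX repStepX) = true := by decide +kernel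
theorem repStepY_ok : (List.range 65).all (repStepRow genY repStepY) = true := by decide +kernel
theorem class0_ok : (List.range 1344).all (classRow 0 classList0) = true := by decide +kernel
theorem class1_ok : (List.range 1344).all (classRow 1 classList1) = true := by decide +kernel

attribute [local irreducible] compR Tbl.get wordL powList bitEnd eqR boundedR

theorem of_range_all {n : ℕ} {p : ℕ → Bool} (h : (List.range n).all p = true) {i : ℕ} (hi : i < n) :
    p i = true :=
  List.all_eq_true.1 h i (List.mem_range.2 hi)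

theorem beq_false_of_ne {a b : ℕ} (h : a ≠ b) : Nat.beq a b = false :=
  Bool.eq_false_iff.2 fun e => h (Nat.eq_of_beq_eq_true e)

theorem lt_of_blt {a b : ℕ} (h : Nat.blt a b = true) : a < b := by
  simpa [Nat.blt_eq] using h

theorem stabList_bounded {i : ℕ} (hi : i < 1344) : BitBounded (stabList.get i) := by
  have h := of_range_all stabTree_ok hi
  rw [stabTreeRow, Bool.and_eq_true] at h
  exact bounded_of_boundedR h.1

theorem repList_bounded {i : ℕ} (hi : i < 65) : BitBounded (repList.get i) := by
  have h := of_range_all repTree_ok hi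
  rw [repTreeRow, Bool.and_eq_true] at h
  exact bounded_of_boundedR h.1

theorem powList_bounded {A : List ℕ} (hA : BitBounded A) : ∀ n, BitBounded (powList A n)
  | 0 => by unfold BitBounded powList bitId; simp
  | n + 1 => by
    unfold powList
    rw [show (Nat.rec (motive := fun _ => List ℕ) bitId (fun _ r => compR A r) (n + 1) : List ℕ) =
      compR A (powList A n) by unfold powList; rfl, compR_eq]
    exact bitBounded_comp hA

theorem bitEnd_powList {A : List ℕ} (hA : BitBounded A) : ∀ n, bitEnd (powList A n) = bitEnd A ^ n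
  | 0 => by
    rw [pow_zero, ← bitEnd_id]
    unfold powList; rfl
  | n + 1 => by
    rw [show powList A (n + 1) = compR A (powList A n) by unfold powList; rfl,
      bitEnd_compR (powList_bounded hA n), bitEnd_powList hA n, pow_succ']

/-- An element whose map is in the list of the stabiliser. -/
def IsStab (h : Auto12) : Prop := ∃ i < 1344, (h : AddMonoid.End Bit12) = bitEnd (stabList.get i)

theorem exists_stabGen (t : ℕ) :
    ∃ g ∈ szExt, (g : AddMonoid.End Bit12) = bitEnd (stabGen t) ∧ ∀ h, IsStab h → IsStab (g * h) := by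
  by_cases ht : t = 0
  · refine ⟨wordU wordStabA, wordU_mem _, ?_, ?_⟩
    · rw [← bitEnd_wordL, eq_of_eqR stabA_ok, ht]; rfl
    · rintro h ⟨i, hi, hh⟩
      have hr := of_range_all stabStep_ok hi
      simp only [stabStepRow, Bool.and_eq_true] at hr
      refine ⟨_, lt_of_blt hr.1.1.1, ?_⟩
      rw [Units.val_mul, hh, ← bitEnd_wordL, eq_of_eqR stabA_ok, ← bitEnd_compR (stabList_bounded hi),
        eq_of_eqR hr.1.2]
  · refine ⟨wordU wordStabB, wordU_mem _, ?_, ?_⟩
    · rw [← bitEnd_wordL, eq_of_eqR stabB_ok, stabGen, beq_false_of_ne ht]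
    · rintro h ⟨i, hi, hh⟩
      have hr := of_range_all stabStep_ok hi
      simp only [stabStepRow, Bool.and_eq_true] at hr
      refine ⟨_, lt_of_blt hr.1.1.2, ?_⟩
      rw [Units.val_mul, hh, ← bitEnd_wordL, eq_of_eqR stabB_ok, ← bitEnd_compR (stabList_bounded hi),
        eq_of_eqR hr.2]

theorem isStab_one : IsStab 1 := by
  refine ⟨0, by norm_num, ?_⟩
  have h : stabTreeRow 0 = true := of_range_all stabTree_ok (by norm_num)
  simp only [stabTreeRow, Nat.beq_refl, cond_true, Bool.and_eq_true] at h
  rw [Units.val_one, eq_of_eqR h.2, bitEnd_id]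

theorem stab_mul : ∀ i < 1344, ∃ g ∈ szExt, (g : AddMonoid.End Bit12) = bitEnd (stabList.get i) ∧
    ∀ h, IsStab h → IsStab (g * h) := by
  intro i
  induction i using Nat.strong_induction_on with
  | _ i ih =>
    intro hi
    have hr := of_range_all stabTree_ok hi
    by_cases h0 : i = 0
    · subst h0
      simp only [stabTreeRow, Nat.beq_refl, cond_true, Bool.and_eq_true] at hr
      exact ⟨1, one_mem _, by rw [Units.val_one, eq_of_eqR hr.2, bitEnd_id], fun h hh => by rwa [one_mul]⟩
    · simp only [stabTreeRow, beq_false_of_ne h0, cond_false, Bool.and_eq_true] at hr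
      have hp := lt_of_blt hr.2.1
      obtain ⟨g, hgm, hg, hg'⟩ := exists_stabGen (fstP (stabTree.get i))
      obtain ⟨u, hum, hu, hu'⟩ := ih _ hp (by omega)
      refine ⟨g * u, mul_mem hgm hum, ?_, fun h hh => ?_⟩
      · rw [Units.val_mul, hg, hu, eq_of_eqR hr.2.2, bitEnd_compR (stabList_bounded (by omega))]
      · rw [mul_assoc]; exact hg' _ (hu' h hh)

theorem IsStab.mul {g h : Auto12} (hg : IsStab g) (hh : IsStab h) : IsStab (g * h) := by
  obtain ⟨i, hi, hgi⟩ := hg
  obtain ⟨g', -, hg', hmul⟩ := stab_mul i hi
  rw [Units.ext (hgi.trans hg'.symm)]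
  exact hmul h hh

theorem IsStab.mem {g : Auto12} (hg : IsStab g) : g ∈ szExt := by
  obtain ⟨i, hi, hgi⟩ := hg
  obtain ⟨g', hm, hg', -⟩ := stab_mul i hi
  rwa [Units.ext (hgi.trans hg'.symm)]

theorem rep_dbl : ∀ i < 65, ∃ w k, IsStab w ∧ k < 2 ∧
    ((w * wordU (dblWord k) : Auto12) : AddMonoid.End Bit12) = bitEnd (repList.get i) := by
  intro i
  induction i using Nat.strong_induction_on with
  | _ i ih =>
    intro hi
    have hr := of_range_all repTree_ok hi
    by_cases h2 : fstP (repTree.get i) = 2
    · simp only [repTreeRow, h2, Nat.beq_refl, cond_true, Bool.and_eq_true] at hr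
      refine ⟨1, _, isStab_one, lt_of_blt hr.2.1, ?_⟩
      rw [one_mul, eq_of_eqR hr.2.2, bitEnd_wordL]
    · simp only [repTreeRow, beq_false_of_ne h2, cond_false, Bool.and_eq_true] at hr
      obtain ⟨g, -, hg, hg'⟩ := exists_stabGen (fstP (repTree.get i))
      have hp := lt_of_blt hr.2.1
      obtain ⟨w, k, hw, hk, hwk⟩ := ih _ hp (by omega)
      refine ⟨g * w, k, hg' w hw, hk, ?_⟩
      rw [mul_assoc, Units.val_mul, hg, hwk, eq_of_eqR hr.2.2, bitEnd_compR (repList_bounded (by omega))]

/-- The union of the cosets. -/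
def InCosets (g : Auto12) : Prop :=
  ∃ i < 65, ∃ r h : Auto12, (r : AddMonoid.End Bit12) = bitEnd (repList.get i) ∧ IsStab h ∧ g = r * h

theorem inCosets_gen {x : Auto12} {c : List ℕ} {T : Tbl ℕ} (hx : (x : AddMonoid.End Bit12) = bitEnd c)
    (hT : (List.range 65).all (repStepRow c T) = true) {g : Auto12} (hg : InCosets g) :
    InCosets (x * g) := by
  obtain ⟨i, hi, r, h, hr, hh, rfl⟩ := hg
  have hrow := of_range_all hT hi
  simp only [repStepRow, Bool.and_eq_true] at hrow
  have hj := lt_of_blt hrow.1.1
  have hk := lt_of_blt hrow.1.2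
  obtain ⟨w, k, -, -, hs⟩ := rep_dbl _ hj
  obtain ⟨u, -, hu, humul⟩ := stab_mul _ hk
  refine ⟨_, hj, w * wordU (dblWord k), u * h, hs, humul h hh, ?_⟩
  have key : x * r = w * wordU (dblWord k) * u := by
    apply Units.ext
    rw [Units.val_mul, Units.val_mul (w * _) u, hx, hr, hs, hu, ← bitEnd_compR (repList_bounded hi),
      eq_of_eqR hrow.2, bitEnd_compR (stabList_bounded hk)]
  rw [← mul_assoc, key, mul_assoc]

theorem finite_auto12 : Finite Auto12 := by
  have : Finite (AddMonoid.End Bit12) :=
    Finite.of_injective (fun f : AddMonoid.End Bit12 => (f : Bit12 → Bit12)) DFunLike.coe_injective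
  exact Finite.of_injective (fun u : Auto12 => (u : AddMonoid.End Bit12)) fun _ _ h => Units.ext h

theorem inCosets_of_mem {g : Auto12} (hg : g ∈ szExt) : InCosets g := by
  have := finite_auto12
  rw [szExt, ← Subgroup.mem_toSubmonoid, Subgroup.closure_toSubmonoid_of_finite] at hg
  induction hg using Submonoid.closure_induction_left with
  | one =>
    exact ⟨0, by norm_num, 1, 1, by rw [Units.val_one, eq_of_eqR repBase_ok, bitEnd_id], isStab_one,
      (mul_one 1).symm⟩
  | mul_left s hs y _ ih =>
    rcases hs with rfl | rfl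
    · exact inCosets_gen rfl repStepX_ok ih
    · exact inCosets_gen rfl repStepY_ok ih

theorem bitEnd_thirteen : (bitEnd (wordL wordThirteen)) ^ 13 = 1 := by
  rw [← bitEnd_powList (wordL_bounded _), eq_of_eqR thirteen_ok, bitEnd_id]

theorem dbl_stab_class {k : ℕ} (hk : k < 2) {h : Auto12} (hh : IsStab h) :
    (∃ n ∈ [12, 15, 7], (wordU (dblWord k) * h) ^ n = 1) ∨
    (∃ u ∈ szExt, ∃ e m : ℕ, (wordU (dblWord k) * h) ^ 13 = 1 ∧
      wordU (dblWord k) * h * u = u * wordU wordThirteen ^ e ∧
      (wordU wordThirteen ^ e) ^ m = wordU wordThirteen) := by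
  obtain ⟨i, hi, hhi⟩ := hh
  have key : ∀ T : Tbl ℕ, (List.range 1344).all (classRow k T) = true →
      (∃ n ∈ [12, 15, 7], (wordU (dblWord k) * h) ^ n = 1) ∨
      (∃ u ∈ szExt, ∃ e m : ℕ, (wordU (dblWord k) * h) ^ 13 = 1 ∧
        wordU (dblWord k) * h * u = u * wordU wordThirteen ^ e ∧
        (wordU wordThirteen ^ e) ^ m = wordU wordThirteen) := by
    intro T hT
    have hr := of_range_all hT hi
    simp only [classRow, Bool.and_eq_true] at hr
    obtain ⟨hr1, hr2⟩ := hr
    have hcb : BitBounded (compR (wordL (dblWord k)) (stabList.get i)) := by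
      rw [compR_eq]; exact bitBounded_comp (wordL_bounded _)
    have hc : ((wordU (dblWord k) * h : Auto12) : AddMonoid.End Bit12) =
        bitEnd (compR (wordL (dblWord k)) (stabList.get i)) := by
      rw [bitEnd_compR (stabList_bounded hi), bitEnd_wordL, Units.val_mul, hhi]
    have hpow : (wordU (dblWord k) * h) ^ expOf (T.get i % 4) = 1 := by
      apply Units.ext
      rw [Units.val_pow_eq_pow_val, hc, ← bitEnd_powList hcb, eq_of_eqR hr1, bitEnd_id, Units.val_one]
    by_cases h3 : T.get i % 4 = 3
    · right
      simp only [h3, Nat.beq_refl, cond_true, Bool.and_eq_true] at hr2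
      obtain ⟨⟨⟨ha, hb⟩, he⟩, heq⟩ := hr2
      have ha := lt_of_blt ha
      have hb := lt_of_blt hb
      have he := Nat.eq_of_beq_eq_true he
      obtain ⟨w, j, hw, -, hwj⟩ := rep_dbl _ ha
      obtain ⟨u, hu, hub, -⟩ := stab_mul _ hb
      refine ⟨w * wordU (dblWord j) * u, mul_mem (mul_mem hw.mem (wordU_mem _)) hu,
        T.get i / 4 % 16, (T.get i / 4 % 16) ^ 11, by rwa [h3] at hpow, ?_, ?_⟩
      · apply Units.ext
        rw [Units.val_mul, hc, Units.val_mul (w * wordU (dblWord j) * u), Units.val_mul (w * _) u, hwj, hub,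
          Units.val_pow_eq_pow_val, ← bitEnd_wordL, ← bitEnd_compR (stabList_bounded hb),
          ← bitEnd_powList (wordL_bounded _), ← bitEnd_compR (powList_bounded (wordL_bounded _) _),
          ← bitEnd_compR (by rw [compR_eq]; exact bitBounded_comp (repList_bounded ha)), eq_of_eqR heq]
      · rw [← pow_mul, mul_comm, ← pow_succ]
        apply Units.ext
        rw [Units.val_pow_eq_pow_val, ← bitEnd_wordL, pow_eq_pow_mod _ bitEnd_thirteen, he, pow_one]
    · left
      refine ⟨_, ?_, hpow⟩
      have : T.get i % 4 < 4 := Nat.mod_lt _ (by norm_num)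
      generalize T.get i % 4 = e at this h3 ⊢
      interval_cases e <;> simp [expOf] at h3 ⊢
  interval_cases k
  · exact key _ class0_ok
  · exact key _ class1_ok

/-- Every element has order dividing 12, 15 or 7, or is conjugate to a generating power of the fixed
element of order thirteen. -/
theorem class_of_mem {g : Auto12} (hg : g ∈ szExt) :
    (∃ n ∈ [12, 15, 7], g ^ n = 1) ∨
    (∃ u ∈ szExt, ∃ e m : ℕ, g ^ 13 = 1 ∧ g * u = u * wordU wordThirteen ^ e ∧
      (wordU wordThirteen ^ e) ^ m = wordU wordThirteen) := by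
  obtain ⟨i, hi, r, h, hr, hh, rfl⟩ := inCosets_of_mem hg
  obtain ⟨w, k, hw, hk, hwk⟩ := rep_dbl i hi
  obtain rfl : r = w * wordU (dblWord k) := Units.ext (hr.trans hwk.symm)
  have hconj : SemiconjBy w (wordU (dblWord k) * (h * w)) (w * wordU (dblWord k) * h) := by
    simp only [SemiconjBy, mul_assoc]
  have htr : ∀ n : ℕ, (wordU (dblWord k) * (h * w)) ^ n = 1 → (w * wordU (dblWord k) * h) ^ n = 1 := by
    intro n hn
    have := hconj.pow_right n
    rw [hn, SemiconjBy, mul_one] at this
    exact mul_eq_right.1 this.symm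
  rcases dbl_stab_class hk (hh.mul hw) with ⟨n, hn, hp⟩ | ⟨u, hu, e, m, hp, hcu, hm⟩
  · exact Or.inl ⟨n, hn, htr n hp⟩
  · refine Or.inr ⟨w * u, mul_mem hw.mem hu, e, m, htr 13 hp, ?_, hm⟩
    rw [← mul_assoc, ← hconj.eq, mul_assoc, hcu, mul_assoc]

end Cfsg.Agent.Lib.SuzEightExt
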