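import Cfsg.Agent.Lib.SuzEightExt.Group

/-!
The module of twisted-semilinear endomorphisms of the natural module of Sz(8), on which the group
Sz(8):3 acts by conjugation: elements of order 13 fix no non-zero vector, some elements of order 5 and
7 do.
-/

set_option autoImplicit false

namespace Cfsg.Agent.Lib.SuzEightExt

open Cfsg.Agent.Lib.G2Natural

/-- Multiplication by the scalar. -/
noncomputable def scalarEnd : AddMonoid.End Bit12 := bitEnd scalar

/-- The endomorphisms semilinear for the fourth power automorphism. -/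
noncomputable def twistModule : AddSubgroup (AddMonoid.End Bit12) where
  carrier := {f | f * scalarEnd = scalarEnd ^ 4 * f}
  zero_mem' := by simp
  add_mem' {f g} (hf : _ = _) (hg : _ = _) := show (f + g) * _ = _ * (f + g) by rw [add_mul, mul_add, hf, hg]
  neg_mem' {f} (hf : _ = _) := show -f * _ = _ * -f by rw [neg_mul, mul_neg, hf]

theorem scalarFour_ok : eqR (powList scalar 4) scalarFour = true := by decide +kernel
theorem scalar_bounded : (boundedR scalar && boundedR scalarFour) = true := by decide +kernel
theorem scalar_length : scalarFour.length = scalar.length := by decide +kernel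
theorem semiX_ok : eqR (compR scalar genX) (compR genX (powList scalar 1)) = true := by decide +kernel
theorem semiY_ok : eqR (compR scalar genY) (compR genY (powList scalar 2)) = true := by decide +kernel
theorem twistInv_ok : eqR (compR twistInv (xorList scalarFour scalar)) bitId = true := by decide +kernel

theorem scalar_pow_four : scalarEnd ^ 4 = bitEnd scalarFour := by
  have h := scalar_bounded
  rw [Bool.and_eq_true] at h
  rw [scalarEnd, ← bitEnd_powList (bounded_of_boundedR h.1), eq_of_eqR scalarFour_ok]

/-- The elements normalising the group of scalars. -/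
def Semi (g : AddMonoid.End Bit12) : Prop := ∃ e : ℕ, scalarEnd * g = g * scalarEnd ^ e

theorem semi_of_mem {g : Auto12} (hg : g ∈ szExt) : Semi (g : AddMonoid.End Bit12) := by
  have := finite_auto12
  have hb := scalar_bounded
  rw [Bool.and_eq_true] at hb
  have hgb := gens_bounded
  simp only [Bool.and_eq_true] at hgb
  have hsc := bounded_of_boundedR hb.1
  have gen : ∀ (G : List ℕ) (e : ℕ), BitBounded G →
      eqR (compR scalar G) (compR G (powList scalar e)) = true → Semi (bitEnd G) := by
    intro G e hG h
    exact ⟨e, by rw [scalarEnd, ← bitEnd_compR hG, eq_of_eqR h, bitEnd_compR (powList_bounded hsc e),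
      bitEnd_powList hsc e]⟩
  rw [szExt, ← Subgroup.mem_toSubmonoid, Subgroup.closure_toSubmonoid_of_finite] at hg
  induction hg using Submonoid.closure_induction with
  | mem s hs =>
    rcases hs with rfl | rfl
    · exact gen genX 1 (bounded_of_boundedR hgb.1.1.1) semiX_ok
    · exact gen genY 2 (bounded_of_boundedR hgb.1.2) semiY_ok
  | one => exact ⟨1, by rw [Units.val_one, mul_one, one_mul, pow_one]⟩
  | mul g h _ _ ihg ihh =>
    obtain ⟨e, he⟩ := ihg
    obtain ⟨k, hk⟩ := ihh
    refine ⟨k * e, ?_⟩
    have h1 : SemiconjBy (h : AddMonoid.End Bit12) (scalarEnd ^ k) scalarEnd := hk.symm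
    have h2 := h1.pow_right e
    rw [← pow_mul] at h2
    rw [Units.val_mul, ← mul_assoc, he, mul_assoc, ← h2.eq, mul_assoc]

theorem conj_mem {g : Auto12} (hg : g ∈ szExt) {f : AddMonoid.End Bit12} (hf : f ∈ twistModule) :
    (g : AddMonoid.End Bit12) * f * (g⁻¹ : Auto12) ∈ twistModule := by
  obtain ⟨e, he⟩ := semi_of_mem hg
  change f * scalarEnd = scalarEnd ^ 4 * f at hf
  show _ * scalarEnd = scalarEnd ^ 4 * _
  have h1 : ((g⁻¹ : Auto12) : AddMonoid.End Bit12) * scalarEnd = scalarEnd ^ e * (g⁻¹ : Auto12) := by
    calc ((g⁻¹ : Auto12) : AddMonoid.End Bit12) * scalarEnd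
        = (g⁻¹ : Auto12) * (scalarEnd * g) * (g⁻¹ : Auto12) := by
          rw [mul_assoc, mul_assoc, Units.mul_inv, mul_one]
      _ = scalarEnd ^ e * (g⁻¹ : Auto12) := by rw [he, ← mul_assoc _ (g : AddMonoid.End Bit12), Units.inv_mul, one_mul]
  have h2 : f * scalarEnd ^ e = (scalarEnd ^ 4) ^ e * f :=
    (show SemiconjBy f scalarEnd (scalarEnd ^ 4) from hf).pow_right e
  have h3 : (g : AddMonoid.End Bit12) * (scalarEnd ^ e) ^ 4 = scalarEnd ^ 4 * g :=
    (show SemiconjBy (g : AddMonoid.End Bit12) (scalarEnd ^ e) scalarEnd from he.symm).pow_right 4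
  rw [← pow_mul, mul_comm, pow_mul] at h3
  calc (g : AddMonoid.End Bit12) * f * (g⁻¹ : Auto12) * scalarEnd
      = g * (f * scalarEnd ^ e) * (g⁻¹ : Auto12) := by rw [mul_assoc, h1]; simp only [mul_assoc]
    _ = (g * (scalarEnd ^ 4) ^ e) * f * (g⁻¹ : Auto12) := by rw [h2]; simp only [mul_assoc]
    _ = _ := by rw [h3]; simp only [mul_assoc]

/-- The action. -/
noncomputable def twistAct : szExt →* AddMonoid.End twistModule where
  toFun g :=
    { toFun := fun f => ⟨(g.1 : AddMonoid.End Bit12) * f.1 * (g.1⁻¹ : Auto12), conj_mem g.2 f.2⟩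
      map_zero' := Subtype.ext (by simp)
      map_add' := fun a b => Subtype.ext (by simp [mul_add, add_mul]) }
  map_one' := by
    refine AddMonoidHom.ext fun f => Subtype.ext ?_
    show ((1 : Auto12) : AddMonoid.End Bit12) * f.1 * ((1 : Auto12)⁻¹ : Auto12) = f.1
    rw [inv_one, Units.val_one, one_mul, mul_one]
  map_mul' g h := by
    refine AddMonoidHom.ext fun f => Subtype.ext ?_
    show ((g.1 * h.1 : Auto12) : AddMonoid.End Bit12) * f.1 * ((g.1 * h.1)⁻¹ : Auto12) =
      g.1 * (h.1 * f.1 * (h.1⁻¹ : Auto12)) * (g.1⁻¹ : Auto12)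
    rw [mul_inv_rev, Units.val_mul, Units.val_mul]
    simp only [mul_assoc]

theorem twistAct_fixed_iff (g : szExt) (f : twistModule) :
    twistAct g f = f ↔ Commute (g.1 : AddMonoid.End Bit12) f.1 := by
  rw [Subtype.ext_iff]
  show (g.1 : AddMonoid.End Bit12) * f.1 * (g.1⁻¹ : Auto12) = f.1 ↔ _
  rw [Units.mul_inv_eq_iff_eq_mul]
  rfl

theorem two_nsmul_end (f : AddMonoid.End Bit12) : 2 • f = 0 :=
  AddMonoidHom.ext fun a => two_nsmul_bit12 (f a)

/-- Sum of powers of a map. -/
noncomputable def polyList (A : List ℕ) : List ℕ → List ℕ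
  | [] => List.replicate 12 0
  | k :: l => xorList (powList A k) (polyList A l)

theorem poly_lengths : ((List.range 12).all fun k => Nat.beq (powList (wordL wordThirteen) k).length 12) = true := by
  decide +kernel
theorem poly_ok : eqR (polyList (wordL wordThirteen) [2, 3, 4, 6, 7, 9, 10, 11]) scalar = true := by decide +kernel

attribute [local irreducible] compR wordL powList bitEnd eqR boundedR

theorem length_xorList : ∀ (A B : List ℕ), A.length = B.length → (xorList A B).length = A.length
  | [], [], _ => rfl
  | [], _ :: _, h => by simp at h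
  | _ :: _, [], h => by simp at h
  | a :: A, b :: B, h => by simp [xorList, length_xorList A B (by simpa using h)]

theorem commute_polyList {A : List ℕ} (hA : BitBounded A) {f : AddMonoid.End Bit12}
    (hf : Commute f (bitEnd A)) : ∀ l : List ℕ, (∀ k ∈ l, (powList A k).length = 12) →
      Commute f (bitEnd (polyList A l)) ∧ (polyList A l).length = 12 ∧ BitBounded (polyList A l)
  | [], _ => by
    have hb : BitBounded (List.replicate 12 0) := by unfold BitBounded; simp
    have h0 : ∀ (n v : ℕ), bitApply (List.replicate n 0) v = 0 := by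
      intro n
      induction n with
      | zero => intro v; rfl
      | succ n ih => intro v; rw [List.replicate_succ, bitApply, ih]; simp
    refine ⟨?_, rfl, hb⟩
    have : bitEnd (List.replicate 12 0) = 0 := AddMonoidHom.ext fun a => bit12_ext ((bitEnd_code hb a).trans (h0 _ _))
    rw [polyList, this]
    exact Commute.zero_right f
  | k :: l, h => by
    obtain ⟨h1, h2, h3⟩ := commute_polyList hA hf l fun j hj => h j (List.mem_cons_of_mem _ hj)
    have hk := h k List.mem_cons_self
    have hlen : (powList A k).length = (polyList A l).length := hk.trans h2.symm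
    rw [polyList]
    refine ⟨?_, (length_xorList _ _ hlen).trans hk, bitBounded_xorList (powList_bounded hA k) h3⟩
    rw [bitEnd_xorList hlen (powList_bounded hA k) h3, bitEnd_powList hA]
    exact (hf.pow_right k).add_right h1

/-- The fixed element of order thirteen fixes no non-zero vector. -/
theorem thirteen_fpf {f : AddMonoid.End Bit12} (hf : f ∈ twistModule)
    (hc : Commute ((wordU wordThirteen : Auto12) : AddMonoid.End Bit12) f) : f = 0 := by
  change f * scalarEnd = scalarEnd ^ 4 * f at hf
  rw [← bitEnd_wordL] at hc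
  obtain ⟨h1, -, -⟩ := commute_polyList (wordL_bounded wordThirteen) hc.symm [2, 3, 4, 6, 7, 9, 10, 11] (by
    intro k hk
    refine Nat.eq_of_beq_eq_true (of_range_all poly_lengths ?_)
    simp at hk; omega)
  rw [eq_of_eqR poly_ok] at h1
  have h2 : (bitEnd scalarFour + bitEnd scalar) * f = 0 := by
    rw [add_mul, ← scalar_pow_four, ← hf, show f * scalarEnd = scalarEnd * f from h1]
    show scalarEnd * f + scalarEnd * f = 0
    rw [← two_nsmul]
    exact two_nsmul_end _
  have hb := scalar_bounded
  rw [Bool.and_eq_true] at hb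
  have h3 : bitEnd twistInv * (bitEnd scalarFour + bitEnd scalar) = 1 := by
    rw [← bitEnd_xorList scalar_length (bounded_of_boundedR hb.2) (bounded_of_boundedR hb.1),
      ← bitEnd_compR (bitBounded_xorList (bounded_of_boundedR hb.2) (bounded_of_boundedR hb.1)),
      eq_of_eqR twistInv_ok, bitEnd_id]
  calc f = bitEnd twistInv * (bitEnd scalarFour + bitEnd scalar) * f := by rw [h3, one_mul]
    _ = 0 := by rw [mul_assoc, h2, mul_zero]

/-- Every fixed-point-free fact for order thirteen: conjugation reduces to the fixed element. -/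
theorem fixed_order_ne_thirteen (g : szExt) (f : twistModule) (hf : f ≠ 0) (hfix : twistAct g f = f) :
    orderOf g ≠ 13 := by
  intro hord
  rcases class_of_mem g.2 with ⟨n, hn, hp⟩ | ⟨u, hu, e, m, -, hcu, hm⟩
  · have hd : orderOf g ∣ n := orderOf_dvd_of_pow_eq_one (Subtype.ext hp)
    rw [hord] at hd
    simp at hn
    rcases hn with rfl | rfl | rfl <;> norm_num at hd
  · have hfix' := hfix
    rw [twistAct_fixed_iff] at hfix'
    apply hf
    have hmem := conj_mem (inv_mem hu) f.2
    rw [inv_inv] at hmem
    set f' := ((u⁻¹ : Auto12) : AddMonoid.End Bit12) * f.1 * (u : AddMonoid.End Bit12) with hf'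
    have hce : Commute ((wordU wordThirteen ^ e : Auto12) : AddMonoid.End Bit12) f' := by
      have e1 : wordU wordThirteen ^ e = u⁻¹ * g.1 * u := by rw [mul_assoc, hcu, inv_mul_cancel_left]
      have c1 : ∀ X : AddMonoid.End Bit12,
          (u : AddMonoid.End Bit12) * ((u⁻¹ : Auto12) * X) = X := fun X => by
        rw [← mul_assoc, Units.mul_inv, one_mul]
      show _ * f' = f' * _
      rw [e1, Units.val_mul, Units.val_mul, hf']
      simp only [mul_assoc, c1]
      rw [← mul_assoc (g.1 : AddMonoid.End Bit12), hfix'.eq, mul_assoc]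
    have hcx : Commute ((wordU wordThirteen : Auto12) : AddMonoid.End Bit12) f' := by
      rw [← hm, Units.val_pow_eq_pow_val]
      exact hce.pow_left m
    have h0 := thirteen_fpf hmem hcx
    apply Subtype.ext
    have : f.1 = (u : AddMonoid.End Bit12) * f' * (u⁻¹ : Auto12) := by
      simp only [hf', mul_assoc, Units.mul_inv, mul_one]
      rw [← mul_assoc, Units.mul_inv, one_mul]
    rw [this, h0]
    simp

theorem fixed_ok (W F : List ℕ) (hW : BitBounded W) (hF : boundedR F = true)
    (hV : eqR (compR F scalar) (compR scalarFour F) = true) (hc : eqR (compR W F) (compR F W) = true)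
    (h1 : bitApply F 1 ≠ 0) :
    ∃ f : twistModule, f ≠ 0 ∧ Commute (bitEnd W) f.1 := by
  have hb := scalar_bounded
  rw [Bool.and_eq_true] at hb
  have hF' := bounded_of_boundedR hF
  refine ⟨⟨bitEnd F, ?_⟩, ?_, ?_⟩
  · show bitEnd F * scalarEnd = scalarEnd ^ 4 * bitEnd F
    rw [scalar_pow_four, scalarEnd, ← bitEnd_compR (bounded_of_boundedR hb.1), eq_of_eqR hV, bitEnd_compR hF']
  · intro h
    have := congrArg (fun f : twistModule => ((f.1 : AddMonoid.End Bit12) (bit12 1)).code.val) h
    simp only [ZeroMemClass.coe_zero, AddMonoidHom.zero_apply] at this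
    refine h1 ?_
    rw [← bit12_code (show (1:ℕ) < 4096 by norm_num), ← bitEnd_code hF']
    exact this
  · show bitEnd W * bitEnd F = bitEnd F * bitEnd W
    rw [← bitEnd_compR hF', eq_of_eqR hc, bitEnd_compR hW]

end Cfsg.Agent.Lib.SuzEightExt
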